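/-
Kernel checks for colour certificates on coset tables: an element is a vector of images, the colour vector of a
point is the pull back of an invariant class vector, and searches for elements `g` with `g * σ = σ' * g` are trees
of candidate lists whose completeness is checked with lane-wise colour equations.
Main definitions: `withEnv`, `withC`, `treeNode`, `rigidOK`, `runOK`.
-/
import Cfsg.Agent.EqLemmas
import Cfsg.Agent.Lib.CosetEnum.Order

set_option autoImplicit false

namespace Cfsg.Agent.OutColour

open Cfsg.Agent.CosetEnum

/-- Forced constants: lane width, ones, ones below the degree, class vector and letter vectors. -/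
structure Env where
  B : ℕ
  one : ℕ
  blw : ℕ
  cls : ℕ
  L : List ℕ

/-- A level of a search: start mask and the orbit of the chosen point with colour vectors. -/
abbrev Level : Type := ℕ × List (ℕ × ℕ)

/-- A search state: assigned points `u ↦ v` with their colour vectors. -/
abbrev St : Type := List ((ℕ × ℕ) × (ℕ × ℕ))

/-- Marks one lane. -/
noncomputable def bit (B i : ℕ) : ℕ := Nat.shiftLeft 1 (Nat.mul i B)

/-- Image of a point under a word of element vectors. -/
noncomputable def walk (B : ℕ) (Vs : List ℕ) (w : List ℕ) : ℕ → ℕ :=
  List.rec (motive := fun _ => ℕ → ℕ) (fun i => i)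
    (fun a _ ih i => force (lane B (Vs.getD a 0) i) fun j => ih j) w

/-- The lanes of `M` in which `X` and `Y` agree. -/
noncomputable def eqv (B one M X Y : ℕ) : ℕ :=
  Nat.land M (Nat.land (vge B one X Y) (vge B one Y X))

/-- The lanes of `M` in which `C` equals `c`. -/
noncomputable def eqm (B one M C c : ℕ) : ℕ :=
  force (Nat.mul one c) fun K => eqv B one M C K

/-- Evaluates the vectors of some words. -/
noncomputable def withTraces (D : Data) : List (List ℕ) → (List ℕ → Bool) → Bool := fun ws =>
  List.rec (motive := fun _ => (List ℕ → Bool) → Bool) (fun K => K [])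
    (fun w _ ih K => (w.all fun a => Nat.blt a D.k) && force (D.trace w) fun V => ih fun l => K (V :: l)) ws

/-- Sets up the constants. -/
noncomputable def withEnv (D : Data) (cls : ℕ) (K : Env → Bool) : Bool :=
  force D.one fun one => force (below D.B D.n one) fun bl => force cls fun c =>
    Nat.blt 1 D.B && D.guardOK c && withTraces D ((List.range D.k).map fun a => [a]) fun L => K ⟨D.B, one, bl, c, L⟩

/-- The class vector is invariant under the given words. -/
noncomputable def clsOK (D : Data) (E : Env) (hw : List (List ℕ)) : Bool :=
  hw.all fun w => (w.all fun a => Nat.blt a D.k) && Nat.beq (D.pull w E.cls) E.cls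

/-- The colour vector of `u`, given a word from `0` to `u`. -/
noncomputable def withC (D : Data) (E : Env) (u : ℕ) (w : List ℕ) (K : ℕ → Bool) : Bool :=
  (w.all fun a => Nat.blt a D.k) &&
    (Nat.beq (walk E.B E.L w 0) u && force (D.pull (D.winv w) E.cls) K)

/-- The orbit of `u` with colour vectors. -/
noncomputable def withOrb (D : Data) (E : Env) (S : ℕ) :
    List (List ℕ) → ℕ → (List (ℕ × ℕ) → Bool) → Bool := fun ws =>
  List.rec (motive := fun _ => ℕ → (List (ℕ × ℕ) → Bool) → Bool) (fun _ K => K [])
    (fun w _ ih u K => withC D E u w fun C => force (lane E.B S u) fun u' => ih u' fun l => K ((u, C) :: l)) ws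

/-- Vector of the `m`-th power of an element. -/
noncomputable def powVec (D : Data) (w : List ℕ) (m : ℕ) : ℕ :=
  Nat.rec (motive := fun _ => ℕ) D.idv (fun _ ih => force ih fun V => D.pull w V) m

/-- Candidates for the image of a point of period `m`. -/
noncomputable def periodMask (D : Data) (E : Env) (w : List ℕ) (m : ℕ) : ℕ :=
  force (powVec D w m) fun V => force D.idv fun I => eqv E.B E.one E.blw V I

/-- Builds the levels from (point, use the period, words of the orbit). -/
noncomputable def withLevels (D : Data) (E : Env) (S1 : ℕ) (w2 : List ℕ) :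
    List (ℕ × Bool × List (List ℕ)) → (List Level → Bool) → Bool := fun ls =>
  List.rec (motive := fun _ => (List Level → Bool) → Bool) (fun K => K [])
    (fun l _ ih K => Nat.blt 0 l.2.2.length && ((!l.2.1 || Nat.beq (walk E.B [S1] (List.replicate l.2.2.length 0) l.1) l.1) &&
      force (bif l.2.1 then periodMask D E w2 l.2.2.length else E.blw) fun P =>
        withOrb D E S1 l.2.2 l.1 fun o => ih fun r => K ((P, o) :: r))) ls

/-- Candidates for the image of `q`. -/
noncomputable def candMask (B one : ℕ) (st : St) (q M : ℕ) : ℕ :=
  List.rec (motive := fun _ => ℕ) M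
    (fun e _ ih => force ih fun M => eqm B one M e.2.2 (lane B e.1.2 q)) st

/-- A search tree in first-child / next-sibling form. -/
inductive Tree (α : Type) : Type
  | nil : Tree α
  | leaf (a : α) : Tree α
  | kid (c : ℕ) (ws : List (List ℕ)) (child sib : Tree α) : Tree α

/-- The mask of the children. -/
noncomputable def kidsMask {α : Type} (B : ℕ) (t : Tree α) : ℕ :=
  Tree.rec (motive := fun _ => ℕ) 0 (fun _ => 0)
    (fun c _ _ _ _ ih => force ih fun M => Nat.lor (bit B c) M) t

/-- Colour test of a candidate orbit against the orbit of the chosen point. -/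
noncomputable def orbTest (B S2 Cc Cq : ℕ) : List (ℕ × ℕ) → ℕ → Bool := fun os =>
  List.rec (motive := fun _ => ℕ → Bool) (fun _ => true)
    (fun o _ ih v => Nat.beq (lane B Cc v) (lane B Cq o.1) && force (lane B S2 v) fun v' => ih v') os

/-- Adds the orbit of a candidate to the state. -/
noncomputable def withExt (D : Data) (E : Env) (S2 : ℕ) :
    List (ℕ × ℕ) → List (List ℕ) → ℕ → St → (St → Bool) → Bool := fun os =>
  List.rec (motive := fun _ => List (List ℕ) → ℕ → St → (St → Bool) → Bool)
    (fun _ _ acc K => K acc)
    (fun o _ ih ws v acc K => withC D E v (ws.headD []) fun C =>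
      force (lane E.B S2 v) fun v' => ih ws.tail v' ((o, (v, C)) :: acc) K) os

/-- A node: either a leaf at the bottom, or the children cover all candidates. -/
noncomputable def nodeCond {α : Type} (B one : ℕ) (t : Tree α) : List Level → St → Bool := fun ls st =>
  List.rec (motive := fun _ => Bool)
    (Tree.rec (motive := fun _ => Bool) false (fun _ => true) (fun _ _ _ _ _ _ => false) t)
    (fun l _ _ => Nat.beq (candMask B one st (l.2.headD (0, 0)).1 l.1) (kidsMask B t)) ls

/-- One candidate. -/
noncomputable def kidOK (D : Data) (E : Env) (S2 : ℕ) (os : List (ℕ × ℕ)) (c : ℕ) (ws : List (List ℕ))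
    (st : St) (K : St → Bool) : Bool :=
  Nat.blt c D.n && withC D E c (ws.headD []) fun Cc =>
    bif orbTest E.B S2 Cc (os.headD (0, 0)).2 os c then withExt D E S2 os ws c st K else true

/-- The check of a list of siblings. -/
noncomputable def treeGo {α : Type} (D : Data) (E : Env) (S2 : ℕ) (ok : α → St → Bool) (t : Tree α) :
    List Level → St → Bool :=
  Tree.rec (motive := fun _ => List Level → St → Bool)
    (fun _ _ => true)
    (fun a ls st => List.rec (motive := fun _ => Bool) (ok a st) (fun _ _ _ => false) ls)
    (fun c ws child _ ihc ihs ls st => List.rec (motive := fun _ => Bool) false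
      (fun l rest _ => kidOK D E S2 l.2 c ws st
        (fun st' => nodeCond E.B E.one child rest st' && ihc rest st') && ihs (l :: rest) st) ls) t

/-- The check of a node. -/
noncomputable def treeNode {α : Type} (D : Data) (E : Env) (S2 : ℕ) (ok : α → St → Bool) (t : Tree α)
    (ls : List Level) (st : St) : Bool :=
  nodeCond E.B E.one t ls st && treeGo D E S2 ok t ls st

/-- The translates of the first candidates by powers of an element cover all points. -/
noncomputable def coverMask {α : Type} (B X p : ℕ) (t : Tree α) : ℕ :=
  Tree.rec (motive := fun _ => ℕ) 0 (fun _ => 0)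
    (fun c _ _ _ _ ih => force ih fun M =>
      Nat.rec (motive := fun _ => ℕ → ℕ → ℕ) (fun _ M => M)
        (fun _ g v M => force (Nat.lor (bit B v) M) fun M' => force (lane B X v) fun v' => g v' M') p c M) t

/-- Colour codes over a list of points determine the roots. -/
noncomputable def rigidOK (E : Env) (O : List (ℕ × ℕ)) (roots : List ℕ) : Bool :=
  roots.all fun b => Nat.beq (List.rec (motive := fun _ => ℕ) E.blw
    (fun o _ ih => force ih fun M => eqm E.B E.one M o.2 (lane E.B o.2 b)) O) (bit E.B b)

/-- The candidates for an image forced by some assigned points. -/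
noncomputable def forcedMask (E : Env) (st : St) (v : ℕ) (idx : List ℕ) : ℕ :=
  List.rec (motive := fun _ => ℕ) E.blw
    (fun k _ ih => force ih fun M =>
      eqm E.B E.one M (st.getD k ((0, 0), (0, 0))).2.2 (lane E.B (st.getD k ((0, 0), (0, 0))).1.2 v)) idx

/-- Follows the word `R` in letters `x, y, g`; succeeds if the word cannot fix the start point. -/
noncomputable def runOK (E : Env) (st : St) (Vx Vy p0 : ℕ) (R : List ℕ) :
    List (ℕ × List ℕ) → ℕ → Bool :=
  List.rec (motive := fun _ => List (ℕ × List ℕ) → ℕ → Bool) (fun _ v => !Nat.beq v p0)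
    (fun a _ ih steps v =>
      bif Nat.beq a 0 then force (lane E.B Vx v) fun v' => ih steps v' else
      bif Nat.beq a 1 then force (lane E.B Vy v) fun v' => ih steps v' else
      bif Nat.beq a 2 then
        (((steps.headD (0, [])).2.all fun k => Nat.blt k st.length) &&
        force (forcedMask E st v (steps.headD (0, [])).2) fun M =>
          Nat.beq M 0 || (Nat.beq M (bit E.B (steps.headD (0, [])).1) &&
            ih steps.tail (steps.headD (0, [])).1))
      else false) R

end Cfsg.Agent.OutColour
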