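/-
Soundness of the colour certificates.
Main results: `Ctx.colour_eq`, `Ctx.node_sound`, `Ctx.cover_sound`, `Ctx.rigid_sound`, `Ctx.run_sound`.
-/
import Cfsg.Agent.Lib.OutColour.Check

set_option autoImplicit false

namespace Cfsg.Agent.OutColour

open Cfsg.Agent.CosetEnum
open Cfsg.Agent.CosetEnum.Data (ev)

/-- The lane `v` of a mask is marked. -/
def Has (B M v : ℕ) : Prop := M.testBit (v * B) = true

theorem has_bit {B c v : ℕ} (hB : 0 < B) : Has B (bit B c) v ↔ v = c := by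
  show (1 <<< (c * B)).testBit (v * B) = true ↔ _
  rw [Nat.one_shiftLeft, Nat.testBit_two_pow, decide_eq_true_eq]
  exact ⟨fun h => (Nat.eq_of_mul_eq_mul_right hB h).symm, fun h => by rw [h]⟩

theorem has_lor {B M M' v : ℕ} : Has B (Nat.lor M M') v ↔ Has B M v ∨ Has B M' v := by
  show (M ||| M').testBit (v * B) = true ↔ _
  rw [Nat.testBit_lor, Bool.or_eq_true]
  rfl

theorem not_has_zero {B v : ℕ} : ¬ Has B 0 v := by
  show ¬ (0 : ℕ).testBit (v * B) = true
  simp

theorem has_pack {B N v : ℕ} (hB : 0 < B) {f : ℕ → ℕ} (hf : ∀ i < N, f i < 2 ^ B) (hv : v < N)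
    (h1 : f v = 1) : Has B (pack B N f) v := by
  show (pack B N f).testBit (v * B) = true
  rw [testBit_pack hB hf, Nat.mul_div_cancel _ hB, Nat.mul_mod_left, h1]
  simp [hv]

theorem has_eqv {B N v M : ℕ} (hB : 1 < B) {f g : ℕ → ℕ} (hf : ∀ i < N, f i < 2 ^ (B - 1))
    (hg : ∀ i < N, g i < 2 ^ (B - 1)) (hv : v < N) (hM : Has B M v) (he : f v = g v) :
    Has B (eqv B (pack B N fun _ => 1) M (pack B N f) (pack B N g)) v := by
  have hB0 : 0 < B := by omega
  have hb : ∀ p : ℕ → ℕ → Prop, ∀ [DecidableRel p], ∀ i < N, (if p (g i) (f i) then 1 else 0) < 2 ^ B := by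
    intro p _ i _
    have : 1 < 2 ^ B := Nat.one_lt_two_pow (by omega)
    split <;> omega
  unfold eqv
  rw [vge_eq hB0 hf hg, vge_eq hB0 hg hf]
  show (M &&& (pack B N _ &&& pack B N _)).testBit (v * B) = true
  rw [Nat.testBit_land, Nat.testBit_land, Bool.and_eq_true, Bool.and_eq_true]
  exact ⟨hM, has_pack hB0 (hb (fun a b => a ≤ b)) hv (by rw [if_pos he.ge]),
    has_pack hB0 (hb (fun a b => b ≤ a)) hv (by rw [if_pos he.le])⟩

/-- A vector with the given values on the points. -/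
def LanesOf (D : Data) (V : ℕ) (φ : ℕ → ℕ) : Prop :=
  ∃ f, V = pack D.B (2 ^ D.lg) f ∧ (∀ i < 2 ^ D.lg, f i < 2 ^ D.lg) ∧ ∀ i < D.n, f i = φ i

/-- What a certificate needs to know about the group and its action on the table. -/
structure Ctx (G : Type) [Group G] (D : Data) (E : Env) where
  hp : D.PermFacts
  el : ℕ → G
  ρ : G →* Equiv.Perm (Fin D.n)
  hel : ∀ a < D.k, ρ (el a) = Setup.perm D hp a
  hB : E.B = D.B
  hB1 : 1 < D.B
  hone : E.one = pack D.B (2 ^ D.lg) fun _ => 1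
  hblw : E.blw = pack D.B (2 ^ D.lg) fun i => if i < D.n then 1 else 0
  hcls : ∃ f, E.cls = pack D.B (2 ^ D.lg) f ∧ ∀ i < 2 ^ D.lg, f i < 2 ^ (D.B - 1)
  hL : ∀ a < D.k, LanesOf D (E.L.getD a 0) fun i => D.act a i

namespace Ctx

variable {G : Type} [Group G] {D : Data} {E : Env} (C : Ctx G D E)

/-- The image of a point. -/
def pt (g : G) (i : ℕ) : ℕ := if h : i < D.n then ((C.ρ g ⟨i, h⟩ : Fin D.n) : ℕ) else i

theorem pt_val (g : G) (i : Fin D.n) : C.pt g i = (C.ρ g i : ℕ) := by simp [pt]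

theorem pt_lt {g : G} {i : ℕ} (h : i < D.n) : C.pt g i < D.n := by simp [pt, h]

theorem pt_mul (g h : G) (i : ℕ) : C.pt (g * h) i = C.pt g (C.pt h i) := by
  by_cases hi : i < D.n
  · simp [pt, hi]
  · simp [pt, hi]

theorem pt_one (i : ℕ) : C.pt 1 i = i := by by_cases hi : i < D.n <;> simp [pt, hi]

theorem pt_inv (g : G) (i : ℕ) : C.pt g⁻¹ (C.pt g i) = i := by
  rw [← pt_mul, inv_mul_cancel, pt_one]

theorem pt_inv' (g : G) (i : ℕ) : C.pt g (C.pt g⁻¹ i) = i := by
  rw [← pt_mul, mul_inv_cancel, pt_one]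

theorem pt_inj {g : G} {i j : ℕ} (h : C.pt g i = C.pt g j) : i = j := by
  rw [← C.pt_inv g i, h, pt_inv]

theorem ev_rho (w : List ℕ) (hw : ∀ a ∈ w, a < D.k) :
    C.ρ (ev C.el w) = ev (Setup.perm D C.hp) w := by
  induction w with
  | nil => exact map_one _
  | cons a v ih =>
    show C.ρ (ev C.el v * C.el a) = ev (Setup.perm D C.hp) v * Setup.perm D C.hp a
    rw [map_mul, ih fun b hb => hw b (List.mem_cons_of_mem a hb), C.hel a (hw a List.mem_cons_self)]

theorem pt_ev {w : List ℕ} (hw : ∀ a ∈ w, a < D.k) {i : ℕ} (hi : i < D.n) :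
    C.pt (ev C.el w) i = D.tw w i := by
  rw [pt, dif_pos hi, C.ev_rho w hw, Setup.ev_perm C.hp w hw]

/-- The vector of an element. -/
def Is (V : ℕ) (g : G) : Prop := LanesOf D V (C.pt g)

theorem lane_of {V : ℕ} {φ : ℕ → ℕ} (h : LanesOf D V φ) {i : ℕ} (hi : i < D.n) (hp : D.PermFacts) :
    lane D.B V i = φ i := by
  obtain ⟨f, rfl, hf, he⟩ := h
  have := hp.hlg
  rw [lane_pack hp.hB (fun j hj => self_lt_two_pow_of_lt (by omega) (hf j hj))
    (lt_of_lt_of_le hi hp.hnN), he i hi]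

theorem lane_is {V : ℕ} {g : G} (h : C.Is V g) {i : ℕ} (hi : i < D.n) : lane E.B V i = C.pt g i := by
  rw [C.hB]
  exact lane_of h hi C.hp

theorem is_idv : C.Is D.idv 1 :=
  ⟨fun i => i, ramp_eq D.B D.lg, fun _ h => h, fun i _ => (C.pt_one i).symm⟩

theorem is_trace {w : List ℕ} (hw : ∀ a ∈ w, a < D.k) : C.Is (D.trace w) (ev C.el w) :=
  ⟨fun i => D.tw w i, Data.trace_eq C.hp w hw, fun i hi => Data.tw_lt C.hp w hw i hi,
    fun _ hi => (C.pt_ev hw hi).symm⟩

theorem is_letter {a : ℕ} (ha : a < D.k) : C.Is (E.L.getD a 0) (C.el a) := by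
  obtain ⟨f, h1, h2, h3⟩ := C.hL a ha
  refine ⟨f, h1, h2, fun i hi => ?_⟩
  rw [h3 i hi, show C.el a = ev C.el [a] from (one_mul _).symm,
    C.pt_ev (fun b hb => by rw [List.mem_singleton.1 hb]; exact ha) hi]
  rfl

theorem is_pull {V : ℕ} {g : G} (h : C.Is V g) {w : List ℕ} (hw : ∀ a ∈ w, a < D.k) :
    C.Is (D.pull w V) (g * ev C.el w) := by
  obtain ⟨f, rfl, hf, he⟩ := h
  have := C.hp.hlg
  refine ⟨fun i => f (D.tw w i), Data.pull_eq C.hp w hw f fun i hi =>
      self_lt_two_pow_of_lt (by omega) (hf i hi),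
    fun i hi => hf _ (Data.tw_lt C.hp w hw i hi), fun i hi => ?_⟩
  show f (D.tw w i) = _
  rw [← C.pt_ev hw hi, pt_mul]
  exact he _ (C.pt_lt hi)

theorem is_pow {w : List ℕ} (hw : ∀ a ∈ w, a < D.k) :
    ∀ m, C.Is (powVec D w m) (ev C.el w ^ m)
  | 0 => by rw [pow_zero]; exact C.is_idv
  | m + 1 => by
    show C.Is (force (powVec D w m) fun V => D.pull w V) _
    rw [force_eq, pow_succ]
    exact C.is_pull (is_pow hw m) hw

theorem walk_cons (B : ℕ) (Vs : List ℕ) (a : ℕ) (w : List ℕ) (i : ℕ) :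
    walk B Vs (a :: w) i = walk B Vs w (lane B (Vs.getD a 0) i) := by
  show force (lane B (Vs.getD a 0) i) (fun j => walk B Vs w j) = _
  rw [force_eq]

theorem walk_eq {Vs : List ℕ} {gs : ℕ → G} : ∀ {w : List ℕ}, (∀ a ∈ w, C.Is (Vs.getD a 0) (gs a)) →
    ∀ {i : ℕ}, i < D.n → walk E.B Vs w i = C.pt (ev gs w) i
  | [], _, i, _ => (C.pt_one i).symm
  | a :: w, h, i, hi => by
    rw [walk_cons, C.lane_is (h a List.mem_cons_self) hi,
      walk_eq (w := w) (fun b hb => h b (List.mem_cons_of_mem a hb)) (C.pt_lt hi),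
      show ev gs (a :: w) = ev gs w * gs a from rfl, pt_mul]

theorem walk_letters {w : List ℕ} (hw : ∀ a ∈ w, a < D.k) {i : ℕ} (hi : i < D.n) :
    walk E.B E.L w i = C.pt (ev C.el w) i :=
  C.walk_eq (fun a ha => C.is_letter (hw a ha)) hi

/-- The class vector is invariant under the stabiliser of the base point. -/
def Invariant : Prop :=
  ∀ h : G, C.pt h 0 = 0 → ∀ i < D.n, lane D.B E.cls (C.pt h i) = lane D.B E.cls i

/-- The colour vector of `u`. -/
def IsCol (V u : ℕ) : Prop :=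
  ∃ (h : G) (f : ℕ → ℕ), C.pt h 0 = u ∧ V = pack D.B (2 ^ D.lg) f ∧
    (∀ i < 2 ^ D.lg, f i < 2 ^ (D.B - 1)) ∧ ∀ i < D.n, f i = lane D.B E.cls (C.pt h⁻¹ i)

theorem isCol_lt {V u : ℕ} (h : C.IsCol V u) : u < D.n := by
  obtain ⟨g, f, rfl, -⟩ := h
  exact C.pt_lt C.hp.hn

theorem half_le {i : ℕ} {V : ℕ → ℕ} (h : ∀ j < 2 ^ D.lg, V j < 2 ^ (D.B - 1)) (hi : i < 2 ^ D.lg) :
    V i < 2 ^ D.B := lt_of_lt_of_le (h i hi) (Nat.pow_le_pow_right (by norm_num) (Nat.sub_le _ _))

variable {C} in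
/-- Colours are invariant. -/
theorem colour_eq (hinv : C.Invariant) {Cu Cv u v : ℕ} (h1 : C.IsCol Cu u) (h2 : C.IsCol Cv v) {g : G}
    (hg : C.pt g u = v) {i : ℕ} (hi : i < D.n) : lane D.B Cv (C.pt g i) = lane D.B Cu i := by
  obtain ⟨a, fa, ha, rfl, hfa, hfa'⟩ := h1
  obtain ⟨b, fb, hb, rfl, hfb, hfb'⟩ := h2
  rw [lane_pack C.hp.hB (fun j hj => half_le hfb hj) (lt_of_lt_of_le (C.pt_lt hi) C.hp.hnN),
    lane_pack C.hp.hB (fun j hj => half_le hfa hj) (lt_of_lt_of_le hi C.hp.hnN), hfb' _ (C.pt_lt hi),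
    hfa' _ hi]
  have h0 : C.pt (b⁻¹ * g * a) 0 = 0 := by
    rw [pt_mul, pt_mul, ha, hg, ← hb, pt_inv]
  have := hinv _ h0 (C.pt a⁻¹ i) (C.pt_lt hi)
  rw [pt_mul, pt_mul, pt_inv'] at this
  exact this

theorem withC_spec {u : ℕ} {w : List ℕ} {K : ℕ → Bool} (h : withC D E u w K = true) :
    ∃ V, C.IsCol V u ∧ K V = true := by
  unfold withC at h
  simp only [Bool.and_eq_true, List.all_eq_true, Nat.blt_eq, beq_iff, force_eq] at h
  obtain ⟨hw, hu, hK⟩ := h
  obtain ⟨f, hf, hfb⟩ := C.hcls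
  refine ⟨_, ⟨ev C.el w, fun i => f (D.tw (D.winv w) i), ?_, ?_, ?_, ?_⟩, hK⟩
  · rw [← C.walk_letters hw C.hp.hn, hu]
  · rw [hf]
    exact Data.pull_eq C.hp _ (Data.winv_mem C.hp hw) f fun i hi => half_le hfb hi
  · exact fun i hi => hfb _ (Data.tw_lt C.hp _ (Data.winv_mem C.hp hw) i hi)
  · intro i hi
    have hwi := Data.winv_mem C.hp hw
    have hN := lt_of_lt_of_le hi C.hp.hnN
    have e : C.pt (ev C.el w)⁻¹ i = D.tw (D.winv w) i := by
      have h1 : D.tw (D.winv w) i < D.n := by rw [← C.pt_ev hwi hi]; exact C.pt_lt hi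
      conv_lhs => rw [← Data.tw_winv C.hp hw i hN, ← C.pt_ev hw h1]
      rw [pt_inv]
    rw [e, hf, lane_pack C.hp.hB (fun j hj => half_le hfb hj) (Data.tw_lt C.hp _ hwi i hN)]

/-- A list of points along an orbit with their colour vectors. -/
def IsOrb (s : G) : List (ℕ × ℕ) → ℕ → Prop
  | [], _ => True
  | o :: l, u => o.1 = u ∧ C.IsCol o.2 u ∧ IsOrb s l (C.pt s u)

theorem withOrb_spec {S : ℕ} {s : G} (hS : C.Is S s) : ∀ {ws : List (List ℕ)} {u : ℕ}
    {K : List (ℕ × ℕ) → Bool}, withOrb D E S ws u K = true →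
      ∃ l, C.IsOrb s l u ∧ l.length = ws.length ∧ K l = true
  | [], _, _, h => ⟨[], trivial, rfl, h⟩
  | w :: ws, u, K, h => by
    obtain ⟨V, hV, h⟩ := C.withC_spec (u := u) (w := w) h
    rw [force_eq] at h
    obtain ⟨l, hl, hlen, h⟩ := withOrb_spec hS (ws := ws) h
    refine ⟨(u, V) :: l, ⟨rfl, hV, ?_⟩, by simp [hlen], h⟩
    rwa [← C.lane_is hS (C.isCol_lt hV)]

/-- A level is sound. -/
def LevelOK (s1 s2 : G) (l : Level) : Prop :=
  ∃ q Cq os, l.2 = (q, Cq) :: os ∧ C.IsOrb s1 l.2 q ∧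
    ∀ g : G, g * s1 = s2 * g → Has E.B l.1 (C.pt g q)

include C in
theorem has_blw {v : ℕ} (hv : v < D.n) : Has E.B E.blw v := by
  rw [C.hB, C.hblw]
  refine has_pack C.hp.hB (fun i _ => ?_) (lt_of_lt_of_le hv C.hp.hnN) (if_pos hv)
  have : 1 < 2 ^ D.B := Nat.one_lt_two_pow (by have := C.hp.hB; omega)
  split <;> omega

include C in
theorem id_half {i : ℕ} (hi : i < 2 ^ D.lg) : i < 2 ^ (D.B - 1) :=
  lt_of_lt_of_le hi (Nat.pow_le_pow_right (by norm_num) (by have := C.hp.hlg; omega))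

theorem periodMask_spec {w : List ℕ} (hw : ∀ a ∈ w, a < D.k) (m : ℕ) {v : ℕ} (hv : v < D.n)
    (h : C.pt (ev C.el w ^ m) v = v) : Has E.B (periodMask D E w m) v := by
  obtain ⟨f, hf, hfb, hfv⟩ := C.is_pow hw m
  unfold periodMask
  rw [force_eq, force_eq, hf, show D.idv = _ from ramp_eq D.B D.lg, C.hB, C.hone]
  refine has_eqv C.hB1 (fun i hi => C.id_half (hfb i hi)) (fun i hi => C.id_half hi)
    (lt_of_lt_of_le hv C.hp.hnN) ?_ (by rw [hfv v hv, h])
  rw [← C.hB]
  exact C.has_blw hv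

theorem withLevels_spec {S1 : ℕ} {w2 : List ℕ} {s1 s2 : G} (hS : C.Is S1 s1)
    (hw : ∀ a ∈ w2, a < D.k) (hs2 : ev C.el w2 = s2) :
    ∀ {ls : List (ℕ × Bool × List (List ℕ))} {K : List Level → Bool},
      withLevels D E S1 w2 ls K = true → ∃ r, (∀ l ∈ r, C.LevelOK s1 s2 l) ∧ K r = true
  | [], K, h => ⟨[], fun _ hl => absurd hl List.not_mem_nil, h⟩
  | (q, fl, ws) :: ls, K, h => by
    change (Nat.blt 0 ws.length && ((!fl || Nat.beq (walk E.B [S1] (List.replicate ws.length 0) q) q) &&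
      force (bif fl then periodMask D E w2 ws.length else E.blw) fun P =>
        withOrb D E S1 ws q fun o => withLevels D E S1 w2 ls fun r => K ((P, o) :: r))) = true at h
    simp only [Bool.and_eq_true, Nat.blt_eq, Bool.or_eq_true, Bool.not_eq_true', beq_iff, force_eq] at h
    obtain ⟨hlen, hper, h⟩ := h
    obtain ⟨o, ho, holen, h⟩ := C.withOrb_spec hS h
    obtain ⟨r, hr, h⟩ := withLevels_spec hS hw hs2 h
    refine ⟨_, ?_, h⟩
    intro l hl
    rcases List.mem_cons.1 hl with rfl | hl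
    · rcases o with _ | ⟨⟨u, Cq⟩, os⟩
      · simp at holen; omega
      obtain ⟨rfl, hCq, hos⟩ := ho
      refine ⟨u, Cq, os, rfl, ⟨rfl, hCq, hos⟩, fun g hg => ?_⟩
      have hu := C.isCol_lt hCq
      cases fl
      · exact C.has_blw (C.pt_lt hu)
      · refine C.periodMask_spec hw _ (C.pt_lt hu) ?_
        have e : ∀ m, C.pt (s1 ^ m) u = walk E.B [S1] (List.replicate m 0) u := fun m => by
          rw [C.walk_eq (gs := fun _ => s1) (fun a ha => by rw [List.eq_of_mem_replicate ha]; exact hS) hu]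
          congr 1
          clear hper
          induction m with
          | zero => rw [pow_zero]; rfl
          | succ m ih => rw [List.replicate_succ, pow_succ, ih]; rfl
        have h2 : C.pt (s1 ^ ws.length) u = u := by
          rw [e]
          rcases hper with hper | hper
          · exact absurd hper (by simp)
          · exact hper
        rw [hs2, ← pt_mul, ← (SemiconjBy.pow_right hg ws.length : SemiconjBy g _ _).eq, pt_mul, h2]
    · exact hr l hl

/-- All assigned points carry their colour vectors. -/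
def StOK (st : St) : Prop := ∀ e ∈ st, C.IsCol e.1.2 e.1.1 ∧ C.IsCol e.2.2 e.2.1

/-- The element agrees with the assignment. -/
def Resp (g : G) (st : St) : Prop := ∀ e ∈ st, C.pt g e.1.1 = e.2.1

theorem lane_col_lt {V u i : ℕ} (h : C.IsCol V u) (hi : i < D.n) : lane D.B V i < 2 ^ (D.B - 1) := by
  obtain ⟨a, f, -, rfl, hf, -⟩ := h
  rw [lane_pack C.hp.hB (fun j hj => half_le hf hj) (lt_of_lt_of_le hi C.hp.hnN)]
  exact hf i (lt_of_lt_of_le hi C.hp.hnN)

theorem has_eqm {V u v c M : ℕ} (h : C.IsCol V u) (hv : v < D.n) (hM : Has E.B M v)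
    (hc : lane D.B V v = c) : Has E.B (eqm E.B E.one M V c) v := by
  have hc' : c < 2 ^ (D.B - 1) := hc ▸ C.lane_col_lt h hv
  obtain ⟨a, f, -, rfl, hf, -⟩ := h
  rw [lane_pack C.hp.hB (fun j hj => half_le hf hj) (lt_of_lt_of_le hv C.hp.hnN)] at hc
  rw [C.hB] at hM
  unfold eqm
  rw [force_eq, C.hB, C.hone, show Nat.mul (pack D.B (2 ^ D.lg) fun _ => 1) c
    = pack D.B (2 ^ D.lg) (fun i => 1 * c) from pack_mul _ _]
  exact has_eqv C.hB1 hf (fun i _ => by simpa using hc') (lt_of_lt_of_le hv C.hp.hnN) hM (by simpa using hc)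

theorem candMask_spec (hinv : C.Invariant) {g : G} {q : ℕ} (hq : q < D.n) :
    ∀ {st : St}, C.StOK st → C.Resp g st → ∀ {M : ℕ}, Has E.B M (C.pt g q) →
      Has E.B (candMask E.B E.one st q M) (C.pt g q)
  | [], _, _, _, h => h
  | e :: st, hst, hr, M, h => by
    show Has E.B (force (candMask E.B E.one st q M) fun M => eqm E.B E.one M e.2.2 (lane E.B e.1.2 q)) _
    rw [force_eq]
    obtain ⟨hu, hv⟩ := hst e List.mem_cons_self
    refine C.has_eqm hv (C.pt_lt hq) (candMask_spec hinv hq (fun x hx => hst x (List.mem_cons_of_mem e hx))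
      (fun x hx => hr x (List.mem_cons_of_mem e hx)) h) ?_
    rw [colour_eq hinv hu hv (hr e List.mem_cons_self) hq, C.hB]

theorem orbTest_spec (hinv : C.Invariant) {g s1 s2 : G} (hg : g * s1 = s2 * g) {S2 Cc Cq c q : ℕ}
    (hS : C.Is S2 s2) (hc : C.IsCol Cc c) (hq : C.IsCol Cq q) (hqc : C.pt g q = c) :
    ∀ {os : List (ℕ × ℕ)} {u : ℕ}, C.IsOrb s1 os u → u < D.n →
      orbTest E.B S2 Cc Cq os (C.pt g u) = true
  | [], _, _, _ => rfl
  | o :: os, u, h, hu => by
    obtain ⟨h1, -, h3⟩ := h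
    show (Nat.beq (lane E.B Cc (C.pt g u)) (lane E.B Cq o.1) &&
      force (lane E.B S2 (C.pt g u)) fun v' => orbTest E.B S2 Cc Cq os v') = true
    rw [force_eq, Bool.and_eq_true, beq_iff, C.lane_is hS (C.pt_lt hu), ← pt_mul, ← hg, pt_mul,
      C.hB, h1]
    refine ⟨colour_eq hinv hq hc hqc hu, ?_⟩
    rw [← C.hB]
    exact orbTest_spec hinv hg hS hc hq hqc h3 (C.pt_lt hu)

theorem withExt_spec {g s1 s2 : G} (hg : g * s1 = s2 * g) {S2 : ℕ} (hS : C.Is S2 s2) {K : St → Bool} :
    ∀ {os : List (ℕ × ℕ)} {u : ℕ} {ws : List (List ℕ)} {acc : St}, C.IsOrb s1 os u → u < D.n →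
      C.StOK acc → C.Resp g acc → withExt D E S2 os ws (C.pt g u) acc K = true →
        ∃ st, C.StOK st ∧ C.Resp g st ∧ K st = true
  | [], _, _, acc, _, _, h1, h2, h => ⟨acc, h1, h2, h⟩
  | o :: os, u, ws, acc, ho, hu, h1, h2, h => by
    obtain ⟨e1, e2, e3⟩ := ho
    obtain ⟨V, hV, h⟩ := C.withC_spec (u := C.pt g u) (w := ws.headD []) h
    rw [force_eq, C.lane_is hS (C.pt_lt hu), ← pt_mul, ← hg, pt_mul] at h
    refine withExt_spec hg hS e3 (C.pt_lt hu) ?_ ?_ h
    · intro e he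
      rcases List.mem_cons.1 he with rfl | he
      · exact ⟨e1 ▸ e2, hV⟩
      · exact h1 e he
    · intro e he
      rcases List.mem_cons.1 he with rfl | he
      · exact congrArg (C.pt g) e1
      · exact h2 e he

variable {α : Type}

/-- An element agreeing with a state reaches a leaf whose check succeeded. -/
def Reached (ok : α → St → Bool) (g : G) : Prop :=
  ∃ (a : α) (st : St), ok a st = true ∧ C.StOK st ∧ C.Resp g st

theorem treeGo_sound (hinv : C.Invariant) {g s1 s2 : G} (hg : g * s1 = s2 * g) {S2 : ℕ}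
    (hS : C.Is S2 s2) (ok : α → St → Bool) :
    ∀ (t : Tree α) (l : Level) (rest : List Level) (st : St),
      treeGo D E S2 ok t (l :: rest) st = true → (∀ x ∈ l :: rest, C.LevelOK s1 s2 x) →
      C.StOK st → C.Resp g st → Has E.B (kidsMask E.B t) (C.pt g (l.2.headD (0, 0)).1) →
      C.Reached ok g
  | .nil, _, _, _, _, _, _, _, h => absurd h not_has_zero
  | .leaf _, _, _, _, h, _, _, _, _ => absurd h (by simp [treeGo])
  | .kid c ws child sib, l, rest, st, h, hl, hst, hr, hc => by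
    change (kidOK D E S2 l.2 c ws st (fun st' => nodeCond E.B E.one child rest st' &&
      treeGo D E S2 ok child rest st') && treeGo D E S2 ok sib (l :: rest) st) = true at h
    rw [Bool.and_eq_true] at h
    change Has E.B (force (kidsMask E.B sib) fun M => Nat.lor (bit E.B c) M) _ at hc
    rw [force_eq, has_lor, has_bit (by rw [C.hB]; exact C.hp.hB)] at hc
    rcases hc with hc | hc
    swap
    · exact treeGo_sound hinv hg hS ok sib l rest st h.2 hl hst hr hc
    obtain ⟨q, Cq, os, hlq, ho, -⟩ := hl l List.mem_cons_self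
    obtain ⟨h1, -⟩ := h
    unfold kidOK at h1
    rw [Bool.and_eq_true] at h1
    obtain ⟨Cc, hCc, h1⟩ := C.withC_spec h1.2
    rw [hlq] at ho h1 hc
    have hqn := C.isCol_lt ho.2.1
    simp only [List.headD_cons] at h1 hc
    rw [← hc] at h1 hCc
    rw [C.orbTest_spec hinv hg hS hCc ho.2.1 rfl ho hqn, cond_true] at h1
    obtain ⟨st', hst', hr', h1⟩ := C.withExt_spec hg hS ho hqn hst hr h1
    rw [Bool.and_eq_true] at h1
    rcases rest with _ | ⟨l', rest'⟩
    · cases child with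
      | leaf a => exact ⟨a, st', h1.2, hst', hr'⟩
      | nil => exact absurd h1.1 (by simp [nodeCond])
      | kid => exact absurd h1.1 (by simp [nodeCond])
    · obtain ⟨q', Cq', os', hlq', ho', hP'⟩ := hl l' (List.mem_cons_of_mem l List.mem_cons_self)
      refine treeGo_sound hinv hg hS ok child l' rest' st' h1.2
        (fun x hx => hl x (List.mem_cons_of_mem l hx)) hst' hr' ?_
      obtain ⟨h2, -⟩ := h1
      change Nat.beq (candMask E.B E.one st' (l'.2.headD (0, 0)).1 l'.1) (kidsMask E.B child) = true at h2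
      rw [beq_iff] at h2
      rw [hlq'] at h2 ho'
      rw [← h2, hlq']
      simp only [List.headD_cons]
      exact C.candMask_spec hinv (C.isCol_lt ho'.2.1) hst' hr' (hP' g hg)

/-- Soundness of a whole search. -/
theorem node_sound (hinv : C.Invariant) {g s1 s2 : G} (hg : g * s1 = s2 * g) {S2 : ℕ}
    (hS : C.Is S2 s2) (ok : α → St → Bool) (t : Tree α) (ls : List Level)
    (h : treeNode D E S2 ok t ls [] = true) (hl : ∀ x ∈ ls, C.LevelOK s1 s2 x) : C.Reached ok g := by
  unfold treeNode at h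
  rw [Bool.and_eq_true] at h
  rcases ls with _ | ⟨l, rest⟩
  · cases t with
    | leaf a => exact ⟨a, [], h.2, fun _ he => absurd he List.not_mem_nil, fun _ he => absurd he List.not_mem_nil⟩
    | nil => exact absurd h.1 (by simp [nodeCond])
    | kid => exact absurd h.1 (by simp [nodeCond])
  · obtain ⟨q, Cq, os, hlq, -, hP⟩ := hl l List.mem_cons_self
    refine C.treeGo_sound hinv hg hS ok t l rest [] h.2 hl (fun _ he => absurd he List.not_mem_nil)
      (fun _ he => absurd he List.not_mem_nil) ?_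
    obtain ⟨h2, -⟩ := h
    change Nat.beq (candMask E.B E.one [] (l.2.headD (0, 0)).1 l.1) (kidsMask E.B t) = true at h2
    rw [beq_iff] at h2
    rw [← h2, hlq]
    exact hP g hg

theorem translate_spec {X : ℕ} {x : G} (hX : C.Is X x) : ∀ (p c M v : ℕ), c < D.n →
    Has E.B (Nat.rec (motive := fun _ => ℕ → ℕ → ℕ) (fun _ M => M)
      (fun _ f v M => force (Nat.lor (bit E.B v) M) fun M' => force (lane E.B X v) fun v' => f v' M') p c M) v →
    Has E.B M v ∨ ∃ k < p, v = C.pt (x ^ k) c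
  | 0, _, _, _, _, h => Or.inl h
  | p + 1, c, M, v, hc, h => by
    change Has E.B (force (Nat.lor (bit E.B c) M) fun M' => force (lane E.B X c) fun v' =>
      Nat.rec (motive := fun _ => ℕ → ℕ → ℕ) (fun _ M => M)
        (fun _ f v M => force (Nat.lor (bit E.B v) M) fun M' => force (lane E.B X v) fun v' => f v' M') p v' M') v at h
    rw [force_eq, force_eq, C.lane_is hX hc] at h
    rcases translate_spec hX p (C.pt x c) (Nat.lor (bit E.B c) M) v (C.pt_lt hc) h with h | ⟨k, hk, rfl⟩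
    · rcases has_lor.1 h with h | h
      · rw [has_bit (by rw [C.hB]; exact C.hp.hB)] at h
        exact Or.inr ⟨0, p.succ_pos, by rw [pow_zero, pt_one]; exact h⟩
      · exact Or.inl h
    · exact Or.inr ⟨k + 1, by omega, by rw [pow_succ, pt_mul]⟩

theorem coverMask_spec {X : ℕ} {x : G} (hX : C.Is X x) (p : ℕ) (ok : α → St → Bool) (S2 : ℕ) :
    ∀ (t : Tree α) (l : Level) (rest : List Level) (st : St),
      treeGo D E S2 ok t (l :: rest) st = true → ∀ v, Has E.B (coverMask E.B X p t) v →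
        ∃ k < p, ∃ c, Has E.B (kidsMask E.B t) c ∧ v = C.pt (x ^ k) c
  | .nil, _, _, _, _, _, h => absurd h not_has_zero
  | .leaf _, _, _, _, _, _, h => absurd h not_has_zero
  | .kid c ws child sib, l, rest, st, hgo, v, h => by
    change (kidOK D E S2 l.2 c ws st (fun st' => nodeCond E.B E.one child rest st' &&
      treeGo D E S2 ok child rest st') && treeGo D E S2 ok sib (l :: rest) st) = true at hgo
    unfold kidOK at hgo
    simp only [Bool.and_eq_true, Nat.blt_eq] at hgo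
    have hB0 : 0 < E.B := by rw [C.hB]; exact C.hp.hB
    have hk : kidsMask E.B (Tree.kid c ws child sib) = Nat.lor (bit E.B c) (kidsMask E.B sib) := by
      show force (kidsMask E.B sib) (fun M => Nat.lor (bit E.B c) M) = _
      rw [force_eq]
    rw [hk]
    change Has E.B (force (coverMask E.B X p sib) _) v at h
    rw [force_eq] at h
    rcases C.translate_spec hX p c _ v hgo.1.1 h with h | ⟨k, hk, rfl⟩
    · obtain ⟨k, hk, c', hc', rfl⟩ := coverMask_spec hX p ok S2 sib l rest st hgo.2 v h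
      exact ⟨k, hk, c', has_lor.2 (Or.inr hc'), rfl⟩
    · exact ⟨k, hk, c, has_lor.2 (Or.inl ((has_bit hB0).2 rfl)), rfl⟩

/-- Soundness of a search for centralising elements up to translation. -/
theorem cover_sound (hinv : C.Invariant) {g x : G} (hg : g * x = x * g) {X : ℕ} (hX : C.Is X x) (p : ℕ)
    (ok : α → St → Bool) (t : Tree α) (l : Level) (rest : List Level)
    (h : treeGo D E X ok t (l :: rest) [] = true) (hc : Nat.beq (coverMask E.B X p t) E.blw = true)
    (hl : ∀ y ∈ l :: rest, C.LevelOK x x y) : ∃ k < p, C.Reached ok ((x ^ k)⁻¹ * g) := by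
  obtain ⟨q, Cq, os, hlq, ho, -⟩ := hl l List.mem_cons_self
  rw [hlq] at ho
  rw [beq_iff] at hc
  have hv := C.pt_lt (g := g) (C.isCol_lt ho.2.1)
  obtain ⟨k, hk, c, hc', e⟩ := C.coverMask_spec hX p ok X t l rest [] h (C.pt g q) (hc ▸ C.has_blw hv)
  refine ⟨k, hk, C.treeGo_sound hinv ?_ hX ok t l rest [] h hl (fun _ he => absurd he List.not_mem_nil)
    (fun _ he => absurd he List.not_mem_nil) ?_⟩
  · have : Commute ((x ^ k)⁻¹ * g) x :=
      Commute.mul_left (Commute.inv_left (Commute.pow_self x k)) hg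
    exact this
  · rw [hlq, List.headD_cons, pt_mul, e, pt_inv]
    exact hc'

/-- The words generate; points of the list determine the roots. -/
theorem rigid_sound (hinv : C.Invariant) {O : List (ℕ × ℕ)} {roots : List ℕ}
    (hO : ∀ o ∈ O, C.IsCol o.2 o.1) (hlt : ∀ b ∈ roots, b < D.n) (h : rigidOK E O roots = true)
    (hroots : ∀ g : G, (∀ b ∈ roots, C.pt g b = b) → g = 1) {g : G} (hg : ∀ o ∈ O, C.pt g o.1 = o.1) :
    g = 1 := by
  refine hroots g fun b hb => ?_
  have h1 := List.all_eq_true.1 h b hb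
  rw [beq_iff] at h1
  have key : ∀ l : List (ℕ × ℕ), (∀ o ∈ l, o ∈ O) → Has E.B (List.rec (motive := fun _ => ℕ) E.blw
      (fun o _ ih => force ih fun M => eqm E.B E.one M o.2 (lane E.B o.2 b)) l) (C.pt g b) := by
    intro l
    induction l with
    | nil => exact fun _ => C.has_blw (C.pt_lt (hlt b hb))
    | cons o l ih =>
      intro hl
      show Has E.B (force _ fun M => eqm E.B E.one M o.2 (lane E.B o.2 b)) _
      rw [force_eq]
      have hc := hO o (hl o List.mem_cons_self)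
      refine C.has_eqm hc (C.pt_lt (hlt b hb)) (ih fun x hx => hl x (List.mem_cons_of_mem o hx)) ?_
      rw [colour_eq hinv hc hc (hg o (hl o List.mem_cons_self)) (hlt b hb), C.hB]
  have h2 := key O fun _ h => h
  rw [h1, has_bit (by rw [C.hB]; exact C.hp.hB)] at h2
  exact h2

/-- Three elements as letters. -/
def tri (a b c : G) (i : ℕ) : G := [a, b, c].getD i 1

theorem forcedMask_spec (hinv : C.Invariant) {g : G} {st : St} (hst : C.StOK st) (hr : C.Resp g st)
    {v : ℕ} (hv : v < D.n) : ∀ {idx : List ℕ}, (∀ k ∈ idx, k < st.length) →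
      Has E.B (forcedMask E st v idx) (C.pt g v)
  | [], _ => C.has_blw (C.pt_lt hv)
  | k :: idx, hk => by
    show Has E.B (force (forcedMask E st v idx) fun M =>
      eqm E.B E.one M (st.getD k ((0, 0), (0, 0))).2.2 (lane E.B (st.getD k ((0, 0), (0, 0))).1.2 v)) _
    rw [force_eq]
    have hm : st.getD k ((0, 0), (0, 0)) ∈ st := by
      have := hk k List.mem_cons_self
      rw [List.getD_eq_getElem _ _ this]
      exact List.getElem_mem this
    obtain ⟨h1, h2⟩ := hst _ hm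
    refine C.has_eqm h2 (C.pt_lt hv)
      (forcedMask_spec hinv hst hr hv fun j hj => hk j (List.mem_cons_of_mem k hj)) ?_
    rw [colour_eq hinv h1 h2 (hr _ hm) hv, C.hB]

/-- A successful run refutes a relation. -/
theorem run_sound (hinv : C.Invariant) {g X Y : G} {st : St} (hst : C.StOK st) (hr : C.Resp g st)
    {Vx Vy : ℕ} (hX : C.Is Vx X) (hY : C.Is Vy Y) {p0 : ℕ} :
    ∀ {R : List ℕ} {steps : List (ℕ × List ℕ)} {v : ℕ}, runOK E st Vx Vy p0 R steps v = true →
      v < D.n → C.pt (ev (tri X Y g) R) v ≠ p0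
  | [], _, v, h, _ => by
    change (!Nat.beq v p0) = true at h
    rw [show ev (tri X Y g) [] = 1 from rfl, pt_one]
    intro e
    rw [e, Nat.beq_refl] at h
    exact Bool.false_ne_true h
  | a :: R, steps, v, h, hv => by
    have hmul : C.pt (ev (tri X Y g) (a :: R)) v = C.pt (ev (tri X Y g) R) (C.pt (tri X Y g a) v) := by
      rw [← pt_mul]; rfl
    rw [hmul]
    rcases a with _ | _ | _ | a
    · change force (lane E.B Vx v) (fun v' => runOK E st Vx Vy p0 R steps v') = true at h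
      rw [force_eq, C.lane_is hX hv] at h
      exact run_sound hinv hst hr hX hY h (C.pt_lt hv)
    · change force (lane E.B Vy v) (fun v' => runOK E st Vx Vy p0 R steps v') = true at h
      rw [force_eq, C.lane_is hY hv] at h
      exact run_sound hinv hst hr hX hY h (C.pt_lt hv)
    · change (((steps.headD (0, [])).2.all fun k => Nat.blt k st.length) &&
        force (forcedMask E st v (steps.headD (0, [])).2) fun M =>
          Nat.beq M 0 || (Nat.beq M (bit E.B (steps.headD (0, [])).1) &&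
            runOK E st Vx Vy p0 R steps.tail (steps.headD (0, [])).1)) = true at h
      simp only [Bool.and_eq_true, Bool.or_eq_true, List.all_eq_true, Nat.blt_eq, beq_iff, force_eq] at h
      obtain ⟨hk, h⟩ := h
      have h2 := C.forcedMask_spec hinv hst hr hv hk
      rcases h with h | ⟨h, h'⟩
      · rw [h] at h2
        exact absurd h2 not_has_zero
      · rw [h, has_bit (by rw [C.hB]; exact C.hp.hB)] at h2
        show C.pt _ (C.pt g v) ≠ p0
        rw [h2]
        exact run_sound hinv hst hr hX hY h' (h2 ▸ C.pt_lt hv)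
    · exact absurd h Bool.false_ne_true

end Ctx

end Cfsg.Agent.OutColour
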