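/-
From a verified coset table and a chain of basic orbits to the context of the colour certificates.
Main results: `chain_bound`, `eq_one_of_roots`, `ctx_spec`, `withTraces_spec`.
-/
import Cfsg.Agent.Lib.OutColour.Sound
import Cfsg.Agent.Lib.CosetEnum.Index

set_option autoImplicit false

namespace Cfsg.Agent.OutColour

open Cfsg.Agent.CosetEnum
open Cfsg.Agent.CosetEnum.Data (ev)

variable {D : Data}

/-- Orbit-stabiliser bound keeping track of the pointwise stabiliser of the roots. -/
theorem chain_bound (hp : D.PermFacts) : ∀ (l : List OrbitData) (roots : List ℕ),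
    Setup.chainOK D l roots = true →
    (∀ b ∈ roots, b < D.n) → ∀ (P : Subgroup (Equiv.Perm (Fin D.n))),
    (∀ g : Equiv.Perm (Fin D.n), (∃ w, (∀ a ∈ w, a < D.k) ∧ g = ev (Setup.perm D hp) w) →
      (∀ b ∈ roots, ∀ i : Fin D.n, (i : ℕ) = b → g i = i) → g ∈ P) →
    Setup.chainSize l * Nat.card {g : P // ∀ O ∈ l, ∀ i : Fin D.n, (i : ℕ) = O.root →
      (g : Equiv.Perm (Fin D.n)) i = i} ≤ Nat.card P
  | [], _, _, _, P, _ => by
    rw [show Setup.chainSize [] = 1 from rfl, one_mul]
    exact Nat.card_le_card_of_injective _ Subtype.val_injective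
  | O :: l, roots, h, hroots, P, hP => by
    change (D.reachOK O && ((O.words.all fun w => roots.all fun b => Nat.beq (lane D.B (D.trace w) b) b) &&
      Setup.chainOK D l (O.root :: roots))) = true at h
    simp only [Bool.and_eq_true, List.all_eq_true, beq_iff] at h
    obtain ⟨hreach, hfix, hrest⟩ := h
    obtain ⟨hrootmem, hcard, hind⟩ := Data.orbit_reach hp hreach
    have hwk : ∀ w ∈ O.words, ∀ a ∈ w, a < D.k := by
      intro w hw
      obtain ⟨j, hj, rfl⟩ := List.getElem_of_mem hw
      unfold Data.reachOK at hreach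
      simp only [Bool.and_eq_true, beq_iff, List.all_eq_true] at hreach
      have := hreach.2.2.2.1 (O.words[j], O.sels[j]'(by have := hreach.1; omega))
        (List.mem_of_getElem (i := j) (h := by simp; have := hreach.1; omega) (by simp))
      unfold Data.orbSelOK at this
      simp only [Bool.and_eq_true, List.all_eq_true, Nat.blt_eq] at this
      exact this.1
    have hwP : ∀ w ∈ O.words, ev (Setup.perm D hp) w ∈ P := fun w hw => hP _ ⟨w, hwk w hw, rfl⟩
      fun b hb i hi => by
        have := hfix w hw b hb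
        rw [Data.trace_eq hp w (hwk w hw), lane_pack hp.hB
          (fun j hj => self_lt_two_pow_of_lt (by have := hp.hlg; omega) (Data.tw_lt hp w (hwk w hw) j hj))
          (lt_of_lt_of_le (hroots b hb) hp.hnN)] at this
        exact Fin.ext (by rw [Setup.ev_perm hp w (hwk w hw), hi, this])
    set r : Fin D.n := ⟨O.root, hrootmem.1⟩
    have horbit : ∀ i ∈ Data.maskSet D O, ∃ x ∈ MulAction.orbit P r, ((x : Fin D.n) : ℕ) = i := by
      refine hind ⟨r, MulAction.mem_orbit_self r, rfl⟩ fun w hw i hi => ?_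
      rintro ⟨x, hx, rfl⟩
      refine ⟨ev (Setup.perm D hp) w x, ?_, Setup.ev_perm hp w (hwk w hw) x⟩
      exact MulAction.mem_orbit_of_mem_orbit (⟨ev (Setup.perm D hp) w, hwP w hw⟩ : P) hx
    have horb : O.size ≤ Nat.card (MulAction.orbit P r) := by
      have hsub : Data.maskSet D O ⊆ (fun x : Fin D.n => (x : ℕ)) '' MulAction.orbit P r := fun i hi => by
        obtain ⟨x, hx, e⟩ := horbit i hi
        exact ⟨x, hx, e⟩
      rw [← hcard, Nat.card_coe_set_eq, ← Set.ncard_image_of_injective _ Fin.val_injective]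
      exact Set.ncard_le_ncard hsub (Set.toFinite _)
    let Q : Subgroup (Equiv.Perm (Fin D.n)) := P ⊓ MulAction.stabilizer (Equiv.Perm (Fin D.n)) r
    have hQ := chain_bound hp l (O.root :: roots) hrest
      (fun b hb => by rcases List.mem_cons.mp hb with rfl | hb; exacts [hrootmem.1, hroots b hb]) Q
      (fun g hg hb => ⟨hP g hg fun b hb' i hi => hb b (List.mem_cons_of_mem _ hb') i hi,
        hb O.root List.mem_cons_self r rfl⟩)
    have hfixed : Nat.card {g : P // ∀ O' ∈ O :: l, ∀ i : Fin D.n, (i : ℕ) = O'.root →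
        (g : Equiv.Perm (Fin D.n)) i = i} ≤ Nat.card {g : Q // ∀ O' ∈ l, ∀ i : Fin D.n, (i : ℕ) = O'.root →
        (g : Equiv.Perm (Fin D.n)) i = i} := by
      refine Nat.card_le_card_of_injective
        (fun g => ⟨⟨g.1.1, g.1.2, g.2 O List.mem_cons_self r rfl⟩,
          fun O' hO' i hi => g.2 O' (List.mem_cons_of_mem O hO') i hi⟩) fun a b h => ?_
      exact Subtype.ext (Subtype.ext (congrArg (fun x => x.1.1) h))
    have hstab : Nat.card Q ≤ Nat.card (MulAction.stabilizer P r) := by
      refine Nat.card_le_card_of_injective (fun q => ⟨⟨q.1, q.2.1⟩, q.2.2⟩) fun q q' h => ?_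
      exact Subtype.ext (congrArg (fun x : MulAction.stabilizer P r => x.1.1) h)
    refine le_trans (Nat.mul_le_mul_left _ hfixed) ?_
    calc O.size * Setup.chainSize l * _ = O.size * (Setup.chainSize l * _) := Nat.mul_assoc _ _ _
      _ ≤ Nat.card (MulAction.orbit P r) * Nat.card (MulAction.stabilizer P r) :=
          Nat.mul_le_mul horb (hQ.trans hstab)
      _ = Nat.card P := by
          rw [← Nat.card_prod]
          exact Nat.card_congr (MulAction.orbitProdStabilizerEquivGroup P r)

theorem withTraces_spec {G : Type} [Group G] {E : Env} (C : Ctx G D E) : ∀ {ws : List (List ℕ)}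
    {K : List ℕ → Bool}, withTraces D ws K = true →
    ∃ V, V.length = ws.length ∧ (∀ a < ws.length, (∀ b ∈ ws.getD a [], b < D.k) ∧
      C.Is (V.getD a 0) (ev C.el (ws.getD a []))) ∧ K V = true
  | [], K, h => ⟨[], rfl, fun a ha => absurd ha (Nat.not_lt_zero a), h⟩
  | w :: ws, K, h => by
    change ((w.all fun a => Nat.blt a D.k) && force (D.trace w) fun V =>
      withTraces D ws fun L => K (V :: L)) = true at h
    simp only [Bool.and_eq_true, List.all_eq_true, Nat.blt_eq, force_eq] at h
    obtain ⟨hw, h⟩ := h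
    obtain ⟨V, hlen, hV, h⟩ := withTraces_spec C h
    refine ⟨_, by simp [hlen], fun a ha => ?_, h⟩
    rcases a with _ | a
    · exact ⟨hw, C.is_trace hw⟩
    · simpa using hV a (by simpa using ha)

/-- The same, before a context exists. -/
theorem withTraces_lanes (hp : D.PermFacts) : ∀ {ws : List (List ℕ)} {K : List ℕ → Bool},
    withTraces D ws K = true → ∃ V, V.length = ws.length ∧
      (∀ a < ws.length, LanesOf D (V.getD a 0) (fun i => D.tw (ws.getD a []) i)) ∧ K V = true
  | [], K, h => ⟨[], rfl, fun a ha => absurd ha (Nat.not_lt_zero a), h⟩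
  | w :: ws, K, h => by
    change ((w.all fun a => Nat.blt a D.k) && force (D.trace w) fun V =>
      withTraces D ws fun L => K (V :: L)) = true at h
    simp only [Bool.and_eq_true, List.all_eq_true, Nat.blt_eq, force_eq] at h
    obtain ⟨hw, h⟩ := h
    obtain ⟨V, hlen, hV, h⟩ := withTraces_lanes hp h
    refine ⟨_, by simp [hlen], fun a ha => ?_, h⟩
    rcases a with _ | a
    · exact ⟨_, Data.trace_eq hp w hw, fun i hi => Data.tw_lt hp w hw i hi, fun _ _ => rfl⟩
    · simpa using hV a (by simpa using ha)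

variable {Gen : Type} [DecidableEq Gen] {S : Setup Gen} {hs : List (FreeGroup Gen)}

/-- The context of a table. -/
theorem ctx_spec (T : Setup.Table S D hs) {cls : ℕ} {K : Env → Bool}
    (h : withEnv D cls K = true) : ∃ (E : Env) (C : Ctx S.G D E), C.el = S.el ∧
      C.ρ = Setup.hom T.gens T.letters T.perm T.rels ∧ E.cls = cls ∧ K E = true := by
  unfold withEnv at h
  simp only [force_eq, Bool.and_eq_true, Nat.blt_eq] at h
  obtain ⟨⟨hB1, hg⟩, h⟩ := h
  have hp := T.perm
  obtain ⟨L, -, hL, h⟩ := withTraces_lanes hp h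
  obtain ⟨hf, hfb⟩ := Data.guard_spec hp hg
  refine ⟨_, ⟨hp, S.el, Setup.hom T.gens T.letters T.perm T.rels,
    fun a ha => Setup.hom_el T.gens T.letters T.perm T.rels ha, rfl, hB1, ?_, ?_, ⟨_, hf, hfb⟩, ?_⟩,
    rfl, rfl, rfl, h⟩
  · exact rep_eq D.B D.lg
  · show below D.B D.n D.one = _
    rw [show D.one = _ from rep_eq D.B D.lg, below_eq hp.hB]
  · intro a ha
    obtain ⟨g, h1, h2, h3⟩ := hL a (by simpa using ha)
    refine ⟨g, h1, h2, fun i hi => ?_⟩
    rw [h3 i hi]
    simp [List.getD_eq_getElem?_getD, List.getElem?_range ha, Data.tw]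

/-- The class vector is invariant. -/
theorem invariant (T : Setup.Table S D hs) {E : Env} (C : Ctx S.G D E)
    (hρ : C.ρ = Setup.hom T.gens T.letters T.perm T.rels)
    (hcls : clsOK D E (hs.map (S.wl D)) = true) : C.Invariant := by
  intro h h0
  obtain ⟨ext, hsrc, hext⟩ := T.src
  obtain ⟨e, he0, heq⟩ := Setup.exists_equiv T.gens T.letters T.check T.rels T.perm T.subs hsrc
    (S.closureOf hs) rfl hext
  rw [← hρ] at heq
  have hmem : h ∈ S.closureOf hs := by
    have e1 : C.ρ h ⟨0, T.perm.hn⟩ = ⟨0, T.perm.hn⟩ := Fin.ext (by rw [← C.pt_val]; exact h0)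
    have e2 := heq h ⟨0, T.perm.hn⟩
    rw [e1, he0] at e2
    have e3 : ((h * 1 : S.G) : S.G ⧸ S.closureOf hs) = ((1 : S.G) : S.G ⧸ S.closureOf hs) := e2
    simpa using QuotientGroup.eq.mp e3
  clear h0
  rw [Setup.closureOf] at hmem
  induction hmem using Subgroup.closure_induction with
  | mem g hg =>
    obtain ⟨w, hw, rfl⟩ := hg
    intro i hi
    have h1 := List.all_eq_true.1 hcls (S.wl D w) (List.mem_map.2 ⟨w, hw, rfl⟩)
    simp only [Bool.and_eq_true, List.all_eq_true, Nat.blt_eq, beq_iff] at h1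
    obtain ⟨hwk, hpull⟩ := h1
    obtain ⟨f, hf, hfb⟩ := C.hcls
    have hb : ∀ j < 2 ^ D.lg, f j < 2 ^ D.B := fun j hj => Ctx.half_le hfb hj
    rw [hf, Data.pull_eq T.perm _ hwk f hb] at hpull
    have hN := lt_of_lt_of_le hi T.perm.hnN
    have := pack_inj T.perm.hB (fun j hj => hb _ (Data.tw_lt T.perm _ hwk j hj)) hb hpull i hN
    have e : C.pt (PresentedGroup.mk S.rels w) i = D.tw (S.wl D w) i := by
      rw [Ctx.pt, dif_pos hi, hρ, Setup.hom_mk, Setup.ev_perm T.perm _ hwk]
    rw [e, hf, lane_pack T.perm.hB hb (Data.tw_lt T.perm _ hwk i hN), lane_pack T.perm.hB hb hN]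
    exact this
  | one => intro i _; rw [C.pt_one]
  | mul x y _ _ hx hy => intro i hi; rw [C.pt_mul, hx _ (C.pt_lt hi), hy i hi]
  | inv x _ hx =>
    intro i hi
    have := hx (C.pt x⁻¹ i) (C.pt_lt hi)
    rw [C.pt_inv'] at this
    exact this.symm

/-- Only the identity fixes all roots of a full chain. -/
theorem eq_one_of_roots (T : Setup.Table S D hs) {E : Env} (C : Ctx S.G D E)
    (hρ : C.ρ = Setup.hom T.gens T.letters T.perm T.rels) {l : List OrbitData}
    (hl : Setup.chainOK D l [] = true) (hinj : Function.Injective C.ρ)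
    (hcard : Setup.chainSize l = Nat.card S.G) {g : S.G}
    (hg : ∀ b ∈ l.map (fun O => O.root), C.pt g b = b) : g = 1 := by
  have hb := chain_bound T.perm l [] hl (fun _ h => absurd h List.not_mem_nil) C.ρ.range
    (fun p ⟨w, hw, e⟩ _ => by
      rw [e, hρ]
      exact Setup.ev_perm_mem_range T.gens T.letters T.perm T.rels w hw)
  have hR : Nat.card C.ρ.range = Nat.card S.G :=
    Nat.card_congr (MonoidHom.ofInjective hinj).toEquiv.symm
  have : Finite S.G := Finite.of_injective C.ρ hinj
  rw [hR, hcard] at hb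
  have h1 := Nat.le_of_mul_le_mul_left (le_of_le_of_eq hb (Nat.mul_one _).symm) Nat.card_pos
  rw [Finite.card_le_one_iff_subsingleton] at h1
  have hg' : ∀ O ∈ l, ∀ i : Fin D.n, (i : ℕ) = O.root → C.ρ g i = i := fun O hO i hi => by
    refine Fin.ext ?_
    rw [← C.pt_val, hi]
    exact hg _ (List.mem_map.2 ⟨O, hO, rfl⟩)
  have := h1.elim ⟨⟨C.ρ g, ⟨g, rfl⟩⟩, hg'⟩
    ⟨⟨1, one_mem _⟩, fun _ _ i _ => rfl⟩
  exact hinj ((congrArg (fun x => x.1.1) this).trans (map_one C.ρ).symm)

end Cfsg.Agent.OutColour
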