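/-
Certificates for outer automorphism groups of order 2 through colours on a coset table.
Main definitions: `Cert`, `Cert.elemOK`, `Cert.cxOK`, `Cert.zOK`, `Cert.genOK`, `Cert.homOK`.
-/
import Cfsg.Agent.Lib.OutColour.Check

set_option autoImplicit false

namespace Cfsg.Agent.OutColour

open Cfsg.Agent.CosetEnum

/-- What happens at a leaf of the search for the image of `z`, for one exponent. -/
inductive Verdict : Type
  | keep (t : Bool) : Verdict
  | drop (rel p0 : ℕ) (steps : List (ℕ × List ℕ)) : Verdict

/-- Certificate: `ws` are words for `x, y, z, z', y ^ e`. -/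
structure Cert where
  p : ℕ
  r : ℕ
  s : ℕ
  e : ℕ
  i0 : ℕ
  exps : List ℕ
  cls : ℕ
  roots : List ℕ
  ws : List (List ℕ)
  rels : List (List ℕ)
  cxLev : List (ℕ × Bool × List (List ℕ))
  cxSrc : List ℕ
  cxCover : Bool
  cxTab : List (List ℕ)
  cxTree : Tree ℕ
  zLev : List (ℕ × Bool × List (List ℕ))
  zTree : Tree (List Verdict)
  gens : List (List ℕ)
  fws : List (List ℕ)

namespace Cert

variable (c : Cert)

/-- Constants and element vectors. -/
noncomputable def withBase (D : Data) (K : Env → List ℕ → Bool) : Bool :=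
  Nat.beq c.ws.length 5 && withEnv D c.cls fun E => withTraces D c.ws fun V => K E V

/-- Two words of elements agree on the roots. -/
noncomputable def eqW (B : ℕ) (V : List ℕ) (u v : List ℕ) : Bool :=
  c.roots.all fun b => Nat.beq (walk B V u b) (walk B V v b)

/-- Two words of elements differ on some root. -/
noncomputable def neW (B : ℕ) (V : List ℕ) (u v : List ℕ) : Bool :=
  c.roots.any fun b => !Nat.beq (walk B V u b) (walk B V v b)

/-- Relations between the elements; invariance of the classes. -/
noncomputable def elemOK (D : Data) (hw : List (List ℕ)) : Bool :=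
  c.withBase D fun E V =>
    clsOK D E hw && (c.roots.all (fun b => Nat.blt b D.n) &&
    (c.eqW E.B V (List.replicate c.p 0) [] && (c.neW E.B V [0] [] &&
    (c.eqW E.B V (List.replicate c.r 1) [] &&
    (((List.range c.r).all fun k => Nat.beq k 0 || c.neW E.B V (List.replicate k 1) []) &&
    (c.eqW E.B V [0, 1] (1 :: List.replicate c.s 0) &&
    (c.eqW E.B V [1, 2] (2 :: List.replicate c.e 1) &&
    (c.eqW E.B V [4] (List.replicate c.e 1) &&
    ((!Nat.beq (c.i0 % c.p) 1 || c.neW E.B V [2] [3]) &&
    c.rels.all fun R => R.all (fun a => Nat.blt a 3) && c.eqW E.B V R [])))))))))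

/-- A leaf of the search for the centraliser of `x`. -/
noncomputable def cxLeaf (E : Env) (k : ℕ) (st : St) : Bool :=
  Nat.blt k c.cxTab.length && ((st.map fun e => e.1.1) == c.cxSrc &&
    ((st.map fun e => e.2.1) == c.cxTab.getD k [] && rigidOK E (st.map fun e => e.1) c.roots))

/-- The centraliser of `x`. -/
noncomputable def cxOK (D : Data) : Bool :=
  c.withBase D fun E V =>
    withLevels D E (V.getD 0 0) (c.ws.getD 0 []) c.cxLev fun ls =>
      bif c.cxCover then
        !ls.isEmpty && (Nat.beq (coverMask E.B (V.getD 0 0) c.p c.cxTree) E.blw &&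
          treeGo D E (V.getD 0 0) (c.cxLeaf E) c.cxTree ls [])
      else treeNode D E (V.getD 0 0) (c.cxLeaf E) c.cxTree ls []

/-- One verdict. -/
noncomputable def verdictOK (D : Data) (E : Env) (V : List ℕ) (st : St) (i Xi : ℕ) (v : Verdict) : Bool :=
  Verdict.rec (motive := fun _ => Bool)
    (fun t => Nat.beq i (bif t then c.i0 else 1) && (rigidOK E (st.map fun e => e.1) c.roots &&
      st.all fun e => Nat.beq (lane E.B (V.getD (bif t then 3 else 2) 0) e.1.1) e.2.1))
    (fun rel p0 steps => Nat.blt rel c.rels.length && (Nat.blt p0 D.n &&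
      runOK E st Xi (V.getD 1 0) p0 (c.rels.getD rel []) steps p0)) v

/-- The candidates for the image of `z`. -/
noncomputable def zOK (D : Data) : Bool :=
  c.withBase D fun E V =>
    withTraces D (c.exps.map fun i => (List.replicate i (c.ws.getD 0 [])).flatten) fun XI =>
      withLevels D E (V.getD 1 0) (c.ws.getD 4 []) c.zLev fun ls =>
        treeNode D E (V.getD 4 0) (fun vs st => (List.range c.exps.length).all fun j =>
          c.verdictOK D E V st (c.exps.getD j 0) (XI.getD j 0) (vs.getD j (Verdict.keep false))) c.zTree ls []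

/-- The letters are words in `x, y, z`. -/
noncomputable def genOK (D : Data) : Bool :=
  c.withBase D fun E V => (List.range D.k).all fun a =>
    (c.gens.getD a []).all (fun t => Nat.blt t 3) &&
      c.roots.all fun b => Nat.beq (walk E.B V (c.gens.getD a []) b) (lane E.B (E.L.getD a 0) b)

/-- The images of the letters define an endomorphism with the right values on `x, y, z`. -/
noncomputable def homOK (D : Data) (rw_ : List (List ℕ)) : Bool :=
  c.withBase D fun E V => Nat.beq c.fws.length D.k && withTraces D c.fws fun F =>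
    ((List.range D.k).all fun a => Nat.blt (D.invl a) D.k && c.eqW E.B F [a, D.invl a] []) &&
    ((rw_.all fun w => w.all (fun a => Nat.blt a D.k) && c.eqW E.B F w []) &&
    ((c.roots.all fun b => Nat.beq (walk E.B F (c.ws.getD 0 []) b)
      (walk E.B V (List.replicate c.i0 0) b)) &&
    ((c.roots.all fun b => Nat.beq (walk E.B F (c.ws.getD 1 []) b) (lane E.B (V.getD 1 0) b)) &&
    c.roots.all fun b => Nat.beq (walk E.B F (c.ws.getD 2 []) b) (lane E.B (V.getD 3 0) b))))

/-- The arithmetic side conditions, for a group of order `N`. -/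
def arithOK (N : ℕ) : Bool :=
  decide (Nat.Coprime c.p c.r) && decide (¬ c.p ^ 2 ∣ N) && decide (1 < c.r) &&
  ((List.range c.r).all fun b => !(c.s ^ b % c.p == 1) || b == 0) &&
  (c.s ^ c.r % c.p == 1) &&
  ((List.range c.p).all fun i => i == 0 || (List.range c.r).any fun b => c.exps.contains (c.s ^ b * i % c.p)) &&
  ((List.range c.r).all fun b => !(c.s ^ b % c.p == c.i0 % c.p) || b == 0) &&
  !(c.i0 % c.p == 0) &&
  decide ((bif c.cxCover then c.p else 1) * c.cxTab.length * c.p < 3 * (c.p * c.r)) &&
  !(N / (2 * (c.p * c.r)) % c.p == 1)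

end Cert

end Cfsg.Agent.OutColour
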