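/-
Generated colour certificate for the outer automorphism group of He: see `Cfsg.Agent.Lib.OutColour.Cert`.
-/
import Cfsg.Agent.Lib.OutColour.Cert
import Cfsg.Agent.Lib.CosetEnum.TableHe2058

set_option autoImplicit false
set_option maxRecDepth 100000

namespace Cfsg.Agent.OutColour

open Cfsg.Agent.CosetEnum

/-- Part of the centraliser search. -/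
def heCxTree0 : Tree ℕ := .kid 1996 [[1, 2, 3, 2, 1, 5, 3, 2, 6, 3, 4, 5, 3, 2, 1], [6, 3, 2, 1, 3, 2, 3, 2, 6, 3, 2, 3, 2], [6, 3, 2, 1, 3, 2, 3, 6, 5, 3, 4, 6], [1, 6, 3, 2, 1, 3, 2, 4, 3, 2, 5, 3, 2, 1, 4], [1, 2, 3, 2, 1, 0, 3, 2, 6, 3, 2, 4, 3, 2], [6, 3, 2, 1, 3, 2, 3, 2, 3, 4, 5], [1, 6, 3, 2, 1, 0, 3, 2, 3, 4], [6, 3, 2, 1, 3, 2, 3, 2, 1, 3, 4, 5, 3], [1, 2, 3, 2, 1, 3, 2, 3, 6, 3, 2, 3, 2, 1, 4], [6, 3, 2, 1, 3, 2, 1, 3, 6, 5, 3, 2, 6], [6, 3, 2, 1, 3, 2, 3, 2, 6, 3, 2, 3, 5], [6, 3, 2, 1, 0, 3, 2, 3, 6, 3, 2, 3, 2, 1], [1, 2, 3, 2, 1, 3, 2, 5, 3, 2, 3, 4, 3, 5], [1, 2, 3, 2, 1, 3, 4, 5, 3, 2, 3, 2, 1, 0], [6, 3, 2, 1, 0, 3, 2, 6, 3, 2, 3, 4], [1, 2, 3, 2, 1, 0, 5,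 3, 2, 3, 5, 6, 3, 4], [1, 2, 3, 2, 1, 3, 2, 5, 3, 2, 3, 4, 3, 2]] (.leaf 15) (.kid 2004 [[1, 6, 3, 2, 1, 0, 3, 2, 6, 3, 2, 1, 4, 3, 2]] (.nil) (.kid 2009 [[1, 6, 3, 2, 1, 3, 2, 3, 2, 4, 5, 3, 2, 1, 0]] (.nil) (.kid 2015 [[1, 6, 3, 2, 1, 3, 2, 4, 3, 2, 5, 3, 2, 1, 4], [1, 2, 3, 2, 1, 0, 3, 2, 6, 3, 2, 4, 3, 2], [6, 3, 2, 1, 3, 2, 3, 2, 3, 4, 5], [1, 6, 3, 2, 1, 0, 3, 2, 3, 4], [6, 3, 2, 1, 3, 2, 3, 2, 1, 3, 4, 5, 3], [1, 2, 3, 2, 1, 3, 2, 3, 6, 3, 2, 3, 2, 1, 4], [6, 3, 2, 1, 3, 2, 1, 3, 6, 5, 3, 2, 6], [6, 3, 2, 1, 3, 2, 3, 2, 6, 3, 2, 3, 5], [6, 3, 2, 1, 0, 3, 2, 3, 6, 3, 2, 3, 2, 1], [1, 2, 3, 2, 1, 3, 2, 5, 3, 2, 3, 4, 3, 5], [1, 2, 3, 2, 1, 3, 4, 5, 3, 2, 3, 2, 1, 0],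 [6, 3, 2, 1, 0, 3, 2, 6, 3, 2, 3, 4], [1, 2, 3, 2, 1, 0, 5, 3, 2, 3, 5, 6, 3, 4], [1, 2, 3, 2, 1, 3, 2, 5, 3, 2, 3, 4, 3, 2], [1, 2, 3, 2, 1, 5, 3, 2, 6, 3, 4, 5, 3, 2, 1], [6, 3, 2, 1, 3, 2, 3, 2, 6, 3, 2, 3, 2], [6, 3, 2, 1, 3, 2, 3, 6, 5, 3, 4, 6]] (.leaf 16) (.kid 2026 [[6, 3, 2, 1, 0, 3, 2, 3, 6, 5, 3, 2, 1, 6, 3]] (.nil) (.kid 2038 [[1, 2, 3, 2, 1, 0, 3, 2, 1, 5, 3, 2, 1, 3, 4, 5]] (.nil) (.kid 2039 [[1, 2, 3, 2, 1, 0, 3, 2, 1, 5, 3, 2, 1, 3, 5, 6]] (.nil) (.kid 2051 [[1, 2, 3, 2, 1, 3, 2, 3, 6, 3, 2, 3, 2, 1, 0, 5]] (.nil) (.kid 2054 [[1, 2, 3, 2, 1, 3, 2, 6, 3, 2, 4, 3, 2, 1, 0, 5]] (.nil) (.nil)))))))))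

/-- Part of the centraliser search. -/
def heCxTree1 : Tree ℕ := .kid 1814 [[6, 3, 2, 1, 0, 3, 2, 3, 6, 3, 2, 3, 2, 1], [1, 2, 3, 2, 1, 3, 2, 5, 3, 2, 3, 4, 3, 5], [1, 2, 3, 2, 1, 3, 4, 5, 3, 2, 3, 2, 1, 0], [6, 3, 2, 1, 0, 3, 2, 6, 3, 2, 3, 4], [1, 2, 3, 2, 1, 0, 5, 3, 2, 3, 5, 6, 3, 4], [1, 2, 3, 2, 1, 3, 2, 5, 3, 2, 3, 4, 3, 2], [1, 2, 3, 2, 1, 5, 3, 2, 6, 3, 4, 5, 3, 2, 1], [6, 3, 2, 1, 3, 2, 3, 2, 6, 3, 2, 3, 2], [6, 3, 2, 1, 3, 2, 3, 6, 5, 3, 4, 6], [1, 6, 3, 2, 1, 3, 2, 4, 3, 2, 5, 3, 2, 1, 4], [1, 2, 3, 2, 1, 0, 3, 2, 6, 3, 2, 4, 3, 2], [6, 3, 2, 1, 3, 2, 3, 2, 3, 4, 5], [1, 6, 3, 2, 1, 0, 3, 2, 3, 4], [6, 3, 2, 1, 3, 2, 3, 2, 1, 3, 4, 5, 3], [1, 2, 3, 2, 1, 3, 2,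 3, 6, 3, 2, 3, 2, 1, 4], [6, 3, 2, 1, 3, 2, 1, 3, 6, 5, 3, 2, 6], [6, 3, 2, 1, 3, 2, 3, 2, 6, 3, 2, 3, 5]] (.leaf 13) (.kid 1867 [[6, 3, 2, 1, 3, 2, 3, 6, 5, 3, 2, 1, 6, 3]] (.nil) (.kid 1880 [[1, 2, 3, 2, 1, 0, 3, 2, 1, 5, 3, 2, 3, 6, 5]] (.nil) (.kid 1887 [[1, 2, 3, 2, 1, 0, 3, 2, 5, 3, 2, 1, 4, 3, 6]] (.nil) (.kid 1892 [[1, 2, 3, 2, 1, 0, 3, 2, 5, 3, 2, 4, 3, 2, 5]] (.nil) (.kid 1923 [[1, 2, 3, 2, 1, 3, 2, 3, 5, 3, 2, 1, 3, 2, 5]] (.nil) (.kid 1931 [[1, 2, 3, 2, 1, 3, 2, 3, 5, 3, 2, 3, 2, 5, 6]] (.nil) (.kid 1932 [[1, 2, 3, 2, 1, 3, 2, 3, 5, 3, 2, 3, 6, 5, 3]] (.nil) (.kid 1935 [[1, 2, 3, 2, 1, 3, 2, 3, 6, 3, 2, 3, 2, 1, 4], [6, 3, 2, 1, 3, 2, 1, 3, 6, 5, 3, 2, 6], [6,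 3, 2, 1, 3, 2, 3, 2, 6, 3, 2, 3, 5], [6, 3, 2, 1, 0, 3, 2, 3, 6, 3, 2, 3, 2, 1], [1, 2, 3, 2, 1, 3, 2, 5, 3, 2, 3, 4, 3, 5], [1, 2, 3, 2, 1, 3, 4, 5, 3, 2, 3, 2, 1, 0], [6, 3, 2, 1, 0, 3, 2, 6, 3, 2, 3, 4], [1, 2, 3, 2, 1, 0, 5, 3, 2, 3, 5, 6, 3, 4], [1, 2, 3, 2, 1, 3, 2, 5, 3, 2, 3, 4, 3, 2], [1, 2, 3, 2, 1, 5, 3, 2, 6, 3, 4, 5, 3, 2, 1], [6, 3, 2, 1, 3, 2, 3, 2, 6, 3, 2, 3, 2], [6, 3, 2, 1, 3, 2, 3, 6, 5, 3, 4, 6], [1, 6, 3, 2, 1, 3, 2, 4, 3, 2, 5, 3, 2, 1, 4], [1, 2, 3, 2, 1, 0, 3, 2, 6, 3, 2, 4, 3, 2], [6, 3, 2, 1, 3, 2, 3, 2, 3, 4, 5], [1, 6, 3, 2, 1, 0, 3, 2, 3, 4], [6, 3, 2, 1, 3, 2, 3, 2, 1, 3, 4, 5, 3]] (.leaf 14) (.kid 1940 [[1, 2, 3, 2, 1, 3, 2, 5, 3, 2, 1, 3, 4,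 3, 2]] (.nil) (.kid 1941 [[1, 2, 3, 2, 1, 3, 2, 5, 3, 2, 1, 3, 4, 3, 5]] (.nil) (.kid 1956 [[1, 2, 3, 2, 1, 3, 2, 6, 3, 2, 3, 4, 3, 2, 1]] (.nil) (.kid 1980 [[1, 2, 3, 2, 1, 3, 4, 6, 3, 2, 1, 3, 4, 5, 3]] (.nil) (heCxTree0)))))))))))))

/-- Part of the centraliser search. -/
def heCxTree2 : Tree ℕ := .kid 1628 [[1, 2, 3, 2, 1, 3, 2, 5, 3, 2, 3, 4, 3, 5], [1, 2, 3, 2, 1, 3, 4, 5, 3, 2, 3, 2, 1, 0], [6, 3, 2, 1, 0, 3, 2, 6, 3, 2, 3, 4], [1, 2, 3, 2, 1, 0, 5, 3, 2, 3, 5, 6, 3, 4], [1, 2, 3, 2, 1, 3, 2, 5, 3, 2, 3, 4, 3, 2], [1, 2, 3, 2, 1, 5, 3, 2, 6, 3, 4, 5, 3, 2, 1], [6, 3, 2, 1, 3, 2, 3, 2, 6, 3, 2, 3, 2], [6, 3, 2, 1, 3, 2, 3, 6, 5, 3, 4, 6], [1, 6, 3, 2, 1, 3, 2, 4, 3,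 2, 5, 3, 2, 1, 4], [1, 2, 3, 2, 1, 0, 3, 2, 6, 3, 2, 4, 3, 2], [6, 3, 2, 1, 3, 2, 3, 2, 3, 4, 5], [1, 6, 3, 2, 1, 0, 3, 2, 3, 4], [6, 3, 2, 1, 3, 2, 3, 2, 1, 3, 4, 5, 3], [1, 2, 3, 2, 1, 3, 2, 3, 6, 3, 2, 3, 2, 1, 4], [6, 3, 2, 1, 3, 2, 1, 3, 6, 5, 3, 2, 6], [6, 3, 2, 1, 3, 2, 3, 2, 6, 3, 2, 3, 5], [6, 3, 2, 1, 0, 3, 2, 3, 6, 3, 2, 3, 2, 1]] (.leaf 11) (.kid 1666 [[1, 2, 3, 2, 1, 3, 4, 5, 3, 2, 3, 2, 1, 0], [6, 3, 2, 1, 0, 3, 2, 6, 3, 2, 3, 4], [1, 2, 3, 2, 1, 0, 5, 3, 2, 3, 5, 6, 3, 4], [1, 2, 3, 2, 1, 3, 2, 5, 3, 2, 3, 4, 3, 2], [1, 2, 3, 2, 1, 5, 3, 2, 6, 3, 4, 5, 3, 2, 1], [6, 3, 2, 1, 3, 2, 3, 2, 6, 3, 2, 3, 2], [6, 3, 2, 1, 3, 2, 3, 6, 5, 3, 4, 6], [1, 6, 3, 2, 1, 3,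 2, 4, 3, 2, 5, 3, 2, 1, 4], [1, 2, 3, 2, 1, 0, 3, 2, 6, 3, 2, 4, 3, 2], [6, 3, 2, 1, 3, 2, 3, 2, 3, 4, 5], [1, 6, 3, 2, 1, 0, 3, 2, 3, 4], [6, 3, 2, 1, 3, 2, 3, 2, 1, 3, 4, 5, 3], [1, 2, 3, 2, 1, 3, 2, 3, 6, 3, 2, 3, 2, 1, 4], [6, 3, 2, 1, 3, 2, 1, 3, 6, 5, 3, 2, 6], [6, 3, 2, 1, 3, 2, 3, 2, 6, 3, 2, 3, 5], [6, 3, 2, 1, 0, 3, 2, 3, 6, 3, 2, 3, 2, 1], [1, 2, 3, 2, 1, 3, 2, 5, 3, 2, 3, 4, 3, 5]] (.leaf 12) (.kid 1672 [[1, 2, 3, 2, 1, 3, 4, 5, 3, 2, 3, 2, 3, 6]] (.nil) (.kid 1681 [[1, 2, 3, 2, 1, 3, 4, 5, 3, 2, 4, 3, 2, 5]] (.nil) (.kid 1699 [[1, 2, 3, 2, 1, 3, 5, 3, 2, 3, 4, 5, 3, 2]] (.nil) (.kid 1723 [[1, 2, 3, 2, 1, 5, 3, 2, 6, 3, 4, 5, 3, 2]] (.nil) (.kid 1724 [[1, 2, 3,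 2, 1, 5, 3, 2, 6, 3, 4, 5, 3, 6]] (.nil) (.kid 1726 [[1, 2, 3, 2, 1, 5, 3, 6, 5, 3, 2, 3, 2, 4]] (.nil) (.kid 1732 [[1, 6, 3, 2, 1, 0, 3, 2, 1, 3, 5, 3, 2, 1]] (.nil) (.kid 1768 [[1, 6, 3, 2, 1, 3, 2, 3, 4, 5, 3, 2, 3, 4]] (.nil) (.kid 1782 [[1, 6, 3, 2, 1, 3, 2, 4, 5, 3, 2, 1, 3, 6]] (.nil) (.kid 1794 [[1, 6, 3, 2, 1, 3, 2, 6, 3, 2, 1, 4, 3, 2]] (.nil) (heCxTree1))))))))))))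

/-- Part of the centraliser search. -/
def heCxTree3 : Tree ℕ := .kid 1596 [[1, 2, 3, 2, 1, 0, 5, 3, 2, 3, 5, 6, 3, 4], [1, 2, 3, 2, 1, 3, 2, 5, 3, 2, 3, 4, 3, 2], [1, 2, 3, 2, 1, 5, 3, 2, 6, 3, 4, 5, 3, 2, 1], [6, 3, 2, 1, 3, 2, 3, 2, 6, 3, 2, 3, 2], [6, 3, 2, 1, 3, 2, 3, 6, 5, 3, 4, 6], [1, 6, 3, 2, 1, 3, 2, 4, 3, 2, 5, 3, 2, 1, 4], [1, 2, 3, 2, 1, 0, 3, 2, 6, 3, 2, 4, 3, 2], [6, 3, 2, 1, 3, 2, 3, 2, 3, 4, 5], [1, 6, 3, 2, 1, 0, 3, 2, 3, 4], [6, 3, 2, 1, 3, 2, 3, 2, 1, 3, 4, 5, 3], [1, 2, 3, 2, 1, 3, 2, 3, 6, 3, 2, 3, 2, 1, 4], [6, 3, 2, 1, 3, 2, 1, 3, 6, 5, 3, 2, 6], [6, 3, 2, 1, 3, 2, 3, 2, 6, 3, 2, 3, 5], [6, 3, 2, 1, 0, 3, 2, 3, 6, 3, 2, 3, 2, 1], [1, 2, 3, 2, 1, 3,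 2, 5, 3, 2, 3, 4, 3, 5], [1, 2, 3, 2, 1, 3, 4, 5, 3, 2, 3, 2, 1, 0], [6, 3, 2, 1, 0, 3, 2, 6, 3, 2, 3, 4]] (.leaf 9) (.kid 1606 [[1, 2, 3, 2, 1, 3, 2, 3, 5, 3, 2, 3, 4, 6]] (.nil) (.kid 1627 [[1, 2, 3, 2, 1, 3, 2, 5, 3, 2, 3, 4, 3, 2], [1, 2, 3, 2, 1, 5, 3, 2, 6, 3, 4, 5, 3, 2, 1], [6, 3, 2, 1, 3, 2, 3, 2, 6, 3, 2, 3, 2], [6, 3, 2, 1, 3, 2, 3, 6, 5, 3, 4, 6], [1, 6, 3, 2, 1, 3, 2, 4, 3, 2, 5, 3, 2, 1, 4], [1, 2, 3, 2, 1, 0, 3, 2, 6, 3, 2, 4, 3, 2], [6, 3, 2, 1, 3, 2, 3, 2, 3, 4, 5], [1, 6, 3, 2, 1, 0, 3, 2, 3, 4], [6, 3, 2, 1, 3, 2, 3, 2, 1, 3, 4, 5, 3], [1, 2, 3, 2, 1, 3, 2, 3, 6, 3, 2, 3, 2, 1, 4], [6, 3, 2, 1, 3, 2, 1, 3, 6, 5, 3, 2, 6], [6, 3, 2, 1, 3, 2, 3, 2, 6, 3, 2,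 3, 5], [6, 3, 2, 1, 0, 3, 2, 3, 6, 3, 2, 3, 2, 1], [1, 2, 3, 2, 1, 3, 2, 5, 3, 2, 3, 4, 3, 5], [1, 2, 3, 2, 1, 3, 4, 5, 3, 2, 3, 2, 1, 0], [6, 3, 2, 1, 0, 3, 2, 6, 3, 2, 3, 4], [1, 2, 3, 2, 1, 0, 5, 3, 2, 3, 5, 6, 3, 4]] (.leaf 10) (heCxTree2)))

/-- Part of the centraliser search. -/
def heCxTree4 : Tree ℕ := .kid 1520 [[6, 3, 2, 1, 3, 2, 3, 2, 6, 3, 2, 3, 5], [6, 3, 2, 1, 0, 3, 2, 3, 6, 3, 2, 3, 2, 1], [1, 2, 3, 2, 1, 3, 2, 5, 3, 2, 3, 4, 3, 5], [1, 2, 3, 2, 1, 3, 4, 5, 3, 2, 3, 2, 1, 0], [6, 3, 2, 1, 0, 3, 2, 6, 3, 2, 3, 4], [1, 2, 3, 2, 1, 0, 5, 3, 2, 3, 5, 6, 3, 4], [1, 2, 3, 2, 1, 3, 2, 5, 3, 2, 3, 4, 3, 2], [1, 2, 3, 2, 1, 5, 3, 2, 6, 3, 4, 5, 3, 2, 1], [6, 3, 2, 1,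 3, 2, 3, 2, 6, 3, 2, 3, 2], [6, 3, 2, 1, 3, 2, 3, 6, 5, 3, 4, 6], [1, 6, 3, 2, 1, 3, 2, 4, 3, 2, 5, 3, 2, 1, 4], [1, 2, 3, 2, 1, 0, 3, 2, 6, 3, 2, 4, 3, 2], [6, 3, 2, 1, 3, 2, 3, 2, 3, 4, 5], [1, 6, 3, 2, 1, 0, 3, 2, 3, 4], [6, 3, 2, 1, 3, 2, 3, 2, 1, 3, 4, 5, 3], [1, 2, 3, 2, 1, 3, 2, 3, 6, 3, 2, 3, 2, 1, 4], [6, 3, 2, 1, 3, 2, 1, 3, 6, 5, 3, 2, 6]] (.leaf 7) (.kid 1534 [[6, 3, 2, 1, 3, 2, 4, 3, 6, 5, 3, 4, 6]] (.nil) (.kid 1549 [[1, 2, 3, 2, 1, 0, 3, 2, 5, 3, 2, 1, 4, 3]] (.nil) (.kid 1562 [[1, 2, 3, 2, 1, 0, 3, 2, 6, 3, 2, 4, 3, 2], [6, 3, 2, 1, 3, 2, 3, 2, 3, 4, 5], [1, 6, 3, 2, 1, 0, 3, 2, 3, 4], [6, 3, 2, 1, 3, 2, 3, 2, 1, 3, 4, 5, 3], [1, 2, 3, 2, 1, 3, 2, 3, 6, 3,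 2, 3, 2, 1, 4], [6, 3, 2, 1, 3, 2, 1, 3, 6, 5, 3, 2, 6], [6, 3, 2, 1, 3, 2, 3, 2, 6, 3, 2, 3, 5], [6, 3, 2, 1, 0, 3, 2, 3, 6, 3, 2, 3, 2, 1], [1, 2, 3, 2, 1, 3, 2, 5, 3, 2, 3, 4, 3, 5], [1, 2, 3, 2, 1, 3, 4, 5, 3, 2, 3, 2, 1, 0], [6, 3, 2, 1, 0, 3, 2, 6, 3, 2, 3, 4], [1, 2, 3, 2, 1, 0, 5, 3, 2, 3, 5, 6, 3, 4], [1, 2, 3, 2, 1, 3, 2, 5, 3, 2, 3, 4, 3, 2], [1, 2, 3, 2, 1, 5, 3, 2, 6, 3, 4, 5, 3, 2, 1], [6, 3, 2, 1, 3, 2, 3, 2, 6, 3, 2, 3, 2], [6, 3, 2, 1, 3, 2, 3, 6, 5, 3, 4, 6], [1, 6, 3, 2, 1, 3, 2, 4, 3, 2, 5, 3, 2, 1, 4]] (.leaf 8) (.kid 1579 [[1, 2, 3, 2, 1, 0, 3, 4, 6, 3, 2, 3, 2, 5]] (.nil) (heCxTree3)))))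

/-- Part of the centraliser search. -/
def heCxTree5 : Tree ℕ := .kid 1489 [[6, 3, 2, 1, 3, 2, 1, 3, 6, 5, 3, 2, 6], [6, 3, 2, 1, 3, 2, 3, 2, 6, 3, 2, 3, 5], [6, 3, 2, 1, 0, 3, 2, 3, 6, 3, 2, 3, 2, 1], [1, 2, 3, 2, 1, 3, 2, 5, 3, 2, 3, 4, 3, 5], [1, 2, 3, 2, 1, 3, 4, 5, 3, 2, 3, 2, 1, 0], [6, 3, 2, 1, 0, 3, 2, 6, 3, 2, 3, 4], [1, 2, 3, 2, 1, 0, 5, 3, 2, 3, 5, 6, 3, 4], [1, 2, 3, 2, 1, 3, 2, 5, 3, 2, 3, 4, 3, 2], [1, 2, 3, 2, 1, 5, 3, 2, 6, 3, 4, 5, 3, 2, 1], [6, 3, 2, 1, 3, 2, 3, 2, 6, 3, 2, 3, 2], [6, 3, 2, 1, 3, 2, 3, 6, 5, 3, 4, 6], [1, 6, 3, 2, 1, 3, 2, 4, 3, 2, 5, 3, 2, 1, 4], [1, 2, 3, 2, 1, 0, 3, 2, 6, 3, 2, 4, 3, 2], [6, 3, 2, 1, 3, 2, 3, 2, 3, 4, 5], [1, 6, 3, 2,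 1, 0, 3, 2, 3, 4], [6, 3, 2, 1, 3, 2, 3, 2, 1, 3, 4, 5, 3], [1, 2, 3, 2, 1, 3, 2, 3, 6, 3, 2, 3, 2, 1, 4]] (.leaf 4) (.kid 1501 [[6, 3, 2, 1, 3, 2, 3, 2, 1, 3, 4, 5, 3], [1, 2, 3, 2, 1, 3, 2, 3, 6, 3, 2, 3, 2, 1, 4], [6, 3, 2, 1, 3, 2, 1, 3, 6, 5, 3, 2, 6], [6, 3, 2, 1, 3, 2, 3, 2, 6, 3, 2, 3, 5], [6, 3, 2, 1, 0, 3, 2, 3, 6, 3, 2, 3, 2, 1], [1, 2, 3, 2, 1, 3, 2, 5, 3, 2, 3, 4, 3, 5], [1, 2, 3, 2, 1, 3, 4, 5, 3, 2, 3, 2, 1, 0], [6, 3, 2, 1, 0, 3, 2, 6, 3, 2, 3, 4], [1, 2, 3, 2, 1, 0, 5, 3, 2, 3, 5, 6, 3, 4], [1, 2, 3, 2, 1, 3, 2, 5, 3, 2, 3, 4, 3, 2], [1, 2, 3, 2, 1, 5, 3, 2, 6, 3, 4, 5, 3, 2, 1], [6, 3, 2, 1, 3, 2, 3, 2, 6, 3, 2, 3, 2], [6, 3, 2, 1, 3, 2, 3, 6, 5, 3, 4, 6],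 [1, 6, 3, 2, 1, 3, 2, 4, 3, 2, 5, 3, 2, 1, 4], [1, 2, 3, 2, 1, 0, 3, 2, 6, 3, 2, 4, 3, 2], [6, 3, 2, 1, 3, 2, 3, 2, 3, 4, 5], [1, 6, 3, 2, 1, 0, 3, 2, 3, 4]] (.leaf 5) (.kid 1518 [[6, 3, 2, 1, 3, 2, 3, 2, 6, 3, 2, 3, 2], [6, 3, 2, 1, 3, 2, 3, 6, 5, 3, 4, 6], [1, 6, 3, 2, 1, 3, 2, 4, 3, 2, 5, 3, 2, 1, 4], [1, 2, 3, 2, 1, 0, 3, 2, 6, 3, 2, 4, 3, 2], [6, 3, 2, 1, 3, 2, 3, 2, 3, 4, 5], [1, 6, 3, 2, 1, 0, 3, 2, 3, 4], [6, 3, 2, 1, 3, 2, 3, 2, 1, 3, 4, 5, 3], [1, 2, 3, 2, 1, 3, 2, 3, 6, 3, 2, 3, 2, 1, 4], [6, 3, 2, 1, 3, 2, 1, 3, 6, 5, 3, 2, 6], [6, 3, 2, 1, 3, 2, 3, 2, 6, 3, 2, 3, 5], [6, 3, 2, 1, 0, 3, 2, 3, 6, 3, 2, 3, 2, 1], [1, 2, 3, 2, 1, 3, 2, 5, 3, 2, 3, 4, 3, 5], [1, 2,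 3, 2, 1, 3, 4, 5, 3, 2, 3, 2, 1, 0], [6, 3, 2, 1, 0, 3, 2, 6, 3, 2, 3, 4], [1, 2, 3, 2, 1, 0, 5, 3, 2, 3, 5, 6, 3, 4], [1, 2, 3, 2, 1, 3, 2, 5, 3, 2, 3, 4, 3, 2], [1, 2, 3, 2, 1, 5, 3, 2, 6, 3, 4, 5, 3, 2, 1]] (.leaf 6) (heCxTree4)))

/-- Part of the centraliser search. -/
def heCxTree6 : Tree ℕ := .kid 1114 [[6, 3, 2, 1, 3, 2, 3, 6, 5, 3, 4, 6], [1, 6, 3, 2, 1, 3, 2, 4, 3, 2, 5, 3, 2, 1, 4], [1, 2, 3, 2, 1, 0, 3, 2, 6, 3, 2, 4, 3, 2], [6, 3, 2, 1, 3, 2, 3, 2, 3, 4, 5], [1, 6, 3, 2, 1, 0, 3, 2, 3, 4], [6, 3, 2, 1, 3, 2, 3, 2, 1, 3, 4, 5, 3], [1, 2, 3, 2, 1, 3, 2, 3, 6, 3, 2, 3, 2, 1, 4], [6, 3, 2, 1, 3, 2, 1, 3, 6, 5, 3, 2, 6], [6, 3, 2, 1, 3, 2, 3, 2, 6, 3, 2, 3, 5], [6,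 3, 2, 1, 0, 3, 2, 3, 6, 3, 2, 3, 2, 1], [1, 2, 3, 2, 1, 3, 2, 5, 3, 2, 3, 4, 3, 5], [1, 2, 3, 2, 1, 3, 4, 5, 3, 2, 3, 2, 1, 0], [6, 3, 2, 1, 0, 3, 2, 6, 3, 2, 3, 4], [1, 2, 3, 2, 1, 0, 5, 3, 2, 3, 5, 6, 3, 4], [1, 2, 3, 2, 1, 3, 2, 5, 3, 2, 3, 4, 3, 2], [1, 2, 3, 2, 1, 5, 3, 2, 6, 3, 4, 5, 3, 2, 1], [6, 3, 2, 1, 3, 2, 3, 2, 6, 3, 2, 3, 2]] (.leaf 3) (.kid 1115 [[6, 3, 2, 1, 3, 2, 3, 6, 5, 3, 6, 5]] (.nil) (.kid 1118 [[6, 3, 2, 1, 3, 2, 4, 3, 5, 6, 3, 4]] (.nil) (.kid 1136 [[1, 2, 3, 2, 1, 0, 3, 2, 5, 3, 2, 1, 4]] (.nil) (.kid 1141 [[1, 2, 3, 2, 1, 0, 3, 2, 5, 3, 2, 4, 3]] (.nil) (.kid 1178 [[1, 2, 3, 2, 1, 0, 5, 3, 2, 3, 4, 5, 3]] (.nil) (.kid 1181 [[1, 2, 3, 2, 1, 3, 2, 3,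 5, 3, 2, 1, 3]] (.nil) (.kid 1221 [[1, 2, 3, 2, 1, 3, 2, 6, 3, 2, 1, 3, 4]] (.nil) (.kid 1224 [[1, 2, 3, 2, 1, 3, 2, 6, 3, 2, 3, 4, 3]] (.nil) (.kid 1262 [[1, 2, 3, 2, 1, 3, 4, 6, 3, 2, 3, 2, 4]] (.nil) (.kid 1265 [[1, 2, 3, 2, 1, 3, 4, 6, 3, 2, 3, 4, 5]] (.nil) (.kid 1288 [[1, 2, 3, 2, 1, 5, 3, 2, 3, 4, 5, 3, 6]] (.nil) (.kid 1292 [[1, 2, 3, 2, 1, 5, 3, 2, 3, 5, 6, 3, 2]] (.nil) (.kid 1294 [[1, 2, 3, 2, 1, 5, 3, 2, 3, 5, 6, 3, 5]] (.nil) (.kid 1325 [[1, 6, 3, 2, 1, 0, 3, 2, 3, 5, 3, 2, 4]] (.nil) (.kid 1397 [[1, 6, 3, 2, 1, 3, 2, 5, 3, 2, 3, 2, 4]] (.nil) (.kid 1424 [[6, 3, 2, 1, 0, 3, 2, 1, 3, 2, 3, 5, 3]] (.nil) (.kid 1425 [[6, 3, 2, 1, 0, 3, 2, 1, 3, 2, 4, 3, 6]] (.nil)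 (.kid 1435 [[6, 3, 2, 1, 0, 3, 2, 3, 4, 6, 3, 4, 5]] (.nil) (.kid 1444 [[6, 3, 2, 1, 0, 3, 2, 3, 6, 5, 3, 2, 6]] (.nil) (.kid 1445 [[6, 3, 2, 1, 0, 3, 2, 3, 6, 5, 3, 4, 6]] (.nil) (.kid 1446 [[6, 3, 2, 1, 0, 3, 2, 3, 6, 5, 3, 6, 5]] (.nil) (.kid 1448 [[6, 3, 2, 1, 0, 3, 2, 4, 3, 5, 6, 3, 5]] (.nil) (.kid 1471 [[6, 3, 2, 1, 3, 2, 1, 3, 2, 1, 6, 3, 4]] (.nil) (.kid 1482 [[6, 3, 2, 1, 3, 2, 1, 3, 4, 3, 2, 3, 6]] (.nil) (heCxTree5)))))))))))))))))))))))))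

/-- Part of the centraliser search. -/
def heCxTree7 : Tree ℕ := .kid 832 [[1, 2, 3, 2, 1, 3, 4, 5, 3, 2, 1, 4]] (.nil) (.kid 837 [[1, 2, 3, 2, 1, 3, 4, 5, 3, 2, 4, 3]] (.nil) (.kid 903 [[1, 6, 3, 2, 1, 0, 3, 2, 5, 3, 2, 1]] (.nil) (.kid 904 [[1, 6, 3, 2, 1, 0, 3, 2, 5, 3, 2, 3]] (.nil) (.kid 963 [[1, 6, 3, 2, 1, 3, 2, 5, 3, 2, 1, 3]] (.nil) (.kid 968 [[1, 6, 3, 2, 1, 3, 2, 5, 3, 2, 3, 6]] (.nil) (.kid 979 [[1, 6, 3, 2, 1, 5, 3, 2, 3, 4, 3, 5]] (.nil) (.kid 995 [[6, 3, 2, 1, 0, 3, 2, 1, 3, 2, 5, 3]] (.nil) (.kid 1024 [[6, 3, 2, 1, 0, 3, 2, 4, 3, 2, 5, 3]] (.nil) (.kid 1027 [[6, 3, 2, 1, 0, 3, 2, 4, 3, 6, 5, 3]] (.nil) (.kid 1029 [[6, 3, 2, 1, 0, 3, 2, 6, 3, 2, 3, 4], [1,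 2, 3, 2, 1, 0, 5, 3, 2, 3, 5, 6, 3, 4], [1, 2, 3, 2, 1, 3, 2, 5, 3, 2, 3, 4, 3, 2], [1, 2, 3, 2, 1, 5, 3, 2, 6, 3, 4, 5, 3, 2, 1], [6, 3, 2, 1, 3, 2, 3, 2, 6, 3, 2, 3, 2], [6, 3, 2, 1, 3, 2, 3, 6, 5, 3, 4, 6], [1, 6, 3, 2, 1, 3, 2, 4, 3, 2, 5, 3, 2, 1, 4], [1, 2, 3, 2, 1, 0, 3, 2, 6, 3, 2, 4, 3, 2], [6, 3, 2, 1, 3, 2, 3, 2, 3, 4, 5], [1, 6, 3, 2, 1, 0, 3, 2, 3, 4], [6, 3, 2, 1, 3, 2, 3, 2, 1, 3, 4, 5, 3], [1, 2, 3, 2, 1, 3, 2, 3, 6, 3, 2, 3, 2, 1, 4], [6, 3, 2, 1, 3, 2, 1, 3, 6, 5, 3, 2, 6], [6, 3, 2, 1, 3, 2, 3, 2, 6, 3, 2, 3, 5], [6, 3, 2, 1, 0, 3, 2, 3, 6, 3, 2, 3, 2, 1], [1, 2, 3, 2, 1, 3, 2, 5, 3, 2, 3, 4, 3, 5], [1, 2, 3, 2, 1, 3, 4, 5, 3, 2, 3, 2, 1, 0]] (.leaf 2) (.kid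 1083 [[6, 3, 2, 1, 3, 2, 3, 2, 1, 5, 3, 6]] (.nil) (.kid 1110 [[6, 3, 2, 1, 3, 2, 3, 6, 5, 3, 2, 1]] (.nil) (.kid 1111 [[6, 3, 2, 1, 3, 2, 3, 6, 5, 3, 2, 3]] (.nil) (.kid 1113 [[6, 3, 2, 1, 3, 2, 3, 6, 5, 3, 2, 6]] (.nil) (heCxTree6)))))))))))))))

/-- Part of the centraliser search. -/
def heCxTree8 : Tree ℕ := .kid 521 [[1, 2, 3, 2, 1, 5, 3, 2, 1, 4, 3]] (.nil) (.kid 528 [[1, 2, 3, 2, 1, 5, 3, 2, 3, 4, 6]] (.nil) (.kid 541 [[1, 2, 3, 2, 3, 4, 5, 3, 2, 1, 0]] (.nil) (.kid 564 [[1, 6, 3, 2, 1, 0, 3, 2, 5, 3, 4]] (.nil) (.kid 645 [[6, 3, 2, 1, 0, 3, 2, 3, 6, 3, 2]] (.nil) (.kid 647 [[6, 3, 2, 1, 0, 3, 2, 3, 6, 3, 5]] (.nil) (.kid 655 [[6, 3, 2, 1, 0, 3, 2, 6, 3, 2, 1]] (.nil)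 (.kid 656 [[6, 3, 2, 1, 0, 3, 2, 6, 3, 2, 3]] (.nil) (.kid 699 [[6, 3, 2, 1, 3, 2, 3, 2, 3, 4, 5], [1, 6, 3, 2, 1, 0, 3, 2, 3, 4], [6, 3, 2, 1, 3, 2, 3, 2, 1, 3, 4, 5, 3], [1, 2, 3, 2, 1, 3, 2, 3, 6, 3, 2, 3, 2, 1, 4], [6, 3, 2, 1, 3, 2, 1, 3, 6, 5, 3, 2, 6], [6, 3, 2, 1, 3, 2, 3, 2, 6, 3, 2, 3, 5], [6, 3, 2, 1, 0, 3, 2, 3, 6, 3, 2, 3, 2, 1], [1, 2, 3, 2, 1, 3, 2, 5, 3, 2, 3, 4, 3, 5], [1, 2, 3, 2, 1, 3, 4, 5, 3, 2, 3, 2, 1, 0], [6, 3, 2, 1, 0, 3, 2, 6, 3, 2, 3, 4], [1, 2, 3, 2, 1, 0, 5, 3, 2, 3, 5, 6, 3, 4], [1, 2, 3, 2, 1, 3, 2, 5, 3, 2, 3, 4, 3, 2], [1, 2, 3, 2, 1, 5, 3, 2, 6, 3, 4, 5, 3, 2, 1], [6, 3, 2, 1, 3, 2, 3, 2, 6, 3, 2, 3, 2], [6, 3, 2, 1, 3, 2, 3, 6, 5, 3, 4,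 6], [1, 6, 3, 2, 1, 3, 2, 4, 3, 2, 5, 3, 2, 1, 4], [1, 2, 3, 2, 1, 0, 3, 2, 6, 3, 2, 4, 3, 2]] (.leaf 1) (.kid 736 [[6, 3, 2, 1, 3, 4, 6, 3, 2, 3, 4]] (.nil) (.kid 739 [[6, 3, 2, 1, 3, 6, 5, 3, 2, 3, 2]] (.nil) (.kid 742 [[1, 2, 3, 2, 1, 0, 3, 2, 1, 5, 3, 4]] (.nil) (.kid 749 [[1, 2, 3, 2, 1, 0, 3, 2, 5, 3, 2, 4]] (.nil) (.kid 768 [[1, 2, 3, 2, 1, 0, 3, 4, 6, 3, 2, 3]] (.nil) (.kid 779 [[1, 2, 3, 2, 1, 0, 5, 3, 2, 3, 2, 6]] (.nil) (heCxTree7)))))))))))))))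

/-- Part of the centraliser search. -/
def heCxTree9 : Tree ℕ := .kid 262 [[1, 6, 3, 4, 5, 3, 2, 3, 4]] (.nil) (.kid 299 [[1, 2, 3, 2, 1, 0, 3, 5, 3, 2]] (.nil) (.kid 338 [[1, 2, 3, 2, 3, 4, 6, 3, 2, 1]] (.nil) (.kid 343 [[1, 2, 3, 2, 5, 3, 6, 5, 3, 2]] (.nil) (.kid 351 [[1, 6, 3, 2, 1, 0, 3, 2, 3, 4], [6, 3, 2, 1, 3, 2, 3, 2, 1, 3, 4, 5, 3], [1, 2, 3, 2, 1, 3, 2, 3, 6, 3, 2, 3, 2, 1, 4], [6, 3, 2, 1, 3, 2, 1, 3, 6, 5, 3, 2, 6], [6, 3, 2, 1, 3, 2, 3, 2, 6, 3, 2, 3, 5], [6, 3, 2, 1, 0, 3, 2, 3, 6, 3, 2, 3, 2, 1], [1, 2, 3, 2, 1, 3, 2, 5, 3, 2, 3, 4, 3, 5], [1, 2, 3, 2, 1, 3, 4, 5, 3, 2, 3, 2, 1, 0], [6, 3, 2, 1, 0, 3, 2, 6, 3, 2, 3, 4], [1, 2, 3, 2, 1, 0, 5, 3, 2, 3, 5, 6,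 3, 4], [1, 2, 3, 2, 1, 3, 2, 5, 3, 2, 3, 4, 3, 2], [1, 2, 3, 2, 1, 5, 3, 2, 6, 3, 4, 5, 3, 2, 1], [6, 3, 2, 1, 3, 2, 3, 2, 6, 3, 2, 3, 2], [6, 3, 2, 1, 3, 2, 3, 6, 5, 3, 4, 6], [1, 6, 3, 2, 1, 3, 2, 4, 3, 2, 5, 3, 2, 1, 4], [1, 2, 3, 2, 1, 0, 3, 2, 6, 3, 2, 4, 3, 2], [6, 3, 2, 1, 3, 2, 3, 2, 3, 4, 5]] (.leaf 0) (.kid 359 [[1, 6, 3, 2, 1, 0, 3, 6, 5, 3]] (.nil) (.kid 368 [[1, 6, 3, 2, 1, 3, 2, 3, 5, 3]] (.nil) (.kid 377 [[1, 6, 3, 2, 1, 3, 2, 5, 3, 2]] (.nil) (.kid 382 [[1, 6, 3, 2, 1, 3, 4, 6, 3, 2]] (.nil) (.kid 383 [[1, 6, 3, 2, 1, 3, 6, 5, 3, 6]] (.nil) (.kid 388 [[1, 6, 3, 2, 1, 5, 3, 2, 6, 3]] (.nil) (.kid 390 [[1, 6, 3, 4, 5, 3, 2, 3, 2, 1]] (.nil) (.kid 395 [[6, 3,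 2, 1, 0, 3, 2, 3, 2, 1]] (.nil) (.kid 418 [[6, 3, 2, 1, 3, 2, 1, 3, 4, 6]] (.nil) (.kid 443 [[6, 3, 2, 1, 3, 2, 3, 4, 6, 3]] (.nil) (.kid 474 [[1, 2, 3, 2, 1, 3, 2, 3, 5, 3, 2]] (.nil) (heCxTree8))))))))))))))))

/-- Verdicts at a leaf. -/
def heLeaf0 : List Verdict := [.drop 0 1492 [(1767, [5]), (633, [3, 7, 0, 9])],
  .drop 0 1492 [(1767, [5]), (633, [3, 7, 0, 9])]]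

/-- Verdicts at a leaf. -/
def heLeaf1 : List Verdict := [.drop 0 344 [(1986, [7]), (2043, [1, 5, 2, 11])],
  .drop 0 344 [(1986, [7]), (2043, [1, 5, 2, 11])]]

/-- Verdicts at a leaf. -/
def heLeaf2 : List Verdict := [.drop 1 947 [(1212, [2, 12, 11]), (1853, [3, 5, 10, 1]), (1488, [5, 17, 13, 3]), (1763, [1, 3, 13, 4]), (1328, [1, 4, 10]), (371, [0, 4, 10])],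
  .keep true]

/-- Verdicts at a leaf. -/
def heLeaf3 : List Verdict := [.drop 2 1981 [(1235, [1, 4, 11, 3]), (921, [1, 15, 13]), (1117, [3, 6, 17]), (389, [4, 15, 13, 9]), (606, [2, 11, 8]), (1543, [3, 8, 1, 4])],
  .drop 2 1901 [(815, [16]), (1692, [2, 11, 5, 1]), (1699, [4, 15, 17, 3]), (529, [13, 16, 3, 2]), (930, [4, 7, 0, 1]), (921, [1, 15, 13])]]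

/-- Verdicts at a leaf. -/
def heLeaf4 : List Verdict := [.drop 2 2043 [(1605, [5, 13, 3, 0]), (1843, [1, 3, 8, 0]), (363, [3, 8, 9]), (1715, [9, 0, 10, 15]), (1587, [3, 11, 1, 6]), (1803, [4, 13, 6])],
  .drop 1 1981 [(1009, [1, 4, 11, 3]), (921, [2, 12, 14]), (1095, [3, 6, 17]), (389, [5, 12, 14, 10]), (186, [2, 11, 8]), (1543, [4, 9, 0, 2])]]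

/-- Verdicts at a leaf. -/
def heLeaf5 : List Verdict := [.drop 3 1246 [(706, [14, 2, 10, 5]), (771, [3, 6, 8]), (230, [1, 14, 7]), (1265, [2, 17, 13, 8, 5]), (1348, [2, 4, 7]), (1264, [1, 10, 11])],
  .drop 2 2043 [(1212, [3, 13, 8]), (906, [3, 5, 10, 1]), (1488, [6, 17, 14, 4]), (1222, [1, 3, 13, 4]), (1328, [2, 5, 11]), (1308, [0, 4, 10])]]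

/-- Verdicts at a leaf. -/
def heLeaf6 : List Verdict := [.drop 0 1157 [(1767, [6]), (947, [3, 7, 0, 9])],
  .drop 0 1157 [(1767, [6]), (947, [3, 7, 0, 9])]]

/-- Verdicts at a leaf. -/
def heLeaf7 : List Verdict := [.drop 0 344 [(1551, [7]), (2043, [2, 6, 3, 8])],
  .drop 0 344 [(1551, [7]), (2043, [2, 6, 3, 8])]]

/-- Verdicts at a leaf. -/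
def heLeaf8 : List Verdict := [.drop 0 344 [(1350, [7]), (2043, [3, 7, 4, 9])],
  .drop 0 344 [(1350, [7]), (2043, [3, 7, 4, 9])]]

/-- Verdicts at a leaf. -/
def heLeaf9 : List Verdict := [.drop 0 344 [(1767, [7]), (2043, [3, 7, 0, 9])],
  .drop 0 344 [(1767, [7]), (2043, [3, 7, 0, 9])]]

/-- Verdicts at a leaf. -/
def heLeaf10 : List Verdict := [.drop 2 1518 [(774, [3, 16, 13]), (771, [4, 7, 9]), (59, [6, 16, 1, 2]), (1596, [6, 13, 17, 5, 8]), (1115, [8]), (722, [3, 16, 6, 4])],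
  .drop 4 254 [(1077, [13, 1, 9, 4]), (1140, [0, 5, 10]), (595, [0, 13, 6]), (1444, [4, 17, 15, 10, 0]), (680, [1, 3, 6]), (403, [3, 8, 9])]]

/-- Verdicts at a leaf. -/
def heLeaf11 : List Verdict := [.drop 4 633 [(1141, [1, 3, 0, 4]), (1375, [5, 15, 16]), (1941, [1, 7, 5]), (1852, [16, 4, 14, 11, 2]), (1196, [5]), (915, [10, 8, 3, 0, 16])],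
  .drop 1 2043 [(1068, [5, 13, 3, 0]), (1843, [2, 4, 9, 0]), (760, [3, 8, 9]), (1715, [10, 1, 11, 12]), (1990, [3, 11, 1, 6]), (1803, [5, 14, 7])]]

/-- Verdicts at a leaf. -/
def heLeaf12 : List Verdict := [.drop 0 344 [(110, [7]), (2043, [0, 4, 1, 10])],
  .drop 0 344 [(110, [7]), (2043, [0, 4, 1, 10])]]

/-- Verdicts at a leaf. -/
def heLeaf13 : List Verdict := [.drop 0 344 [(1607, [7]), (2043, [0, 4, 5, 10])],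
  .drop 0 344 [(1607, [7]), (2043, [0, 4, 5, 10])]]

/-- Verdicts at a leaf. -/
def heLeaf14 : List Verdict := [.drop 1 1901 [(815, [16]), (1815, [2, 11, 5, 1]), (1699, [3, 14, 17, 2]), (1092, [13, 16, 3, 2]), (930, [3, 6, 7, 0]), (104, [1, 15, 13])],
  .drop 1 1518 [(54, [3, 16, 13]), (771, [0, 5, 10]), (1150, [6, 16, 1, 2]), (1596, [7, 14, 17, 6, 9]), (1518, [8]), (722, [4, 16, 7, 0])]]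

/-- Verdicts at a leaf. -/
def heLeaf15 : List Verdict := [.keep false,
  .drop 5 1901 [(815, [16]), (1695, [0, 4, 16, 10]), (1730, [0, 17, 1, 11, 13]), (1548, [0, 16, 2]), (548, [0, 8, 9, 13]), (173, [9, 1, 0, 3])]]

/-- Part of the search for the image of `z`. -/
def heZTree0 : Tree (List Verdict) := .kid 995 [[6, 3, 2, 1, 0, 3, 2, 1, 3, 2, 5, 3], [1, 2, 3, 2, 1, 5, 3, 2, 6, 3, 4, 5, 3, 2], [1, 2, 3, 2, 1, 0, 3, 2, 5, 3, 2, 1, 4, 3, 6], [1, 2, 3, 2, 1, 5, 3, 2, 4]] (.kid 110 [[6, 3, 2, 1, 0, 3, 6], [1, 2, 3, 2, 1, 3, 5, 3, 2, 3, 4, 5, 3, 2, 1], [1, 2, 3, 2, 1, 0, 3, 2, 5, 3, 2, 3, 4, 3], [1, 6, 3, 2, 1, 3, 2, 3, 2, 1, 0, 6, 5], [1, 2, 3, 2, 1, 3, 2, 3, 5, 3, 2, 3, 5, 6],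 [1, 2, 3, 2, 1, 0, 3, 2, 6, 5, 3, 2, 4, 3], [1, 2, 3, 2, 1, 3, 2, 3, 6, 3, 2, 5], [1, 6, 3, 2, 1, 3, 2, 3, 4, 5, 3, 2, 1, 4]] (.leaf heLeaf12) (.kid 1607 [[1, 2, 3, 2, 1, 3, 2, 3, 5, 3, 2, 3, 5, 6], [1, 2, 3, 2, 1, 0, 3, 2, 6, 5, 3, 2, 4, 3], [1, 2, 3, 2, 1, 3, 2, 3, 6, 3, 2, 5], [1, 6, 3, 2, 1, 3, 2, 3, 4, 5, 3, 2, 1, 4], [6, 3, 2, 1, 0, 3, 6], [1, 2, 3, 2, 1, 3, 5, 3, 2, 3, 4, 5, 3, 2, 1], [1, 2, 3, 2, 1, 0, 3, 2, 5, 3, 2, 3, 4, 3], [1, 6, 3, 2, 1, 3, 2, 3, 2, 1, 0, 6, 5]] (.leaf heLeaf13) (.nil))) (.kid 1224 [[1, 2, 3, 2, 1, 3, 2, 6, 3, 2, 3, 4, 3], [1, 6, 3, 2, 1, 0, 3, 2, 6, 3, 2, 1, 4, 3, 2], [6, 3, 2, 1, 3, 2, 3, 6, 5, 3, 6, 5], [6, 3, 2, 1, 3, 2, 3, 2, 6, 3, 2, 3,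 2]] (.kid 448 [[6, 3, 2, 1, 3, 2, 4, 3, 2, 5], [1, 2, 3, 2, 1, 5, 3, 2, 3, 2, 6, 3, 5], [1, 2, 3, 2, 3, 5, 6, 3], [1, 6, 3, 2, 1, 0, 3, 2, 5, 3, 2, 3, 6], [1, 2, 3, 2, 1, 3, 2, 3, 5, 3, 2, 3, 2, 1, 4], [1, 2, 3, 2, 1, 3, 2, 5, 3, 2, 1, 3, 4], [6, 3, 2, 1, 3, 2, 1, 3, 2, 1, 6, 3], [1, 6, 3, 2, 1, 0, 3, 2, 3, 6]] (.leaf heLeaf14) (.kid 1927 [[1, 2, 3, 2, 1, 3, 2, 3, 5, 3, 2, 3, 2, 1, 4], [1, 2, 3, 2, 1, 3, 2, 5, 3, 2, 1, 3, 4], [6, 3, 2, 1, 3, 2, 1, 3, 2, 1, 6, 3], [1, 6, 3, 2, 1, 0, 3, 2, 3, 6], [6, 3, 2, 1, 3, 2, 4, 3, 2, 5], [1, 2, 3, 2, 1, 5, 3, 2, 3, 2, 6, 3, 5], [1, 2, 3, 2, 3, 5, 6, 3], [1, 6, 3, 2, 1, 0, 3, 2, 5, 3, 2, 3, 6]] (.leaf heLeaf15) (.nil))) (.nil))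

/-- Part of the search for the image of `z`. -/
def heZTree1 : Tree (List Verdict) := .kid 1205 [[1, 2, 3, 2, 1, 3, 2, 5, 3, 2, 3, 4, 6], [1, 6, 3, 2, 1, 0, 3, 2, 1, 3, 4, 5], [6, 3, 2, 1, 3, 2, 1, 3, 4, 6, 3, 2, 3], [6, 3, 2, 1, 3, 2, 3, 2, 5, 3, 2, 1]] (.kid 1723 [[1, 2, 3, 2, 1, 5, 3, 2, 6, 3, 4, 5, 3, 2], [1, 2, 3, 2, 1, 0, 3, 2, 5, 3, 2, 1, 4, 3, 6], [1, 2, 3, 2, 1, 5, 3, 2, 4], [6, 3, 2, 1, 0, 3, 2, 1, 3, 2, 5, 3]] (.kid 37 [[6, 3, 2, 3, 4]] (.nil) (.kid 1900 [[1, 2, 3, 2, 1, 0, 3, 2, 6, 3, 5, 3, 6, 3, 2]] (.nil) (.nil))) (.kid 2004 [[1, 6, 3, 2, 1, 0, 3, 2, 6, 3, 2, 1, 4, 3, 2], [6, 3, 2, 1, 3, 2, 3, 6, 5, 3, 6, 5], [6, 3, 2, 1, 3, 2, 3, 2, 6, 3, 2, 3, 2], [1, 2, 3,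 2, 1, 3, 2, 6, 3, 2, 3, 4, 3]] (.kid 1552 [[1, 2, 3, 2, 1, 0, 3, 2, 5, 3, 2, 3, 4, 5]] (.nil) (.kid 1827 [[6, 3, 2, 1, 3, 2, 1, 3, 2, 1, 3, 2, 3, 4]] (.nil) (.nil))) (.nil))) (.kid 1246 [[1, 2, 3, 2, 1, 3, 4, 5, 3, 2, 3, 2, 5]] (.nil) (.kid 1421 [[1, 6, 3, 2, 1, 5, 3, 2, 4, 3, 2, 5, 3]] (.nil) (.kid 1487 [[6, 3, 2, 1, 3, 2, 1, 3, 4, 6, 3, 2, 3], [6, 3, 2, 1, 3, 2, 3, 2, 5, 3, 2, 1], [1, 2, 3, 2, 1, 3, 2, 5, 3, 2, 3, 4, 6], [1, 6, 3, 2, 1, 0, 3, 2, 1, 3, 4, 5]] (.kid 209 [[1, 2, 3, 2, 1, 5, 3, 2, 4], [6, 3, 2, 1, 0, 3, 2, 1, 3, 2, 5, 3], [1, 2, 3, 2, 1, 5, 3, 2, 6, 3, 4, 5, 3, 2], [1, 2, 3, 2, 1, 0, 3, 2, 5, 3, 2, 1, 4, 3, 6]] (.kid 445 [[6, 3, 2, 1, 3, 2, 3, 6, 5, 3]] (.nil)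 (.kid 807 [[1, 2, 3, 2, 1, 3, 2, 5, 6, 3, 2, 1]] (.nil) (.nil))) (.kid 1518 [[6, 3, 2, 1, 3, 2, 3, 2, 6, 3, 2, 3, 2], [1, 2, 3, 2, 1, 3, 2, 6, 3, 2, 3, 4, 3], [1, 6, 3, 2, 1, 0, 3, 2, 6, 3, 2, 1, 4, 3, 2], [6, 3, 2, 1, 3, 2, 3, 6, 5, 3, 6, 5]] (.kid 980 [[1, 6, 3, 2, 1, 5, 3, 2, 3, 4, 3, 6]] (.nil) (.kid 1839 [[6, 3, 2, 1, 3, 2, 1, 3, 2, 6, 3, 2, 4, 3]] (.nil) (.nil))) (.nil))) (.kid 1649 [[1, 2, 3, 2, 1, 3, 2, 6, 3, 2, 4, 3, 2, 3]] (.nil) (.kid 1739 [[1, 6, 3, 2, 1, 0, 3, 2, 3, 5, 3, 2, 1, 4]] (.nil) (.kid 1795 [[1, 6, 3, 2, 1, 3, 2, 6, 3, 2, 4, 3, 2, 1]] (.nil) (.kid 1842 [[6, 3, 2, 1, 3, 2, 1, 3, 4, 5, 3, 2, 6, 3]] (.nil) (.kid 1920 [[1, 2, 3, 2, 1, 0, 5, 3, 2, 3, 5, 6,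 3, 2, 4], [1, 2, 3, 2, 3, 5, 3, 4], [1, 6, 3, 2, 3, 4, 6, 3], [6, 3, 2, 1, 0, 3, 2, 3, 2, 6, 3]] (heZTree0) (.nil)))))))))

/-- Part of the search for the image of `z`. -/
def heZTree2 : Tree (List Verdict) := .kid 883 [[1, 6, 3, 2, 1, 0, 3, 2, 1, 3, 4, 5], [6, 3, 2, 1, 3, 2, 1, 3, 4, 6, 3, 2, 3], [6, 3, 2, 1, 3, 2, 3, 2, 5, 3, 2, 1], [1, 2, 3, 2, 1, 3, 2, 5, 3, 2, 3, 4, 6]] (.kid 1115 [[6, 3, 2, 1, 3, 2, 3, 6, 5, 3, 6, 5], [6, 3, 2, 1, 3, 2, 3, 2, 6, 3, 2, 3, 2], [1, 2, 3, 2, 1, 3, 2, 6, 3, 2, 3, 4, 3], [1, 6, 3, 2, 1, 0, 3, 2, 6, 3, 2, 1, 4, 3, 2]] (.kid 817 [[1, 2, 3, 2, 1, 3, 2, 6, 3, 2, 3, 5]] (.nil) (.kid 1687 [[1, 2, 3, 2, 1, 3, 4, 6, 3, 2, 1, 3, 4, 5]] (.nil) (.nil)))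 (.kid 1887 [[1, 2, 3, 2, 1, 0, 3, 2, 5, 3, 2, 1, 4, 3, 6], [1, 2, 3, 2, 1, 5, 3, 2, 4], [6, 3, 2, 1, 0, 3, 2, 1, 3, 2, 5, 3], [1, 2, 3, 2, 1, 5, 3, 2, 6, 3, 4, 5, 3, 2]] (.kid 1521 [[6, 3, 2, 1, 3, 2, 3, 4, 3, 2, 3, 5, 3]] (.nil) (.kid 1837 [[6, 3, 2, 1, 3, 2, 1, 3, 2, 6, 3, 2, 1, 4]] (.nil) (.nil))) (.nil))) (.kid 1093 [[6, 3, 2, 1, 3, 2, 3, 2, 5, 3, 2, 1], [1, 2, 3, 2, 1, 3, 2, 5, 3, 2, 3, 4, 6], [1, 6, 3, 2, 1, 0, 3, 2, 1, 3, 4, 5], [6, 3, 2, 1, 3, 2, 1, 3, 4, 6, 3, 2, 3]] (.kid 995 [[6, 3, 2, 1, 0, 3, 2, 1, 3, 2, 5, 3], [1, 2, 3, 2, 1, 5, 3, 2, 6, 3, 4, 5, 3, 2], [1, 2, 3, 2, 1, 0, 3, 2, 5, 3, 2, 1, 4, 3, 6], [1, 2, 3, 2, 1, 5, 3, 2, 4]] (.kid 494 [[1, 2, 3, 2, 1, 3, 2,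 6, 3, 4, 5]] (.nil) (.kid 659 [[6, 3, 2, 1, 0, 3, 2, 6, 3, 4, 5]] (.nil) (.nil))) (.kid 1224 [[1, 2, 3, 2, 1, 3, 2, 6, 3, 2, 3, 4, 3], [1, 6, 3, 2, 1, 0, 3, 2, 6, 3, 2, 1, 4, 3, 2], [6, 3, 2, 1, 3, 2, 3, 6, 5, 3, 6, 5], [6, 3, 2, 1, 3, 2, 3, 2, 6, 3, 2, 3, 2]] (.kid 304 [[1, 2, 3, 2, 1, 3, 2, 3, 6, 3]] (.nil) (.kid 1564 [[1, 2, 3, 2, 1, 0, 3, 2, 6, 3, 5, 3, 2, 3]] (.nil) (.nil))) (.nil))) (heZTree1))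

/-- Part of the search for the image of `z`. -/
def heZTree3 : Tree (List Verdict) := .kid 209 [[1, 2, 3, 2, 1, 5, 3, 2, 4], [6, 3, 2, 1, 0, 3, 2, 1, 3, 2, 5, 3], [1, 2, 3, 2, 1, 5, 3, 2, 6, 3, 4, 5, 3, 2], [1, 2, 3, 2, 1, 0, 3, 2, 5, 3, 2, 1, 4, 3, 6]] (.kid 1350 [[1, 6, 3, 2, 1, 3, 2, 3, 2, 1, 0, 6, 5], [1, 2, 3, 2, 1, 3, 2, 3, 5, 3, 2, 3, 5, 6], [1, 2, 3, 2, 1, 0, 3, 2, 6, 5, 3, 2, 4, 3], [1, 2, 3, 2, 1, 3, 2, 3, 6, 3, 2, 5], [1, 6, 3, 2, 1, 3, 2, 3, 4, 5, 3, 2, 1, 4], [6, 3, 2, 1, 0, 3, 6], [1, 2, 3, 2, 1, 3, 5, 3, 2, 3, 4, 5, 3, 2, 1], [1, 2, 3, 2, 1, 0, 3, 2, 5, 3, 2, 3, 4, 3]] (.leaf heLeaf8) (.kid 1767 [[1, 6, 3, 2, 1, 3, 2, 3, 4, 5, 3, 2, 1, 4], [6, 3, 2, 1, 0, 3,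 6], [1, 2, 3, 2, 1, 3, 5, 3, 2, 3, 4, 5, 3, 2, 1], [1, 2, 3, 2, 1, 0, 3, 2, 5, 3, 2, 3, 4, 3], [1, 6, 3, 2, 1, 3, 2, 3, 2, 1, 0, 6, 5], [1, 2, 3, 2, 1, 3, 2, 3, 5, 3, 2, 3, 5, 6], [1, 2, 3, 2, 1, 0, 3, 2, 6, 5, 3, 2, 4, 3], [1, 2, 3, 2, 1, 3, 2, 3, 6, 3, 2, 5]] (.leaf heLeaf9) (.nil))) (.kid 1518 [[6, 3, 2, 1, 3, 2, 3, 2, 6, 3, 2, 3, 2], [1, 2, 3, 2, 1, 3, 2, 6, 3, 2, 3, 4, 3], [1, 6, 3, 2, 1, 0, 3, 2, 6, 3, 2, 1, 4, 3, 2], [6, 3, 2, 1, 3, 2, 3, 6, 5, 3, 6, 5]] (.kid 353 [[1, 6, 3, 2, 1, 0, 3, 2, 3, 6], [6, 3, 2, 1, 3, 2, 4, 3, 2, 5], [1, 2, 3, 2, 1, 5, 3, 2, 3, 2, 6, 3, 5], [1, 2, 3, 2, 3, 5, 6, 3], [1, 6, 3, 2, 1, 0, 3, 2, 5, 3, 2, 3, 6], [1, 2, 3, 2, 1, 3, 2, 3, 5, 3, 2,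 3, 2, 1, 4], [1, 2, 3, 2, 1, 3, 2, 5, 3, 2, 1, 3, 4], [6, 3, 2, 1, 3, 2, 1, 3, 2, 1, 6, 3]] (.leaf heLeaf10) (.kid 1341 [[1, 6, 3, 2, 1, 0, 3, 2, 5, 3, 2, 3, 6], [1, 2, 3, 2, 1, 3, 2, 3, 5, 3, 2, 3, 2, 1, 4], [1, 2, 3, 2, 1, 3, 2, 5, 3, 2, 1, 3, 4], [6, 3, 2, 1, 3, 2, 1, 3, 2, 1, 6, 3], [1, 6, 3, 2, 1, 0, 3, 2, 3, 6], [6, 3, 2, 1, 3, 2, 4, 3, 2, 5], [1, 2, 3, 2, 1, 5, 3, 2, 3, 2, 6, 3, 5], [1, 2, 3, 2, 3, 5, 6, 3]] (.leaf heLeaf11) (.nil))) (.nil))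

/-- Part of the search for the image of `z`. -/
def heZTree4 : Tree (List Verdict) := .kid 1115 [[6, 3, 2, 1, 3, 2, 3, 6, 5, 3, 6, 5], [6, 3, 2, 1, 3, 2, 3, 2, 6, 3, 2, 3, 2], [1, 2, 3, 2, 1, 3, 2, 6, 3, 2, 3, 4, 3], [1, 6, 3, 2, 1, 0, 3, 2, 6, 3, 2, 1, 4, 3, 2]] (.kid 140 [[1, 2, 3, 2, 3, 5, 6, 3], [1, 6, 3, 2, 1, 0, 3, 2, 5, 3, 2, 3, 6], [1, 2, 3, 2, 1, 3, 2, 3, 5, 3, 2, 3, 2, 1, 4], [1, 2, 3, 2, 1, 3, 2, 5, 3, 2, 1, 3, 4], [6, 3, 2, 1, 3, 2, 1, 3, 2, 1, 6, 3], [1, 6, 3, 2, 1, 0, 3, 2, 3, 6], [6, 3, 2, 1, 3, 2, 4, 3, 2, 5], [1, 2, 3, 2, 1, 5, 3, 2, 3, 2, 6, 3, 5]] (.leaf heLeaf4) (.kid 1039 [[6, 3, 2, 1, 3, 2, 1, 3, 2, 1, 6, 3], [1, 6, 3, 2, 1, 0, 3, 2, 3, 6], [6, 3, 2,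 1, 3, 2, 4, 3, 2, 5], [1, 2, 3, 2, 1, 5, 3, 2, 3, 2, 6, 3, 5], [1, 2, 3, 2, 3, 5, 6, 3], [1, 6, 3, 2, 1, 0, 3, 2, 5, 3, 2, 3, 6], [1, 2, 3, 2, 1, 3, 2, 3, 5, 3, 2, 3, 2, 1, 4], [1, 2, 3, 2, 1, 3, 2, 5, 3, 2, 1, 3, 4]] (.leaf heLeaf5) (.nil))) (.kid 1887 [[1, 2, 3, 2, 1, 0, 3, 2, 5, 3, 2, 1, 4, 3, 6], [1, 2, 3, 2, 1, 5, 3, 2, 4], [6, 3, 2, 1, 0, 3, 2, 1, 3, 2, 5, 3], [1, 2, 3, 2, 1, 5, 3, 2, 6, 3, 4, 5, 3, 2]] (.kid 790 [[1, 2, 3, 2, 1, 3, 2, 3, 6, 3, 2, 5], [1, 6, 3, 2, 1, 3, 2, 3, 4, 5, 3, 2, 1, 4], [6, 3, 2, 1, 0, 3, 6], [1, 2, 3, 2, 1, 3, 5, 3, 2, 3, 4, 5, 3, 2, 1], [1, 2, 3, 2, 1, 0, 3, 2, 5, 3, 2, 3, 4, 3], [1, 6, 3, 2, 1, 3, 2, 3, 2, 1, 0, 6, 5], [1, 2, 3, 2, 1, 3, 2,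 3, 5, 3, 2, 3, 5, 6], [1, 2, 3, 2, 1, 0, 3, 2, 6, 5, 3, 2, 4, 3]] (.leaf heLeaf6) (.kid 1551 [[1, 2, 3, 2, 1, 0, 3, 2, 5, 3, 2, 3, 4, 3], [1, 6, 3, 2, 1, 3, 2, 3, 2, 1, 0, 6, 5], [1, 2, 3, 2, 1, 3, 2, 3, 5, 3, 2, 3, 5, 6], [1, 2, 3, 2, 1, 0, 3, 2, 6, 5, 3, 2, 4, 3], [1, 2, 3, 2, 1, 3, 2, 3, 6, 3, 2, 5], [1, 6, 3, 2, 1, 3, 2, 3, 4, 5, 3, 2, 1, 4], [6, 3, 2, 1, 0, 3, 6], [1, 2, 3, 2, 1, 3, 5, 3, 2, 3, 4, 5, 3, 2, 1]] (.leaf heLeaf7) (.nil))) (.nil))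

/-- Part of the search for the image of `z`. -/
def heZTree5 : Tree (List Verdict) := .kid 1723 [[1, 2, 3, 2, 1, 5, 3, 2, 6, 3, 4, 5, 3, 2], [1, 2, 3, 2, 1, 0, 3, 2, 5, 3, 2, 1, 4, 3, 6], [1, 2, 3, 2, 1, 5, 3, 2, 4], [6, 3, 2, 1, 0, 3, 2, 1, 3, 2, 5, 3]] (.kid 1569 [[1, 2, 3, 2, 1, 0, 3, 2, 6, 5, 3, 2, 4, 3], [1, 2, 3, 2, 1, 3, 2, 3, 6, 3, 2, 5], [1, 6, 3, 2, 1, 3, 2, 3, 4, 5, 3, 2, 1, 4], [6, 3, 2, 1, 0, 3, 6], [1, 2, 3, 2, 1, 3, 5, 3, 2, 3, 4, 5, 3, 2, 1], [1, 2, 3, 2, 1, 0, 3, 2, 5, 3, 2, 3, 4, 3], [1, 6, 3, 2, 1, 3, 2, 3, 2, 1, 0, 6, 5], [1, 2, 3, 2, 1, 3, 2, 3, 5, 3, 2, 3, 5, 6]] (.leaf heLeaf0) (.kid 1986 [[1, 2, 3, 2, 1, 3, 5, 3, 2, 3, 4, 5, 3, 2, 1], [1, 2, 3, 2,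 1, 0, 3, 2, 5, 3, 2, 3, 4, 3], [1, 6, 3, 2, 1, 3, 2, 3, 2, 1, 0, 6, 5], [1, 2, 3, 2, 1, 3, 2, 3, 5, 3, 2, 3, 5, 6], [1, 2, 3, 2, 1, 0, 3, 2, 6, 5, 3, 2, 4, 3], [1, 2, 3, 2, 1, 3, 2, 3, 6, 3, 2, 5], [1, 6, 3, 2, 1, 3, 2, 3, 4, 5, 3, 2, 1, 4], [6, 3, 2, 1, 0, 3, 6]] (.leaf heLeaf1) (.nil))) (.kid 2004 [[1, 6, 3, 2, 1, 0, 3, 2, 6, 3, 2, 1, 4, 3, 2], [6, 3, 2, 1, 3, 2, 3, 6, 5, 3, 6, 5], [6, 3, 2, 1, 3, 2, 3, 2, 6, 3, 2, 3, 2], [1, 2, 3, 2, 1, 3, 2, 6, 3, 2, 3, 4, 3]] (.kid 1196 [[1, 2, 3, 2, 1, 3, 2, 5, 3, 2, 1, 3, 4], [6, 3, 2, 1, 3, 2, 1, 3, 2, 1, 6, 3], [1, 6, 3, 2, 1, 0, 3, 2, 3, 6], [6, 3, 2, 1, 3, 2, 4, 3, 2, 5], [1, 2, 3, 2, 1, 5, 3, 2, 3, 2, 6, 3, 5], [1, 2, 3, 2, 3,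 5, 6, 3], [1, 6, 3, 2, 1, 0, 3, 2, 5, 3, 2, 3, 6], [1, 2, 3, 2, 1, 3, 2, 3, 5, 3, 2, 3, 2, 1, 4]] (.leaf heLeaf2) (.kid 1285 [[1, 2, 3, 2, 1, 5, 3, 2, 3, 2, 6, 3, 5], [1, 2, 3, 2, 3, 5, 6, 3], [1, 6, 3, 2, 1, 0, 3, 2, 5, 3, 2, 3, 6], [1, 2, 3, 2, 1, 3, 2, 3, 5, 3, 2, 3, 2, 1, 4], [1, 2, 3, 2, 1, 3, 2, 5, 3, 2, 1, 3, 4], [6, 3, 2, 1, 3, 2, 1, 3, 2, 1, 6, 3], [1, 6, 3, 2, 1, 0, 3, 2, 3, 6], [6, 3, 2, 1, 3, 2, 4, 3, 2, 5]] (.leaf heLeaf3) (.nil))) (.nil))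

/-- Part of the search for the image of `z`. -/
def heZTree6 : Tree (List Verdict) := .kid 1205 [[1, 2, 3, 2, 1, 3, 2, 5, 3, 2, 3, 4, 6], [1, 6, 3, 2, 1, 0, 3, 2, 1, 3, 4, 5], [6, 3, 2, 1, 3, 2, 1, 3, 4, 6, 3, 2, 3], [6, 3, 2, 1, 3, 2, 3, 2, 5, 3, 2, 1]] (.kid 1723 [[1, 2, 3, 2, 1, 5, 3, 2, 6, 3, 4, 5, 3, 2], [1, 2, 3, 2, 1, 0, 3, 2, 5, 3, 2, 1, 4, 3, 6], [1, 2, 3, 2, 1, 5, 3, 2, 4], [6, 3, 2, 1, 0, 3, 2, 1, 3, 2, 5, 3]] (.nil) (.kid 2004 [[1, 6, 3, 2, 1, 0, 3, 2, 6, 3, 2, 1, 4, 3, 2], [6, 3, 2, 1, 3, 2, 3, 6, 5, 3, 6, 5], [6, 3, 2, 1, 3, 2, 3, 2, 6, 3, 2, 3, 2], [1, 2, 3, 2, 1, 3, 2, 6, 3, 2, 3, 4, 3]] (.nil) (.nil))) (.kid 1246 [[1, 2, 3, 2, 1, 3, 4, 5, 3, 2, 3, 2, 5]]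 (.nil) (.kid 1421 [[1, 6, 3, 2, 1, 5, 3, 2, 4, 3, 2, 5, 3]] (.nil) (.kid 1487 [[6, 3, 2, 1, 3, 2, 1, 3, 4, 6, 3, 2, 3], [6, 3, 2, 1, 3, 2, 3, 2, 5, 3, 2, 1], [1, 2, 3, 2, 1, 3, 2, 5, 3, 2, 3, 4, 6], [1, 6, 3, 2, 1, 0, 3, 2, 1, 3, 4, 5]] (.kid 209 [[1, 2, 3, 2, 1, 5, 3, 2, 4], [6, 3, 2, 1, 0, 3, 2, 1, 3, 2, 5, 3], [1, 2, 3, 2, 1, 5, 3, 2, 6, 3, 4, 5, 3, 2], [1, 2, 3, 2, 1, 0, 3, 2, 5, 3, 2, 1, 4, 3, 6]] (.nil) (.kid 1518 [[6, 3, 2, 1, 3, 2, 3, 2, 6, 3, 2, 3, 2], [1, 2, 3, 2, 1, 3, 2, 6, 3, 2, 3, 4, 3], [1, 6, 3, 2, 1, 0, 3, 2, 6, 3, 2, 1, 4, 3, 2], [6, 3, 2, 1, 3, 2, 3, 6, 5, 3, 6, 5]] (.nil) (.nil))) (.kid 1649 [[1, 2, 3, 2, 1, 3, 2, 6, 3, 2, 4, 3, 2, 3]] (.nil) (.kid 1739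 [[1, 6, 3, 2, 1, 0, 3, 2, 3, 5, 3, 2, 1, 4]] (.nil) (.kid 1795 [[1, 6, 3, 2, 1, 3, 2, 6, 3, 2, 4, 3, 2, 1]] (.nil) (.kid 1842 [[6, 3, 2, 1, 3, 2, 1, 3, 4, 5, 3, 2, 6, 3]] (.nil) (.kid 1920 [[1, 2, 3, 2, 1, 0, 5, 3, 2, 3, 5, 6, 3, 2, 4], [1, 2, 3, 2, 3, 5, 3, 4], [1, 6, 3, 2, 3, 4, 6, 3], [6, 3, 2, 1, 0, 3, 2, 3, 2, 6, 3]] (.kid 995 [[6, 3, 2, 1, 0, 3, 2, 1, 3, 2, 5, 3], [1, 2, 3, 2, 1, 5, 3, 2, 6, 3, 4, 5, 3, 2], [1, 2, 3, 2, 1, 0, 3, 2, 5, 3, 2, 1, 4, 3, 6], [1, 2, 3, 2, 1, 5, 3, 2, 4]] (.nil) (.kid 1224 [[1, 2, 3, 2, 1, 3, 2, 6, 3, 2, 3, 4, 3], [1, 6, 3, 2, 1, 0, 3, 2, 6, 3, 2, 1, 4, 3, 2], [6, 3, 2, 1, 3, 2, 3, 6, 5, 3, 6, 5], [6, 3, 2, 1, 3, 2, 3, 2, 6, 3, 2, 3, 2]] (.nil)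 (.nil))) (.nil)))))))))

/-- Part of the search for the image of `z`. -/
def heZTree7 : Tree (List Verdict) := .kid 638 [[6, 3, 2, 1, 0, 3, 2, 3, 2, 6, 3], [1, 2, 3, 2, 1, 0, 5, 3, 2, 3, 5, 6, 3, 2, 4], [1, 2, 3, 2, 3, 5, 3, 4], [1, 6, 3, 2, 3, 4, 6, 3]] (.kid 209 [[1, 2, 3, 2, 1, 5, 3, 2, 4], [6, 3, 2, 1, 0, 3, 2, 1, 3, 2, 5, 3], [1, 2, 3, 2, 1, 5, 3, 2, 6, 3, 4, 5, 3, 2], [1, 2, 3, 2, 1, 0, 3, 2, 5, 3, 2, 1, 4, 3, 6]] (.nil) (.kid 1518 [[6, 3, 2, 1, 3, 2, 3, 2, 6, 3, 2, 3, 2], [1, 2, 3, 2, 1, 3, 2, 6, 3, 2, 3, 4, 3], [1, 6, 3, 2, 1, 0, 3, 2, 6, 3, 2, 1, 4, 3, 2], [6, 3, 2, 1, 3, 2, 3, 6, 5, 3, 6, 5]] (.nil) (.nil))) (.kid 883 [[1, 6, 3, 2, 1, 0, 3, 2, 1, 3, 4, 5], [6, 3,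 2, 1, 3, 2, 1, 3, 4, 6, 3, 2, 3], [6, 3, 2, 1, 3, 2, 3, 2, 5, 3, 2, 1], [1, 2, 3, 2, 1, 3, 2, 5, 3, 2, 3, 4, 6]] (.kid 1115 [[6, 3, 2, 1, 3, 2, 3, 6, 5, 3, 6, 5], [6, 3, 2, 1, 3, 2, 3, 2, 6, 3, 2, 3, 2], [1, 2, 3, 2, 1, 3, 2, 6, 3, 2, 3, 4, 3], [1, 6, 3, 2, 1, 0, 3, 2, 6, 3, 2, 1, 4, 3, 2]] (.nil) (.kid 1887 [[1, 2, 3, 2, 1, 0, 3, 2, 5, 3, 2, 1, 4, 3, 6], [1, 2, 3, 2, 1, 5, 3, 2, 4], [6, 3, 2, 1, 0, 3, 2, 1, 3, 2, 5, 3], [1, 2, 3, 2, 1, 5, 3, 2, 6, 3, 4, 5, 3, 2]] (.nil) (.nil))) (.kid 1093 [[6, 3, 2, 1, 3, 2, 3, 2, 5, 3, 2, 1], [1, 2, 3, 2, 1, 3, 2, 5, 3, 2, 3, 4, 6], [1, 6, 3, 2, 1, 0, 3, 2, 1, 3, 4, 5], [6, 3, 2, 1, 3, 2, 1, 3, 4, 6, 3, 2, 3]] (.kid 995 [[6, 3, 2, 1, 0,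 3, 2, 1, 3, 2, 5, 3], [1, 2, 3, 2, 1, 5, 3, 2, 6, 3, 4, 5, 3, 2], [1, 2, 3, 2, 1, 0, 3, 2, 5, 3, 2, 1, 4, 3, 6], [1, 2, 3, 2, 1, 5, 3, 2, 4]] (.nil) (.kid 1224 [[1, 2, 3, 2, 1, 3, 2, 6, 3, 2, 3, 4, 3], [1, 6, 3, 2, 1, 0, 3, 2, 6, 3, 2, 1, 4, 3, 2], [6, 3, 2, 1, 3, 2, 3, 6, 5, 3, 6, 5], [6, 3, 2, 1, 3, 2, 3, 2, 6, 3, 2, 3, 2]] (.nil) (.nil))) (heZTree6)))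

/-- Part of the search for the image of `z`. -/
def heZTree8 : Tree (List Verdict) := .kid 815 [[1, 2, 3, 2, 1, 3, 2, 6, 3, 2, 1, 4]] (.kid 1901 [[1, 2, 3, 2, 1, 0, 3, 2, 6, 3, 5, 6, 3, 2, 1]] (.kid 138 [[1, 2, 3, 2, 3, 5, 3, 4], [1, 6, 3, 2, 3, 4, 6, 3], [6, 3, 2, 1, 0, 3, 2, 3, 2, 6, 3], [1, 2, 3, 2, 1, 0, 5, 3, 2, 3, 5, 6, 3, 2, 4]] (.kid 1723 [[1, 2, 3, 2, 1, 5, 3, 2, 6, 3, 4, 5, 3, 2], [1, 2, 3, 2, 1, 0, 3, 2, 5, 3, 2, 1, 4, 3, 6], [1, 2, 3, 2, 1, 5, 3, 2, 4], [6, 3, 2, 1, 0, 3, 2, 1, 3, 2, 5, 3]] (.nil) (.kid 2004 [[1, 6, 3, 2, 1, 0, 3, 2, 6, 3, 2, 1, 4, 3, 2], [6, 3, 2, 1, 3, 2, 3, 6, 5, 3, 6, 5], [6, 3, 2, 1, 3, 2, 3, 2, 6, 3, 2, 3, 2], [1, 2, 3, 2, 1, 3, 2, 6, 3,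 2, 3, 4, 3]] (.nil) (.nil))) (.kid 169 [[1, 6, 3, 2, 3, 4, 6, 3], [6, 3, 2, 1, 0, 3, 2, 3, 2, 6, 3], [1, 2, 3, 2, 1, 0, 5, 3, 2, 3, 5, 6, 3, 2, 4], [1, 2, 3, 2, 3, 5, 3, 4]] (.kid 1115 [[6, 3, 2, 1, 3, 2, 3, 6, 5, 3, 6, 5], [6, 3, 2, 1, 3, 2, 3, 2, 6, 3, 2, 3, 2], [1, 2, 3, 2, 1, 3, 2, 6, 3, 2, 3, 4, 3], [1, 6, 3, 2, 1, 0, 3, 2, 6, 3, 2, 1, 4, 3, 2]] (.nil) (.kid 1887 [[1, 2, 3, 2, 1, 0, 3, 2, 5, 3, 2, 1, 4, 3, 6], [1, 2, 3, 2, 1, 5, 3, 2, 4], [6, 3, 2, 1, 0, 3, 2, 1, 3, 2, 5, 3], [1, 2, 3, 2, 1, 5, 3, 2, 6, 3, 4, 5, 3, 2]] (.nil) (.nil))) (.kid 254 [[1, 6, 3, 2, 1, 5, 3, 2, 3]] (.nil) (.kid 493 [[1, 2, 3, 2, 1, 3, 2, 6, 3, 2, 5]] (.nil) (heZTree7))))) (.nil)) (.kid 1901 [[1,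 2, 3, 2, 1, 0, 3, 2, 6, 3, 5, 6, 3, 2, 1]] (.kid 815 [[1, 2, 3, 2, 1, 3, 2, 6, 3, 2, 1, 4]] (.kid 138 [[1, 2, 3, 2, 3, 5, 3, 4], [1, 6, 3, 2, 3, 4, 6, 3], [6, 3, 2, 1, 0, 3, 2, 3, 2, 6, 3], [1, 2, 3, 2, 1, 0, 5, 3, 2, 3, 5, 6, 3, 2, 4]] (heZTree5) (.kid 169 [[1, 6, 3, 2, 3, 4, 6, 3], [6, 3, 2, 1, 0, 3, 2, 3, 2, 6, 3], [1, 2, 3, 2, 1, 0, 5, 3, 2, 3, 5, 6, 3, 2, 4], [1, 2, 3, 2, 3, 5, 3, 4]] (heZTree4) (.kid 254 [[1, 6, 3, 2, 1, 5, 3, 2, 3]] (.nil) (.kid 493 [[1, 2, 3, 2, 1, 3, 2, 6, 3, 2, 5]] (.nil) (.kid 638 [[6, 3, 2, 1, 0, 3, 2, 3, 2, 6, 3], [1, 2, 3, 2, 1, 0, 5, 3, 2, 3, 5, 6, 3, 2, 4], [1, 2, 3, 2, 3, 5, 3, 4], [1, 6, 3, 2, 3, 4, 6, 3]] (heZTree3) (heZTree2)))))) (.nil))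 (.nil))

/-- The certificate. -/
noncomputable def heCert : Cert where
  p := 17
  r := 8
  s := 2
  e := 7
  i0 := 3
  exps := [1, 3]
  cls := he2058_orb0.mask + 2 * he2058_orb1.mask + 3 * he2058_orb2.mask + 4 * he2058_orb3.mask
  roots := [0, 1, 2, 18, 5, 9]
  ws := [[2, 5, 3, 1], [0, 4, 2, 1, 6, 3, 5, 3, 6, 2, 6, 3, 2, 6, 6, 3, 5, 3, 2, 3, 2, 1, 5, 3, 2, 3, 5, 2, 3, 5, 2, 3, 4, 3, 2, 1, 6, 3, 2, 1, 5, 3, 2, 3, 4, 6, 3, 4], [1, 0, 1, 4, 3, 5, 4, 3, 1, 6, 3, 2, 5, 6, 3, 4, 6, 3, 5, 2, 3, 6, 1, 1, 6, 3, 2, 1, 3, 4, 5], [1, 0, 1, 2, 3, 6, 1, 3, 0, 5, 6, 2, 4, 3, 5, 2, 3, 5, 2, 3, 2, 1, 5, 3, 2, 4, 3, 4, 6, 2, 0, 3, 5, 4, 3, 2, 3, 5, 4, 3, 6, 1, 6, 2, 3, 4, 5, 3, 6, 5, 2, 1,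 3, 1, 6, 3, 2, 1, 3, 2, 4, 3, 2, 6, 3, 2, 1, 0, 3, 2, 3, 2, 5, 6, 3, 1, 2, 3, 5, 4, 3, 0, 1, 2, 3, 2, 1, 1, 2, 3, 2, 1, 3, 2, 3, 5, 3, 2, 1, 3, 2], [4, 3, 6, 4, 3, 2, 3, 5, 1, 2, 3, 6, 1, 2, 3, 4, 3, 2, 5, 3, 2, 5, 3, 2, 3, 5, 1, 2, 3, 2, 3, 5, 3, 6, 6, 2, 3, 6, 2, 6, 3, 5, 3, 6, 1, 2, 4, 0]]
  rels := [[2, 2], [0, 2, 0, 0, 0, 0, 0, 2, 0, 2, 0, 0, 0, 0, 0, 2, 0, 2, 0, 0, 0, 0, 0, 2], [0, 0, 0, 2, 0, 0, 0, 0, 0, 0, 0, 0, 0, 0, 0, 0, 0, 2, 0, 0, 0, 2, 0, 0, 0, 0, 0, 0, 0, 0, 0, 0, 0, 0, 0, 2, 0, 0, 0, 2, 0, 0, 0, 0, 0, 0, 0, 0, 0, 0, 0, 0, 0, 2], [0, 0, 0, 0, 0, 2, 0, 2, 0, 0, 0, 0, 0, 2, 0, 2, 0, 0, 0, 0, 0, 2, 0, 2], [0, 0, 0, 0, 0, 0, 0, 0, 0, 2, 0, 0, 0, 0, 0, 0, 0, 0, 0,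 0, 2, 0, 0, 0, 0, 0, 0, 0, 0, 0, 2, 0, 0, 0, 0, 0, 0, 0, 0, 0, 0, 2, 0, 0, 0, 0, 0, 0, 0, 0, 0, 2, 0, 0, 0, 0, 0, 0, 0, 0, 0, 0, 2], [0, 0, 2, 0, 0, 0, 0, 0, 0, 0, 0, 0, 0, 0, 2, 0, 0, 2, 0, 0, 0, 0, 0, 0, 0, 0, 0, 0, 0, 2, 0, 0, 2, 0, 0, 0, 0, 0, 0, 0, 0, 0, 0, 0, 2]]
  cxLev := [(1901, true, [[1, 2, 3, 2, 1, 0, 3, 2, 6, 3, 5, 6, 3, 2, 1]]),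
  (1596, false, [[1, 2, 3, 2, 1, 0, 5, 3, 2, 3, 5, 6, 3, 4], [1, 2, 3, 2, 1, 3, 2, 5, 3, 2, 3, 4, 3, 2], [1, 2, 3, 2, 1, 5, 3, 2, 6, 3, 4, 5, 3, 2, 1], [6, 3, 2, 1, 3, 2, 3, 2, 6, 3, 2, 3, 2], [6, 3, 2, 1, 3, 2, 3, 6, 5, 3, 4, 6], [1, 6, 3, 2, 1, 3, 2, 4, 3, 2, 5, 3, 2, 1, 4], [1, 2, 3, 2, 1, 0, 3, 2, 6, 3, 2, 4, 3, 2], [6, 3, 2, 1, 3, 2, 3, 2, 3, 4, 5], [1, 6, 3, 2, 1, 0, 3, 2, 3, 4], [6, 3, 2, 1, 3, 2, 3, 2, 1, 3, 4, 5, 3], [1, 2, 3, 2, 1, 3, 2, 3, 6, 3, 2, 3, 2, 1, 4], [6, 3, 2, 1, 3, 2, 1, 3, 6, 5, 3, 2, 6], [6, 3, 2, 1, 3, 2, 3, 2, 6, 3, 2, 3, 5], [6, 3, 2, 1, 0, 3, 2, 3, 6, 3, 2, 3, 2, 1], [1, 2, 3, 2, 1, 3, 2, 5, 3, 2, 3, 4, 3, 5], [1, 2, 3, 2, 1, 3, 4, 5, 3, 2, 3,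 2, 1, 0], [6, 3, 2, 1, 0, 3, 2, 6, 3, 2, 3, 4]])]
  cxSrc := [1029, 1666, 1628, 1814, 1520, 1489, 1935, 1501, 351, 699, 1562, 2015, 1114, 1518, 1996, 1627, 1596, 1901]
  cxCover := false
  cxTab := [[699, 1562, 2015, 1114, 1518, 1996, 1627, 1596, 1029, 1666, 1628, 1814, 1520, 1489, 1935, 1501, 351, 1901], [1562, 2015, 1114, 1518, 1996, 1627, 1596, 1029, 1666, 1628, 1814, 1520, 1489, 1935, 1501, 351, 699, 1901], [1666, 1628, 1814, 1520, 1489, 1935, 1501, 351, 699, 1562, 2015, 1114, 1518, 1996, 1627, 1596, 1029, 1901], [1518, 1996, 1627, 1596, 1029, 1666, 1628, 1814, 1520, 1489, 1935, 1501, 351, 699, 1562, 2015, 1114, 1901], [1935, 1501, 351, 699, 1562, 2015, 1114, 1518, 1996,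 1627, 1596, 1029, 1666, 1628, 1814, 1520, 1489, 1901], [351, 699, 1562, 2015, 1114, 1518, 1996, 1627, 1596, 1029, 1666, 1628, 1814, 1520, 1489, 1935, 1501, 1901], [1996, 1627, 1596, 1029, 1666, 1628, 1814, 1520, 1489, 1935, 1501, 351, 699, 1562, 2015, 1114, 1518, 1901], [1489, 1935, 1501, 351, 699, 1562, 2015, 1114, 1518, 1996, 1627, 1596, 1029, 1666, 1628, 1814, 1520, 1901], [2015, 1114, 1518, 1996, 1627, 1596, 1029, 1666, 1628, 1814, 1520, 1489, 1935, 1501, 351, 699, 1562, 1901], [1029, 1666, 1628, 1814, 1520, 1489, 1935, 1501, 351, 699, 1562, 2015, 1114, 1518, 1996, 1627, 1596, 1901], [1596, 1029, 1666, 1628, 1814, 1520, 1489, 1935, 1501, 351, 699, 1562, 2015, 1114, 1518,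 1996, 1627, 1901], [1814, 1520, 1489, 1935, 1501, 351, 699, 1562, 2015, 1114, 1518, 1996, 1627, 1596, 1029, 1666, 1628, 1901], [1628, 1814, 1520, 1489, 1935, 1501, 351, 699, 1562, 2015, 1114, 1518, 1996, 1627, 1596, 1029, 1666, 1901], [1520, 1489, 1935, 1501, 351, 699, 1562, 2015, 1114, 1518, 1996, 1627, 1596, 1029, 1666, 1628, 1814, 1901], [1501, 351, 699, 1562, 2015, 1114, 1518, 1996, 1627, 1596, 1029, 1666, 1628, 1814, 1520, 1489, 1935, 1901], [1627, 1596, 1029, 1666, 1628, 1814, 1520, 1489, 1935, 1501, 351, 699, 1562, 2015, 1114, 1518, 1996, 1901], [1114, 1518, 1996, 1627, 1596, 1029, 1666, 1628, 1814, 1520, 1489, 1935, 1501, 351, 699, 1562, 2015, 1901]]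
  cxTree := .kid 1901 [[1, 2, 3, 2, 1, 0, 3, 2, 6, 3, 5, 6, 3, 2, 1]] (.kid 12 [[1, 2, 3, 2]] (.nil) (.kid 13 [[1, 2, 3, 4]] (.nil) (.kid 14 [[1, 2, 3, 5]] (.nil) (.kid 42 [[1, 2, 3, 2, 1, 3]] (.nil) (.kid 48 [[1, 2, 3, 2, 4, 5]] (.nil) (.kid 122 [[1, 2, 3, 2, 1, 0, 5, 3]] (.nil) (.kid 124 [[1, 2, 3, 2, 1, 3, 2, 5]] (.nil) (.kid 167 [[1, 6, 3, 2, 3, 4, 3, 6]] (.nil) (.kid 172 [[1, 6, 3, 2, 4, 3, 6, 5]] (.nil) (.kid 187 [[1, 2, 3, 2, 1, 0, 3, 2, 1]] (.nil) (.kid 190 [[1, 2, 3, 2, 1, 0, 3, 4, 5]] (.nil) (.kid 198 [[1, 2, 3, 2, 1, 3, 2, 5, 3]] (.nil) (.kid 205 [[1, 2, 3, 2, 1, 3, 5, 3, 4]] (.nil) (.kid 209 [[1, 2, 3, 2, 1, 5, 3, 2, 4]] (.nil) (.kid 212 [[1, 2, 3, 2, 3, 4, 3,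 5, 3]] (.nil) (.kid 214 [[1, 2, 3, 2, 3, 4, 5, 3, 2]] (.nil) (.kid 215 [[1, 2, 3, 2, 3, 4, 5, 3, 4]] (.nil) (.kid 240 [[1, 6, 3, 2, 1, 3, 2, 3, 2]] (.nil) (.kid 242 [[1, 6, 3, 2, 1, 3, 2, 3, 5]] (.nil) (.kid 261 [[1, 6, 3, 4, 5, 3, 2, 3, 2]] (.nil) (heCxTree9))))))))))))))))))))) (.nil)
  zLev := [(815, true, [[1, 2, 3, 2, 1, 3, 2, 6, 3, 2, 1, 4]]),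
  (1901, true, [[1, 2, 3, 2, 1, 0, 3, 2, 6, 3, 5, 6, 3, 2, 1]]),
  (254, true, [[1, 6, 3, 2, 1, 5, 3, 2, 3], [6, 3, 2, 1, 3, 2, 1, 3, 4, 5, 3, 2, 6, 3], [1, 2, 3, 2, 1, 3, 2, 6, 3, 2, 5], [1, 2, 3, 2, 1, 3, 4, 5, 3, 2, 3, 2, 5]]),
  (1115, true, [[6, 3, 2, 1, 3, 2, 3, 6, 5, 3, 6, 5], [1, 6, 3, 2, 1, 0, 3, 2, 6, 3, 2, 1, 4, 3, 2], [1, 2, 3, 2, 1, 3, 2, 6, 3, 2, 3, 4, 3], [6, 3, 2, 1, 3, 2, 3, 2, 6, 3, 2, 3, 2]]),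
  (344, false, [[1, 2, 3, 4, 5, 3, 2, 1, 3, 2], [1, 2, 3, 2, 1, 0, 3, 2, 6, 3, 5, 6, 3], [6, 3, 2, 1, 3, 2, 1, 4, 3, 2, 1, 3, 5], [1, 2, 3, 2, 1, 3, 4, 6, 3, 2, 3, 2, 1, 3, 2], [1, 2, 3, 2, 1, 0, 3, 2, 5, 3, 2, 4, 3, 2, 6, 5], [1, 6, 3, 2, 1, 3, 2, 3, 6, 5, 3, 4], [6, 3, 2, 1, 0, 3, 2, 3, 2, 4, 3], [1, 6, 3, 2, 1, 3, 2, 4, 6, 3, 2, 3, 2, 5]])]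
  zTree := heZTree8
  gens := [[0, 0, 0, 0, 0, 0, 0, 2, 0, 0, 0, 0, 0, 0, 0, 0, 0, 0, 0, 2, 0, 0, 0, 0, 0, 0, 2, 0, 0, 0, 0, 0, 0, 0, 0, 0, 0, 0, 2, 0, 0, 0, 0, 0, 0, 1, 1, 1, 1, 2, 0, 0, 0, 0, 0, 0, 0, 0, 0, 0, 0, 0, 0, 0, 0, 0], [0, 0, 0, 0, 0, 0, 0, 0, 0, 2, 0, 0, 0, 0, 0, 0, 2, 0, 0, 0, 0, 0, 0, 0, 0, 2, 0, 0, 0, 0, 0, 0, 0, 0, 0, 0, 0, 0, 0, 0, 0, 0, 2, 0, 0, 0, 0, 0, 0, 0, 0, 2, 0, 0, 0, 0, 0, 0, 2, 0, 0], [0, 0, 0, 0, 0, 0, 0, 0, 0, 2, 0, 0, 0, 0, 0, 0, 0, 0, 2, 0, 2, 0, 0, 0, 0, 0, 0, 0, 0, 0, 0, 0, 0, 0, 0, 0, 2, 0, 0, 1, 1, 1, 1, 2, 0, 2, 0, 0, 0, 0, 0, 0, 0, 0, 2, 0], [0, 0, 0, 0, 0, 0, 0, 0, 0, 0, 0, 0, 0, 2, 0, 0, 0, 0, 0, 0, 0, 0, 0, 0, 0, 0, 0, 0, 0, 0, 2, 0,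 0, 2, 0, 0, 0, 0, 0, 0, 0, 0, 0, 0, 0, 0, 0, 0, 0, 0, 2, 0, 0, 1, 2, 0, 0, 0, 0, 2, 0, 0, 0, 0, 0], [0, 0, 2, 0, 0, 0, 0, 0, 0, 0, 0, 0, 0, 0, 0, 2, 0, 0, 0, 0, 0, 0, 0, 0, 0, 0, 0, 0, 0, 0, 0, 2, 0, 0, 0, 2, 0, 0, 0, 2, 0, 0, 0, 0, 0, 0, 0, 0, 0, 0, 2, 0, 0, 0, 0, 2, 0, 0, 0, 0, 0, 0], [0, 0, 0, 0, 0, 0, 0, 0, 0, 2, 0, 0, 0, 0, 0, 0, 0, 0, 2, 0, 2, 0, 0, 0, 0, 0, 0, 0, 0, 0, 0, 0, 0, 0, 0, 0, 2, 0, 0, 2, 0, 0, 0, 0, 0, 0, 0, 0, 0, 0, 0, 0, 0, 0, 0, 0, 2, 0, 0, 0, 0, 0, 0, 0, 0, 0, 2, 0, 0, 0, 0, 0, 0, 0, 0], [0, 0, 2, 0, 0, 0, 0, 0, 0, 0, 0, 0, 0, 0, 0, 0, 0, 0, 2, 0, 0, 0, 0, 2, 0, 0, 0, 0, 0, 0, 0, 0, 0, 0, 0, 0, 0, 0, 0, 0, 2, 0, 0, 0, 0, 0, 2, 0, 0, 0, 0, 0, 0, 0, 0,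 0, 2, 0, 0, 0, 0, 0, 0, 0, 0, 0, 0, 0, 0, 2, 0, 0, 0, 0, 0, 0, 0, 0, 0, 0, 0, 0, 0, 0, 0, 0, 0, 0, 0, 0, 0, 0, 0, 2, 0, 0, 0, 0, 0]]
  fws := [[0, 4, 2, 3, 6, 1, 3, 0, 5, 6, 2, 4, 3, 5, 2, 3, 5, 2, 3, 2, 1, 5, 3, 2, 3, 1, 2, 3, 2, 1, 3, 5, 3, 4, 1, 2, 3, 2, 1, 3, 4, 5, 3, 2, 3, 2, 4, 4, 3, 1, 2, 3, 2, 1, 4, 3, 2, 3, 2, 6, 3, 2, 1, 3, 2, 3, 2, 3, 5, 3, 2, 3, 6, 3, 2, 1, 3, 2, 3, 2, 1, 5, 3, 2, 1, 3, 6, 2, 3, 1, 2, 3, 5, 4, 3, 2, 1, 1, 2, 3, 2, 1, 3, 5, 3, 2, 3, 4, 5], [1, 0, 1, 3, 2, 1, 3, 6, 5, 2, 3, 2, 5, 6, 1, 1, 2, 3, 2, 1, 5, 3, 2, 1, 0, 3], [5, 2, 3, 6, 1, 3, 0, 5, 6, 2, 4, 3, 5, 2, 3, 5, 2, 3, 2, 1, 5, 3, 2, 6, 0, 5, 3, 5, 4, 3, 2, 3, 5, 4, 3, 6, 1, 2, 6, 1, 3, 6, 5,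 6, 3, 2, 6, 1, 1, 2, 3, 2, 1, 3, 4, 6, 3, 2, 1, 3, 2, 1, 0, 1, 6, 3, 2, 1, 5, 3, 5, 6, 3, 2, 3, 0, 1, 2, 3, 6, 1, 2, 3, 2, 1, 5, 3, 2, 6], [1, 0, 1, 0, 4, 4, 3, 4, 5, 2, 1, 6, 2, 3, 4, 2, 6, 3, 1, 5, 1, 1, 1, 2, 3, 2, 1, 3, 4, 5, 3, 2, 3], [0, 4, 5, 2, 3, 6, 1, 3, 0, 5, 6, 2, 4, 3, 5, 2, 3, 5, 2, 3, 2, 1, 5, 3, 2, 1, 2, 3, 2, 1, 3, 5, 3, 4, 1, 2, 3, 2, 1, 3, 4, 5, 3, 2, 3, 2, 4, 4, 3, 1, 2, 3, 2, 1, 4, 3, 2, 3, 2, 1, 2, 3, 2, 1, 3, 2, 3, 5, 3, 1, 2, 3, 2, 1, 0, 3, 2, 5, 3, 2, 1, 3, 4, 3, 2, 3, 1, 2, 3, 0, 1, 2, 3, 6, 1, 1, 2, 3, 2, 1, 3, 4, 6, 3, 2, 3, 5, 6, 3], [1, 0, 1, 5, 2, 3, 6, 1, 3, 0, 5, 6, 2, 4, 3, 5, 2, 3, 5, 2, 3, 2, 1, 5, 3, 2, 6, 2, 0, 3, 5, 4, 3, 2, 3, 5, 4,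 3, 6, 1, 6, 2, 3, 4, 5, 3, 6, 5, 2, 1, 3, 1, 6, 3, 2, 1, 3, 2, 3, 5, 1, 6, 3, 2, 1, 3, 2, 4, 5, 3, 2, 4, 4, 1, 2, 3, 5, 3, 2, 3, 0, 1, 2, 3, 6, 1, 1, 2, 3, 2, 1, 5, 3, 2, 1, 0, 3], [1, 0, 1, 0, 4, 3, 1, 2, 3, 2, 1, 3, 5, 3, 4, 1, 2, 3, 2, 1, 3, 4, 5, 3, 2, 3, 2, 4, 4, 3, 1, 2, 3, 2, 1, 4, 3, 2, 3, 2, 1, 2, 3, 2, 1, 5, 3, 2, 3, 5, 6, 1, 2, 3, 2, 1, 0, 3, 2, 5, 3, 2, 4, 3, 2, 4, 2, 3, 2, 3, 6, 1, 6, 3, 2, 1, 3, 4, 6, 3, 2, 3, 4]]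

end Cfsg.Agent.OutColour
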