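/-
Generated colour certificate for the outer automorphism group of Suz: see `Cfsg.Agent.Lib.OutColour.Cert`.
-/
import Cfsg.Agent.Lib.OutColour.Cert
import Cfsg.Agent.Lib.CosetEnum.TableSuz1782

set_option autoImplicit false
set_option maxRecDepth 100000

namespace Cfsg.Agent.OutColour

open Cfsg.Agent.CosetEnum

/-- Part of the centraliser search. -/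
def suzCxTree0 : Tree ℕ := .kid 492 [[6, 1, 0, 1, 2, 1, 3, 2, 4, 3, 2, 1, 6]] (.nil) (.kid 499 [[6, 1, 0, 1, 2, 3, 2, 1, 4, 3, 2, 1, 5]] (.nil) (.kid 503 [[6, 1, 0, 1, 2, 3, 2, 1, 4, 3, 2, 5, 1]] (.nil) (.kid 521 [[6, 1, 0, 2, 1, 3, 2, 1, 3, 4, 3, 2, 5]] (.nil) (.kid 534 [[6, 1, 0, 2, 1, 3, 2, 1, 4, 3, 2, 5, 6]] (.nil) (.kid 535 [[6, 1, 0, 2, 1, 3, 2, 1, 4, 3, 2, 6, 1]] (.nil) (.kid 549 [[6, 1, 0, 2, 1, 3, 2, 4, 3, 2, 1, 0, 5]] (.nil) (.kid 552 [[6, 1, 0, 2, 1, 3, 2, 4, 3, 2, 1, 5, 6]] (.nil) (.kid 563 [[6, 1, 0, 2, 1, 3, 2, 4, 3, 5, 1, 2, 3]] (.nil) (.kid 575 [[6, 1, 0, 2, 3, 2, 1, 0, 4, 3, 2, 3, 5]] (.nil) (.kid 583 [[6, 1, 0, 2, 3, 2, 1, 4, 3, 2, 1, 0, 1]] (.nil)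 (.kid 636 [[6, 1, 2, 3, 2, 1, 0, 4, 3, 2, 5, 1, 2]] (.nil) (.kid 641 [[6, 1, 2, 3, 2, 1, 0, 4, 3, 5, 1, 0, 2]] (.nil) (.kid 672 [[6, 1, 2, 3, 2, 1, 4, 3, 2, 3, 5, 1, 2]] (.nil) (.kid 681 [[6, 1, 2, 3, 2, 1, 4, 3, 2, 5, 6, 1, 0]] (.nil) (.kid 703 [[6, 1, 2, 3, 2, 4, 3, 2, 1, 5, 6, 1, 5]] (.nil) (.kid 726 [[6, 1, 0, 1, 2, 3, 2, 1, 4, 3, 2, 1, 0, 5]] (.nil) (.kid 728 [[6, 1, 0, 1, 2, 3, 2, 1, 4, 3, 2, 1, 3, 5]] (.nil) (.kid 740 [[6, 1, 0, 1, 2, 3, 2, 4, 3, 2, 1, 0, 1, 0]] (.nil) (.kid 779 [[6, 1, 0, 2, 1, 3, 2, 1, 4, 3, 2, 5, 1, 6]] (.nil) (.kid 788 [[6, 1, 0, 2, 1, 3, 2, 3, 4, 3, 2, 1, 0, 1]] (.nil) (.kid 814 [[6, 1, 0, 2, 1, 3, 2, 4, 3, 2, 5, 1, 0, 2]] (.nil) (.kid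 822 [[6, 1, 0, 2, 1, 3, 2, 4, 3, 2, 6, 5, 1, 0]] (.nil) (.kid 826 [[6, 1, 0, 2, 1, 3, 2, 4, 3, 5, 1, 0, 2, 1]] (.nil) (.kid 905 [[6, 1, 0, 2, 3, 2, 4, 3, 2, 1, 0, 6, 1, 0]] (.nil) (.nil)))))))))))))))))))))))))

/-- Part of the centraliser search. -/
def suzCxTree1 : Tree ℕ := .kid 320 [[6, 1, 2, 3, 2, 4, 3, 2, 1, 0, 5]] (.nil) (.kid 322 [[6, 1, 2, 3, 2, 4, 3, 2, 1, 5, 1]] (.nil) (.kid 326 [[6, 1, 2, 3, 2, 4, 3, 2, 5, 1, 2]] (.nil) (.kid 336 [[6, 1, 0, 1, 2, 3, 2, 1, 4, 3, 2, 1]] (.nil) (.kid 341 [[6, 1, 0, 1, 2, 3, 2, 4, 3, 2, 1, 0]] (.nil) (.kid 343 [[6, 1, 0, 1, 2, 3, 2, 4, 3, 2, 1, 6]] (.nil) (.kid 353 [[6, 1, 0, 2, 1, 3, 2, 1, 3, 4, 3, 2]] (.nil) (.kid 360 [[6,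 1, 0, 2, 1, 3, 2, 1, 4, 3, 2, 3]] (.nil) (.kid 380 [[6, 1, 0, 2, 1, 3, 2, 4, 3, 5, 1, 2]] (.nil) (.kid 389 [[6, 1, 0, 2, 3, 2, 1, 0, 4, 3, 2, 1]] (.nil) (.kid 391 [[6, 1, 0, 2, 3, 2, 1, 0, 4, 3, 2, 5]] (.nil) (.kid 399 [[6, 1, 0, 2, 3, 2, 1, 4, 3, 2, 1, 5]] (.nil) (.kid 400 [[6, 1, 0, 2, 3, 2, 1, 4, 3, 2, 1, 6]] (.nil) (.kid 401 [[6, 1, 0, 2, 3, 2, 1, 4, 3, 2, 3, 2]] (.nil) (.kid 404 [[6, 1, 0, 2, 3, 2, 1, 4, 3, 2, 3, 6]] (.nil) (.kid 406 [[6, 1, 0, 2, 3, 2, 1, 4, 3, 2, 5, 6]] (.nil) (.kid 423 [[6, 1, 2, 3, 2, 1, 0, 4, 3, 2, 1, 3]] (.nil) (.kid 428 [[6, 1, 2, 3, 2, 1, 0, 4, 3, 2, 3, 6]] (.nil) (.kid 440 [[6, 1, 2, 3, 2, 1, 4, 3, 2, 1, 0, 1]] (.nil) (.kid 447 [[6,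 1, 2, 3, 2, 1, 4, 3, 2, 1, 3, 6]] (.nil) (.kid 449 [[6, 1, 2, 3, 2, 1, 4, 3, 2, 1, 5, 6]] (.nil) (.kid 457 [[6, 1, 2, 3, 2, 1, 4, 3, 2, 3, 6, 5]] (.nil) (.kid 459 [[6, 1, 2, 3, 2, 1, 4, 3, 2, 5, 1, 2]] (.nil) (.kid 475 [[6, 1, 2, 3, 2, 4, 3, 2, 1, 0, 1, 2]] (.nil) (.kid 479 [[6, 1, 2, 3, 2, 4, 3, 2, 1, 5, 1, 0]] (.nil) (.kid 480 [[6, 1, 2, 3, 2, 4, 3, 2, 1, 5, 1, 2]] (.nil) (.kid 484 [[6, 1, 2, 3, 2, 4, 3, 2, 5, 1, 2, 6]] (.nil) (suzCxTree0)))))))))))))))))))))))))))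

/-- Part of the centraliser search. -/
def suzCxTree2 : Tree ℕ := .kid 270 [[6, 1, 0, 2, 3, 2, 1, 4, 3, 2, 5], [6, 1, 0, 2, 3, 2, 1, 4, 3, 2, 3, 4, 6, 1], [6, 1, 0, 2, 1, 3, 2, 1, 0, 1, 4, 3, 2, 3, 6], [6, 1, 0, 2, 1, 3, 2, 1, 3, 4, 3, 2, 3, 5, 1, 2], [6, 1, 0, 2, 1, 3, 2, 1, 4, 3, 2, 6, 5, 1], [6, 1, 0, 1, 2, 1, 3, 2, 4, 3, 2, 1, 5, 1, 2], [6, 1, 0, 1, 2, 3, 2, 1, 4, 3, 2, 5, 1, 0, 6, 1, 2], [6, 1, 0, 1, 2, 3, 2, 1, 4, 3, 2, 5, 6, 1, 0, 2], [6, 1, 0, 2, 1, 3, 2, 4, 3, 2, 1, 5, 1, 0, 2], [6, 1, 0, 1, 2, 1, 3, 2, 4, 3, 2, 5, 1, 0, 1, 2], [6, 1, 2, 3, 2, 1, 4, 3, 2, 3, 5, 1, 0, 2]] (.kid 268 [[6, 1, 0, 2, 3, 2, 1, 4, 3, 2, 1], [6, 1, 2, 3, 2, 4, 3, 2, 1, 5, 6, 1, 2],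 [6, 1, 0, 2, 1, 3, 2, 4, 3, 2, 1, 0, 1, 5, 1, 2], [6, 1, 0, 2, 1, 3, 2, 1, 4, 3, 5, 1, 0, 2], [6, 1, 0, 1, 2, 3, 2, 1, 4, 3, 2, 3, 5, 1], [6, 1, 0, 2, 1, 3, 2, 4, 3, 5, 1, 0, 2, 3], [6, 1, 0, 1, 2, 1, 3, 2, 1, 4, 3, 2, 5, 1, 0, 2], [6, 1, 2, 3, 2, 4, 3, 2, 5, 1, 6, 5, 1, 2], [6, 1, 0, 2, 1, 3, 2, 1, 4, 3, 5, 1, 0, 2, 1, 5, 6], [6, 1, 0, 2, 1, 3, 2, 4, 3, 2, 1, 0, 5, 1, 2, 3], [6, 1, 2, 3, 2, 1, 0, 4, 3, 2, 1, 3, 5]] (.leaf 1) (.nil)) (.kid 271 [[6, 1, 0, 2, 3, 2, 1, 4, 3, 2, 6]] (.nil) (.kid 276 [[6, 1, 0, 2, 3, 2, 1, 5, 6, 1, 0]] (.nil) (.kid 281 [[6, 1, 0, 2, 3, 2, 4, 3, 2, 1, 5]] (.nil) (.kid 282 [[6, 1, 0, 2, 3, 2, 4, 3, 2, 1, 6]] (.nil) (.kid 283 [[6, 1, 2, 3,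 2, 1, 0, 4, 3, 2, 1]] (.nil) (.kid 285 [[6, 1, 2, 3, 2, 1, 0, 4, 3, 2, 5]] (.nil) (.kid 297 [[6, 1, 2, 3, 2, 1, 4, 3, 2, 1, 5]] (.nil) (.kid 298 [[6, 1, 2, 3, 2, 1, 4, 3, 2, 1, 6]] (.nil) (.kid 303 [[6, 1, 2, 3, 2, 1, 4, 3, 2, 5, 6]] (.nil) (.kid 306 [[6, 1, 2, 3, 2, 1, 4, 3, 5, 1, 2]] (.nil) (.kid 319 [[6, 1, 2, 3, 2, 4, 3, 2, 1, 0, 1]] (.nil) (suzCxTree1))))))))))))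

/-- Part of the centraliser search. -/
def suzCxTree3 : Tree ℕ := .kid 171 [[6, 1, 0, 2, 3, 2, 1, 0, 4, 5]] (.nil) (.kid 174 [[6, 1, 0, 2, 3, 2, 1, 4, 3, 2]] (.nil) (.kid 180 [[6, 1, 0, 2, 3, 2, 1, 6, 5, 1]] (.nil) (.kid 181 [[6, 1, 0, 2, 3, 2, 4, 3, 2, 1]] (.nil) (.kid 186 [[6, 1, 2, 3, 2, 1, 0, 5, 1, 0]] (.nil) (.kid 188 [[6, 1, 2, 3, 2, 1, 0, 5, 1, 6]] (.nil) (.kid 189 [[6, 1, 2, 3, 2, 1, 4, 3, 2, 1]] (.nil) (.kid 190 [[6, 1, 2, 3, 2, 1, 4, 3, 2, 3]] (.nil) (.kid 191 [[6, 1, 2, 3, 2, 1, 4, 3, 2, 5], [6, 1, 2, 3, 2, 1, 4, 3, 2, 3, 4, 6, 1], [6, 1, 0, 2, 3, 2, 1, 0, 4, 3, 2, 3, 6], [6, 1, 2, 3, 2, 4, 3, 2, 5, 1, 2, 6, 5, 1], [6, 1, 0, 1, 2, 3, 2, 1, 4, 3, 2, 3,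 2, 1, 5, 1], [6, 1, 0, 1, 2, 1, 3, 2, 4, 3, 2, 5, 1], [6, 1, 0, 2, 1, 3, 2, 3, 2, 4, 3, 2, 1, 0, 5, 1], [6, 1, 2, 3, 2, 4, 3, 2, 1, 0, 5, 1, 0, 2, 1, 3, 6], [6, 1, 2, 3, 2, 1, 0, 4, 3, 2, 3, 5, 1, 0], [6, 1, 2, 3, 2, 1, 4, 3, 2, 1, 0, 1, 3, 2, 5], [6, 1, 0, 2, 1, 3, 2, 1, 4, 3, 2, 1, 3]] (.nil) (.kid 204 [[6, 1, 2, 3, 2, 4, 3, 2, 1, 5]] (.nil) (.kid 207 [[6, 1, 2, 3, 2, 4, 3, 5, 1, 2]] (.nil) (.kid 210 [[6, 1, 0, 1, 2, 1, 3, 2, 1, 5, 1]] (.nil) (.kid 219 [[6, 1, 0, 1, 2, 3, 2, 1, 5, 6, 1]] (.nil) (.kid 222 [[6, 1, 0, 2, 1, 3, 2, 1, 0, 1, 5]] (.nil) (.kid 232 [[6, 1, 0, 2, 1, 3, 2, 1, 3, 5, 1]] (.nil) (.kid 235 [[6, 1, 0, 2, 1, 3, 2, 1, 4, 3, 2]] (.nil) (.kid 265 [[6,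 1, 0, 2, 3, 2, 1, 0, 5, 1, 0]] (.nil) (.kid 267 [[6, 1, 0, 2, 3, 2, 1, 0, 5, 1, 6]] (.nil) (.kid 268 [[6, 1, 0, 2, 3, 2, 1, 4, 3, 2, 1]] (.nil) (.kid 269 [[6, 1, 0, 2, 3, 2, 1, 4, 3, 2, 3]] (.nil) (suzCxTree2))))))))))))))))))))

/-- Part of the centraliser search. -/
def suzCxTree4 : Tree ℕ := .kid 104 [[6, 1, 0, 2, 1, 3, 2, 4, 5], [6, 1, 0, 2, 3, 2, 1, 0, 4, 3], [6, 1, 0, 2, 3, 2, 1, 4, 3, 6, 5, 1, 2], [6, 1, 0, 2, 3, 2, 1, 4, 3, 5, 6, 1, 2, 3, 5, 1], [6, 1, 2, 3, 2, 1, 0, 4, 3, 2, 3, 5, 1], [6, 1, 0, 2, 3, 2, 1, 0, 4, 3, 2, 5, 1], [6, 1, 0, 1, 2, 3, 2, 1, 4, 3, 2, 1, 5, 1, 0, 1], [6, 1, 0, 1, 2, 1, 3, 2, 4, 3, 2, 5], [6, 1, 2, 3, 2, 4, 3, 2, 5, 1], [6, 1, 0, 2,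 1, 3, 2, 1, 3, 4, 3, 2, 5, 1, 2], [6, 1, 0, 2, 3, 2, 1, 5, 6, 1, 2]] (.nil) (.kid 105 [[6, 1, 0, 2, 1, 3, 2, 4, 6]] (.nil) (.kid 106 [[6, 1, 0, 2, 1, 3, 2, 5, 1]] (.nil) (.kid 111 [[6, 1, 0, 2, 3, 2, 1, 0, 5]] (.nil) (.kid 118 [[6, 1, 0, 2, 3, 2, 4, 3, 2]] (.nil) (.kid 119 [[6, 1, 2, 3, 2, 1, 0, 4, 3]] (.nil) (.kid 120 [[6, 1, 2, 3, 2, 1, 0, 4, 5]] (.nil) (.kid 123 [[6, 1, 2, 3, 2, 1, 4, 3, 2]] (.nil) (.kid 126 [[6, 1, 2, 3, 2, 1, 4, 5, 1]] (.nil) (.kid 129 [[6, 1, 2, 3, 2, 1, 5, 6, 1]] (.nil) (.kid 130 [[6, 1, 2, 3, 2, 1, 6, 5, 1]] (.nil) (.kid 131 [[6, 1, 2, 3, 2, 4, 3, 2, 1]] (.nil) (.kid 138 [[6, 1, 0, 1, 2, 1, 3, 2, 5, 1]] (.nil) (.kid 143 [[6, 1, 0, 2, 1, 3,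 2, 1, 0, 1]] (.nil) (.kid 145 [[6, 1, 0, 2, 1, 3, 2, 1, 0, 5]] (.nil) (.kid 146 [[6, 1, 0, 2, 1, 3, 2, 1, 0, 6]] (.nil) (.kid 149 [[6, 1, 0, 2, 1, 3, 2, 1, 3, 6]] (.nil) (.kid 150 [[6, 1, 0, 2, 1, 3, 2, 1, 4, 3]] (.nil) (.kid 151 [[6, 1, 0, 2, 1, 3, 2, 1, 4, 5]] (.nil) (.kid 153 [[6, 1, 0, 2, 1, 3, 2, 1, 5, 1]] (.nil) (.kid 160 [[6, 1, 0, 2, 1, 3, 2, 4, 3, 2]] (.nil) (.kid 161 [[6, 1, 0, 2, 1, 3, 2, 4, 3, 5]] (.nil) (.kid 162 [[6, 1, 0, 2, 1, 3, 2, 4, 3, 6]] (.nil) (.kid 165 [[6, 1, 0, 2, 1, 3, 2, 5, 1, 0]] (.nil) (.kid 166 [[6, 1, 0, 2, 1, 3, 2, 5, 1, 6]] (.nil) (.kid 167 [[6, 1, 0, 2, 1, 3, 2, 6, 5, 1]] (.nil) (suzCxTree3))))))))))))))))))))))))))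

/-- Part of the centraliser search. -/
def suzCxTree5 : Tree ℕ := .kid 27 [[6, 1, 2, 3, 2, 5], [6, 1, 0, 2, 3, 2, 1, 4], [6, 1, 2, 3, 2, 1, 4, 3, 5, 6, 1, 5], [6, 1, 0, 1, 2, 1, 3, 2, 1, 4, 3, 2, 5], [6, 1, 0, 1, 2, 3, 2, 4, 3, 2, 1], [6, 1, 2, 3, 2, 1, 4, 3, 2, 1, 5, 1, 6, 1, 2], [6, 1, 2, 3, 2, 1, 4, 3, 5, 6, 1, 0, 2], [6, 1, 2, 3, 2, 1, 0, 4, 3, 2, 3, 4, 5, 1], [6, 1, 0, 2, 3, 2, 1, 0, 4, 3, 2, 3, 5, 1], [6, 1, 0, 1, 2, 1, 3, 2, 4, 3, 2, 1, 5, 1, 0, 2], [6, 1, 2, 3, 2, 4, 3, 2, 5, 1, 6, 5]] (.nil) (.kid 32 [[6, 1, 0, 1, 2, 1, 5]] (.nil) (.kid 33 [[6, 1, 0, 1, 2, 3, 2]] (.nil) (.kid 37 [[6, 1, 0, 2, 1, 3, 2]] (.nil) (.kid 39 [[6, 1, 0, 2, 1, 3, 5]] (.nil) (.kid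 44 [[6, 1, 2, 3, 2, 1, 0]] (.nil) (.kid 45 [[6, 1, 2, 3, 2, 1, 4]] (.nil) (.kid 46 [[6, 1, 2, 3, 2, 1, 5]] (.nil) (.kid 47 [[6, 1, 2, 3, 2, 1, 6]] (.nil) (.kid 49 [[6, 1, 2, 3, 2, 4, 5]] (.nil) (.kid 50 [[6, 1, 2, 3, 2, 5, 1]] (.nil) (.kid 53 [[6, 1, 0, 1, 2, 1, 3, 2]] (.nil) (.kid 56 [[6, 1, 0, 1, 2, 3, 2, 1]] (.nil) (.kid 61 [[6, 1, 0, 2, 1, 3, 2, 3]] (.nil) (.kid 62 [[6, 1, 0, 2, 1, 3, 2, 4]] (.nil) (.kid 63 [[6, 1, 0, 2, 1, 3, 2, 5]] (.nil) (.kid 64 [[6, 1, 0, 2, 1, 3, 2, 6]] (.nil) (.kid 68 [[6, 1, 0, 2, 1, 6, 5, 1]] (.nil) (.kid 69 [[6, 1, 0, 2, 3, 2, 1, 0]] (.nil) (.kid 71 [[6, 1, 0, 2, 3, 2, 1, 5]] (.nil) (.kid 72 [[6, 1, 0, 2, 3, 2, 1, 6]] (.nil) (.kid 74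 [[6, 1, 2, 3, 2, 1, 0, 4]] (.nil) (.kid 75 [[6, 1, 2, 3, 2, 1, 0, 5]] (.nil) (.kid 77 [[6, 1, 2, 3, 2, 1, 4, 3]] (.nil) (.kid 78 [[6, 1, 2, 3, 2, 1, 4, 5]] (.nil) (.kid 80 [[6, 1, 2, 3, 2, 1, 5, 1]] (.nil) (.kid 95 [[6, 1, 0, 2, 1, 3, 2, 1, 0]] (.nil) (.kid 97 [[6, 1, 0, 2, 1, 3, 2, 1, 4]] (.nil) (.kid 98 [[6, 1, 0, 2, 1, 3, 2, 1, 5]] (.nil) (.kid 100 [[6, 1, 0, 2, 1, 3, 2, 3, 2]] (.nil) (.kid 102 [[6, 1, 0, 2, 1, 3, 2, 3, 5]] (.nil) (.kid 103 [[6, 1, 0, 2, 1, 3, 2, 4, 3]] (.nil) (suzCxTree4))))))))))))))))))))))))))))))))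

/-- Part of the centraliser search. -/
def suzCxTree6 : Tree ℕ := .kid 4 [[6, 1, 2], [6, 1, 0, 2, 1, 3, 4], [6, 1, 0, 2, 1, 3, 2, 3, 4, 3, 5], [6, 1, 0, 2, 3, 2, 1, 0, 4, 3, 2, 3, 4], [6, 1, 2, 3, 2, 4, 3, 2, 1, 0, 6, 1, 0, 2, 5], [6, 1, 0, 2, 3, 2, 1, 4, 3, 2, 1, 3, 2, 1], [6, 1, 0, 2, 1, 3, 2, 4, 3, 2, 1, 6], [6, 1, 0, 1, 2, 1, 3, 2, 4, 3, 2, 5, 1, 2, 6, 1], [6, 1, 2, 3, 2, 1, 0, 4, 3, 2, 1, 5], [6, 1, 2, 3, 2, 1, 4, 3, 2, 1, 0], [6, 1, 2, 3, 2, 1, 6, 5]] (.kid 1683 [[6, 1, 0, 1, 2, 3, 2, 4, 3, 2, 1, 0, 1, 2, 5, 1, 2], [6, 1, 0, 2, 3, 2, 4, 3, 2, 1, 5, 6, 1, 5], [6, 1, 2, 3, 2, 1, 4, 3, 2, 1, 0, 1, 2, 5], [6, 1, 2, 3, 2, 1, 0, 4, 3, 2, 1, 3], [6, 1, 0, 2, 3, 2,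 1, 0, 4, 3, 2, 5, 1, 6], [6, 1, 0, 2, 1, 3, 2, 3, 4, 3, 2, 3, 5, 1, 0, 6], [6, 1, 2, 3, 2, 1, 4, 3, 2, 3, 4, 5, 1, 0, 1], [6, 1, 0, 2, 1, 3, 2, 1, 0, 1, 4, 3, 2, 1, 3, 2, 5], [6, 1, 0, 2, 1, 3, 2, 1, 0, 4, 3, 2, 1], [6, 1, 2, 3, 2, 4, 3, 2, 5, 1, 0, 2, 1, 0], [6, 1, 0, 2, 1, 3, 2, 4, 3, 5, 1, 0, 2, 1, 3, 2]] (.leaf 0) (.nil)) (.kid 6 [[6, 1, 0, 1]] (.nil) (.kid 7 [[6, 1, 0, 2]] (.nil) (.kid 8 [[6, 1, 2, 3]] (.nil) (.kid 10 [[6, 1, 0, 1, 2]] (.nil) (.kid 11 [[6, 1, 0, 2, 1]] (.nil) (.kid 13 [[6, 1, 2, 3, 2]] (.nil) (.kid 15 [[6, 1, 2, 3, 5]] (.nil) (.kid 16 [[6, 1, 2, 5, 1]] (.nil) (.kid 17 [[6, 1, 0, 1, 2, 1]] (.nil) (.kid 18 [[6, 1, 0, 1, 2, 3]] (.nil) (.kid 19 [[6,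 1, 0, 2, 1, 0]] (.nil) (.kid 20 [[6, 1, 0, 2, 1, 3]] (.nil) (.kid 21 [[6, 1, 0, 2, 1, 5]] (.nil) (.kid 22 [[6, 1, 0, 2, 1, 6]] (.nil) (.kid 25 [[6, 1, 2, 3, 2, 1], [6, 1, 2, 3, 2, 1, 5, 6, 1, 2, 3], [6, 1, 2, 3, 2, 1, 0, 4, 5, 1, 0, 2], [6, 1, 2, 3, 2, 1, 4, 3, 6, 5, 1, 6], [6, 1, 0, 2, 3, 2, 1, 4, 3, 2, 3, 4, 6, 5], [6, 1, 2, 3, 2, 4, 3, 2, 5, 1, 0, 1, 0, 2], [6, 1, 0, 2, 3, 2, 1, 4, 3, 2, 3, 4, 5, 6, 1, 2, 3], [6, 1, 0, 2, 1, 3, 2, 4, 3, 5, 1, 2, 6, 1, 5, 6], [6, 1, 0, 2, 1, 3, 2, 1, 3, 4, 3, 2, 1, 5, 1], [6, 1, 2, 3, 2, 1, 4, 3, 2, 1, 5, 6, 1, 0, 1], [6, 1, 2, 3, 2, 1, 4, 3, 2, 1, 6, 5]] (.nil) (.kid 26 [[6, 1, 2, 3, 2, 4]] (.nil) (suzCxTree5)))))))))))))))))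

/-- Verdicts at a leaf. -/
def suzLeaf0 : List Verdict := [.drop 0 1739 [(1170, [38]), (247, [26]), (820, [7, 9, 20, 16, 19]), (652, [1, 6, 9, 38, 2]), (743, [0, 5, 26, 14, 7]), (471, [13, 17, 28, 26, 24]), (1431, [1, 4, 16, 24, 31]), (553, [5, 9, 10, 26, 2]), (618, [0, 2, 6, 36, 3]), (1227, [6, 9, 29, 39, 18])]]

/-- Verdicts at a leaf. -/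
def suzLeaf1 : List Verdict := [.drop 1 1739 [(1170, [38]), (247, [21]), (820, [2, 4, 25, 11, 14]), (652, [1, 4, 6, 38, 7]), (743, [0, 5, 21, 19, 2]), (471, [12, 18, 23, 21, 29]), (1431, [2, 6, 29, 15, 14]), (553, [0, 4, 15, 21, 2]), (618, [1, 5, 7, 36, 0]), (1227, [1, 4, 24, 39, 13])]]

/-- Verdicts at a leaf. -/
def suzLeaf2 : List Verdict := [.drop 0 130 [(358, [6, 8, 7, 35, 25]), (64, [0, 4, 15, 28, 2]), (610, [4, 6, 5, 11, 14]), (915, [0]), (879, [1, 3, 16, 27, 19]), (246, [0, 8, 9, 20, 10]), (1153, [1, 5, 40, 12, 18]), (8, [3, 9, 40, 21, 6]), (683, [5]), (551, [0, 8, 24, 16, 1])]]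

/-- Verdicts at a leaf. -/
def suzLeaf3 : List Verdict := [.drop 1 130 [(358, [1, 3, 2, 35, 20]), (64, [5, 9, 10, 23, 1]), (610, [0, 16, 18, 24, 33]), (915, [5]), (879, [6, 8, 11, 22, 14]), (246, [3, 5, 4, 25, 12]), (1153, [0, 3, 40, 15, 19]), (8, [4, 8, 40, 20, 1]), (683, [0]), (551, [3, 5, 29, 11, 6])]]

/-- Verdicts at a leaf. -/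
def suzLeaf4 : List Verdict := [.drop 0 1165 [(1538, [0, 3, 14, 23, 5]), (1137, [3, 7, 14, 18, 0]), (612, [5, 7, 11, 32, 8]), (1504, [14, 17, 26, 16, 6]), (829, [8, 10, 33, 19, 23]), (1337, [9, 11, 19, 14, 5]), (381, [1, 7, 40, 18, 4]), (653, [0, 2, 13, 25, 12]), (211, [2, 9, 14, 10, 16]), (495, [27])]]

/-- Verdicts at a leaf. -/
def suzLeaf5 : List Verdict := [.drop 1 1669 [(610, [0, 12, 10, 15, 6]), (8, [5]), (755, [0]), (438, [5, 11, 13, 14, 19]), (654, [0, 8, 15, 21, 3]), (1164, [11, 14, 16, 25, 15]), (1738, [4, 8, 15, 24, 35]), (168, [5, 12, 18, 19, 2]), (309, [0, 4, 8, 35, 1]), (1332, [28])]]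

/-- Verdicts at a leaf. -/
def suzLeaf6 : List Verdict := [.drop 0 61 [(1139, [4, 6, 17, 13, 20]), (656, [1, 5, 9, 36, 2]), (766, [8]), (846, [0, 2, 1, 15, 18]), (1383, [6, 9, 22, 24, 2]), (855, [6, 10, 17, 24, 12]), (1616, [6, 9, 40, 20, 26]), (400, [4, 11, 34, 12, 14]), (1649, [2, 4, 17, 24, 26]), (395, [5, 7, 20, 39, 22])]]

/-- Verdicts at a leaf. -/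
def suzLeaf7 : List Verdict := [.drop 0 1669 [(610, [5, 10, 15, 12, 4]), (8, [0]), (755, [5]), (438, [0, 16, 18, 19, 14]), (654, [3, 5, 10, 26, 8]), (1164, [10, 11, 38, 19, 14]), (1738, [3, 9, 10, 29, 35]), (168, [0, 13, 18, 23, 10]), (309, [3, 5, 9, 35, 0]), (1332, [23])]]

/-- Verdicts at a leaf. -/
def suzLeaf8 : List Verdict := [.drop 0 1739 [(1026, [38]), (1490, [0, 3, 20, 37, 4]), (344, [3, 5, 10, 31, 25]), (833, [0, 11, 19, 30, 25]), (18, [2, 6, 21, 27, 14]), (545, [0, 8, 14, 30, 1]), (1187, [2, 4, 3, 24, 38]), (990, [2, 5, 7, 14, 0]), (1165, [31]), (912, [0, 3, 14, 23, 5])]]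

/-- Verdicts at a leaf. -/
def suzLeaf9 : List Verdict := [.drop 2 130 [(1718, [35]), (1002, [2, 5, 22, 39, 6]), (1693, [1, 7, 20, 36, 2]), (810, [0, 2, 15, 22, 24]), (1751, [0, 3, 41, 28, 9]), (351, [5]), (923, [0, 2, 26, 18, 3]), (986, [4, 6, 8, 24, 39]), (11, [0, 4, 25, 37, 10]), (1614, [1, 3, 2, 36, 5])]]

/-- Verdicts at a leaf. -/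
def suzLeaf10 : List Verdict := [.drop 0 1170 [(392, [26]), (656, [15, 28, 17, 20, 13]), (806, [8]), (817, [5, 11, 23, 16, 19]), (341, [0, 6, 11, 30, 1]), (1509, [4, 10, 22, 15, 18]), (1698, [1, 3, 41, 26, 4]), (1072, [0, 2, 14, 9, 23]), (1021, [5, 7, 6, 13, 10]), (342, [1, 13, 16, 21, 2])]]

/-- Verdicts at a leaf. -/
def suzLeaf11 : List Verdict := [.drop 3 203 [(1718, [35]), (1253, [2, 5, 22, 39, 6]), (197, [1, 7, 20, 36, 2]), (913, [0, 2, 15, 22, 24]), (1191, [0, 3, 41, 28, 9]), (1269, [5]), (714, [0, 2, 26, 18, 3]), (1113, [4, 6, 8, 24, 39]), (428, [0, 4, 25, 37, 10]), (1370, [1, 3, 2, 36, 5])]]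

/-- Verdicts at a leaf. -/
def suzLeaf12 : List Verdict := [.drop 0 1403 [(400, [4, 8, 15, 24, 35]), (1767, [2, 4, 17, 24, 26]), (670, [2, 5, 7, 39, 8]), (507, [5, 16, 6, 21, 20]), (1634, [12]), (797, [0, 2, 5, 14, 21]), (1403, [30]), (400, [4, 8, 15, 24, 35]), (1767, [2, 4, 17, 24, 26]), (670, [2, 5, 7, 39, 8])]]

/-- Verdicts at a leaf. -/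
def suzLeaf13 : List Verdict := [.drop 0 1170 [(1295, [26]), (302, [5, 7, 6, 27, 18]), (1201, [0, 2, 1, 17, 19]), (27, [0, 3, 5, 22, 15]), (1340, [2, 7, 32, 23, 12]), (652, [0, 2, 5, 39, 9]), (427, [0, 5, 26, 14, 7]), (675, [5, 12, 27, 15, 31]), (1060, [2, 13, 17, 32, 12]), (372, [0, 5, 8, 37, 1])]]

/-- Verdicts at a leaf. -/
def suzLeaf14 : List Verdict := [.drop 0 1026 [(1002, [0, 3, 20, 37, 4]), (254, [7, 10, 11, 13, 28]), (762, [2, 6, 40, 8, 5]), (1590, [1, 5, 7, 21, 4]), (886, [10, 23, 12, 25, 18]), (1026, [36]), (1002, [0, 3, 20, 37, 4]), (254, [7, 10, 11, 13, 28]), (762, [2, 6, 40, 8, 5]), (1590, [1, 5, 7, 21, 4])]]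

/-- Verdicts at a leaf. -/
def suzLeaf15 : List Verdict := [.drop 0 203 [(908, [25]), (357, [3, 7, 20, 37, 10]), (1605, [3, 5, 4, 37, 22]), (72, [11, 15, 26, 24, 22]), (236, [1, 15, 18, 17, 26]), (1423, [9]), (1711, [2, 4, 7, 14, 0]), (1580, [5, 11, 12, 14, 4]), (399, [13, 16, 24, 31, 25]), (253, [1, 6, 33, 16, 37])]]

/-- Verdicts at a leaf. -/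
def suzLeaf16 : List Verdict := [.drop 4 1170 [(1539, [26]), (889, [0, 16, 20, 36, 5]), (1089, [0, 4, 25, 37, 10]), (380, [6, 8, 12, 33, 9]), (427, [1, 6, 27, 15, 8]), (1314, [0, 4, 40, 15, 20]), (1170, [35]), (1539, [26]), (889, [0, 16, 20, 36, 5]), (1089, [0, 4, 25, 37, 10])]]

/-- Verdicts at a leaf. -/
def suzLeaf17 : List Verdict := [.drop 0 1170 [(1524, [26]), (299, [0, 16, 20, 36, 5]), (900, [0, 4, 25, 37, 10]), (1676, [6, 8, 12, 33, 9]), (153, [1, 6, 27, 15, 8]), (834, [0, 4, 40, 15, 20]), (1170, [35]), (1524, [26]), (299, [0, 16, 20, 36, 5]), (900, [0, 4, 25, 37, 10])]]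

/-- Verdicts at a leaf. -/
def suzLeaf18 : List Verdict := [.drop 5 1133 [(448, [3, 5, 7, 39, 1]), (29, [17]), (1688, [9, 12, 16, 25, 1]), (1152, [0, 3, 15, 11, 33]), (27, [0, 8, 14, 30, 1]), (1770, [1, 14, 15, 16, 34]), (815, [0, 4, 25, 37, 10]), (1133, [38]), (448, [3, 5, 7, 39, 1]), (29, [17])]]

/-- Verdicts at a leaf. -/
def suzLeaf19 : List Verdict := [.drop 6 1133 [(777, [3, 5, 7, 39, 1]), (991, [17]), (1584, [9, 12, 16, 25, 1]), (972, [0, 3, 15, 11, 33]), (464, [0, 8, 14, 30, 1]), (559, [1, 14, 15, 16, 34]), (568, [0, 4, 25, 37, 10]), (1133, [38]), (777, [3, 5, 7, 39, 1]), (991, [17])]]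

/-- Verdicts at a leaf. -/
def suzLeaf20 : List Verdict := [.drop 0 1739 [(1044, [38]), (247, [1, 7, 40, 33, 16]), (636, [7, 9, 20, 16, 19]), (1180, [33]), (1037, [8, 13, 18, 14, 33]), (390, [3, 14, 25, 34, 29]), (888, [9, 11, 40, 21, 23]), (1739, [1, 16, 11, 24, 37]), (1044, [38]), (247, [1, 7, 40, 33, 16])]]

/-- Verdicts at a leaf. -/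
def suzLeaf21 : List Verdict := [.drop 1 105 [(985, [5, 12, 16, 15, 20]), (1614, [3, 5, 10, 31, 25]), (1102, [1, 3, 6, 13, 21]), (860, [0, 6, 17, 26, 37]), (203, [18]), (402, [20]), (1283, [1, 33, 34, 39, 29]), (1041, [7, 10, 11, 12, 22]), (886, [3, 7, 9, 38, 0]), (695, [36])]]

/-- Verdicts at a leaf. -/
def suzLeaf22 : List Verdict := [.drop 0 105 [(985, [0, 11, 17, 10, 25]), (1614, [0, 8, 13, 20, 22]), (1102, [1, 4, 6, 12, 26]), (860, [1, 5, 12, 21, 37]), (203, [13]), (402, [25]), (1283, [6, 33, 34, 39, 24]), (1041, [2, 13, 16, 15, 23]), (886, [2, 4, 8, 38, 0]), (695, [36])]]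

/-- Verdicts at a leaf. -/
def suzLeaf23 : List Verdict := [.drop 1 1739 [(1044, [38]), (247, [2, 6, 40, 33, 11]), (636, [2, 4, 25, 11, 14]), (1180, [33]), (1037, [3, 14, 18, 33, 13]), (390, [8, 19, 20, 34, 24]), (888, [4, 16, 40, 24, 26]), (1739, [6, 11, 16, 24, 37]), (1044, [38]), (247, [2, 6, 40, 33, 11])]]

/-- Verdicts at a leaf. -/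
def suzLeaf24 : List Verdict := [.drop 6 1403 [(616, [3, 5, 16, 12, 29]), (392, [8, 10, 40, 20, 22]), (142, [5, 20, 41, 38, 31]), (494, [2, 19, 23, 28, 20]), (1280, [1, 5, 41, 20, 2]), (842, [0, 7, 20, 35, 19]), (1639, [41]), (472, [3, 9, 10, 4, 29]), (563, [1]), (1439, [0, 5, 8, 27, 10])]]

/-- Verdicts at a leaf. -/
def suzLeaf25 : List Verdict := [.drop 0 61 [(390, [4, 6, 17, 13, 20]), (1332, [9, 11, 40, 21, 23]), (1493, [6, 21, 41, 39, 32]), (1670, [3, 10, 24, 29, 20]), (1554, [2, 6, 41, 21, 3]), (430, [1, 8, 21, 36, 10]), (1639, [41]), (861, [0, 4, 11, 5, 20]), (1278, [2]), (104, [1, 6, 9, 28, 11])]]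

/-- Verdicts at a leaf. -/
def suzLeaf26 : List Verdict := [.drop 0 1639 [(266, [0, 4, 11, 5, 20]), (430, [3, 5, 8, 29, 34, 2]), (1639, [41]), (266, [0, 4, 11, 5, 20]), (430, [3, 5, 8, 29, 34, 2]), (1639, [41]), (266, [0, 4, 11, 5, 20]), (430, [3, 5, 8, 29, 34, 2]), (1639, [41]), (266, [0, 4, 11, 5, 20])]]

/-- Verdicts at a leaf. -/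
def suzLeaf27 : List Verdict := [.drop 1 1639 [(266, [0, 5, 16, 9, 25]), (430, [0, 3, 8, 24, 34, 7]), (1639, [41]), (266, [0, 5, 16, 9, 25]), (430, [0, 3, 8, 24, 34, 7]), (1639, [41]), (266, [0, 5, 16, 9, 25]), (430, [0, 3, 8, 24, 34, 7]), (1639, [41]), (266, [0, 5, 16, 9, 25])]]

/-- Verdicts at a leaf. -/
def suzLeaf28 : List Verdict := [.drop 1 659 [(1404, [1, 4, 40, 6, 7]), (1739, [19]), (1381, [38]), (1723, [4, 9, 20, 21, 39]), (1600, [0, 5, 30, 1, 19]), (727, [3, 9, 22, 38, 4]), (1680, [6, 13, 19, 22, 3]), (152, [29]), (573, [1, 3, 2, 31, 0]), (672, [5, 7, 11, 32, 8])]]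

/-- Verdicts at a leaf. -/
def suzLeaf29 : List Verdict := [.drop 0 659 [(1404, [1, 3, 11, 25, 21]), (1739, [14]), (1381, [38]), (1723, [4, 9, 25, 26, 39]), (1600, [0, 4, 40, 6, 3]), (727, [4, 8, 21, 38, 11]), (1680, [1, 14, 18, 27, 3]), (152, [24]), (573, [6, 8, 7, 31, 5]), (672, [0, 2, 16, 32, 3])]]

/-- Verdicts at a leaf. -/
def suzLeaf30 : List Verdict := [.drop 0 1170 [(403, [26]), (457, [3, 6, 8, 23, 12]), (594, [0, 5, 8, 25, 14]), (1183, [5, 12, 16, 15, 20]), (1119, [21]), (656, [0, 4, 8, 39, 1]), (683, [8]), (664, [0, 8, 24, 16, 1]), (199, [5, 21, 13, 6, 32]), (315, [2, 5, 19, 20, 3])]]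

/-- Verdicts at a leaf. -/
def suzLeaf31 : List Verdict := [.drop 1 1170 [(403, [21]), (457, [1, 3, 8, 21, 17]), (594, [0, 3, 5, 20, 19]), (1183, [0, 11, 17, 10, 25]), (1119, [26]), (656, [3, 5, 9, 39, 1]), (683, [3]), (664, [3, 5, 29, 11, 6]), (199, [0, 20, 32, 24, 9]), (315, [0, 4, 8, 24, 15])]]

/-- Verdicts at a leaf. -/
def suzLeaf32 : List Verdict := [.drop 1 203 [(977, [20]), (690, [16]), (953, [5, 8, 10, 6, 11]), (965, [3, 7, 14, 8, 23]), (1524, [3, 15, 40, 23, 25]), (794, [4, 11, 26, 5, 25]), (408, [0, 17, 9, 25, 31]), (1137, [0, 4, 11, 20, 36]), (795, [0, 2, 16, 32, 3]), (493, [1, 6, 22, 37, 7])]]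

/-- Verdicts at a leaf. -/
def suzLeaf33 : List Verdict := [.drop 0 203 [(977, [25]), (690, [11]), (953, [0, 3, 15, 1, 16]), (965, [2, 8, 19, 3, 28]), (1524, [8, 10, 40, 20, 22]), (794, [0, 16, 20, 36, 5]), (408, [4, 20, 12, 5, 31]), (1137, [5, 9, 16, 25, 36]), (795, [5, 7, 11, 32, 8]), (493, [1, 6, 27, 37, 2])]]

/-- Verdicts at a leaf. -/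
def suzLeaf34 : List Verdict := [.drop 0 203 [(1500, [25]), (396, [4, 8, 41, 21, 11]), (1778, [1, 4, 28, 39, 6]), (1553, [3, 8, 40, 35, 4]), (304, [9, 12, 13, 15, 20]), (526, [0, 4, 6, 20, 3]), (1527, [2, 4, 6, 31, 10]), (1696, [0, 2, 10, 24, 20]), (309, [1, 5, 7, 36, 0]), (221, [23])]]

/-- Verdicts at a leaf. -/
def suzLeaf35 : List Verdict := [.drop 0 311 [(787, [0, 2, 4, 34, 18]), (203, [19]), (1636, [25]), (449, [6, 11, 40, 22, 7]), (1322, [5, 16, 27, 31, 21]), (1247, [0, 8, 9, 20, 11]), (732, [4, 7, 9, 26, 12]), (301, [0, 3, 40, 5, 7]), (408, [7, 11, 16, 15, 13]), (1697, [5, 9, 16, 25, 36])]]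

/-- Verdicts at a leaf. -/
def suzLeaf36 : List Verdict := [.drop 7 1048 [(671, [36]), (1489, [8, 10, 23, 24, 15]), (981, [2, 7, 40, 37, 3]), (780, [0, 23, 24, 10, 6]), (135, [0, 4, 23, 39, 5]), (1673, [3, 10, 24, 29, 20]), (883, [2, 17, 12, 20, 23]), (944, [2, 6, 21, 23, 0]), (915, [9]), (293, [2, 5, 38, 6, 3])]]

/-- Verdicts at a leaf. -/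
def suzLeaf37 : List Verdict := [.drop 0 203 [(1099, [25]), (1023, [1, 5, 25, 27, 8]), (959, [1, 3, 22, 26, 29]), (1081, [2, 8, 13, 19, 5]), (1172, [1, 5, 40, 7, 4]), (571, [1, 13, 11, 16, 7]), (471, [1, 3, 9, 38, 5]), (1222, [1, 4, 16, 24, 31]), (636, [6, 8, 23, 15, 18]), (737, [33])]]

/-- Verdicts at a leaf. -/
def suzLeaf38 : List Verdict := [.keep true]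

/-- Verdicts at a leaf. -/
def suzLeaf39 : List Verdict := [.keep false]

/-- Part of the search for the image of `z`. -/
def suzZTree0 : Tree (List Verdict) := .kid 402 [[6, 1, 0, 2, 3, 2, 1, 4, 3, 2, 3, 4], [6, 1, 0, 2, 1, 3, 2, 4, 3, 2, 1, 0, 1, 5, 1, 2], [6, 1, 2, 3, 2, 1, 0, 4, 3, 5, 1, 0, 1, 2, 3], [6, 1, 0, 2, 1, 3, 2, 1, 0, 1, 4], [6, 1, 0, 2, 3, 2, 1, 4, 3, 2, 1, 5, 1], [6, 1, 0, 2, 1, 3, 2, 1, 4, 3, 2, 5, 1, 6, 1], [6, 1, 2, 3, 2, 4, 3, 2, 1, 0, 5, 1, 0, 2, 1, 5], [6, 1, 0, 2, 1, 3, 2, 4, 3, 2, 6, 5, 1, 0, 2], [6, 1, 0, 2, 3, 2, 1, 4, 5], [6, 1, 0, 2, 1, 3, 2, 1, 4, 6]] (.kid 1547 [[6, 1, 0, 2, 1, 3, 2, 4, 3, 5, 1, 2, 3, 6, 1, 0], [6, 1, 0, 2, 1, 3, 2,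 4, 3, 2, 5, 1, 2, 3, 4], [6, 1, 2, 3, 2, 4, 3, 2, 1, 0], [6, 1, 0, 2, 3, 2, 1, 0, 4, 3, 5], [6, 1, 2, 3, 2, 1, 0, 4, 3, 2, 1, 5, 1], [6, 1, 0, 1, 2, 3, 2, 1, 4, 3, 2, 3, 2, 5], [6, 1, 0, 1, 2, 3, 2, 1, 4, 3, 2, 1, 0, 5, 1], [6, 1, 2, 3, 2, 1, 6, 5, 1], [6, 1, 0, 2, 3, 2, 4, 3, 2, 1, 0], [6, 1, 0, 2, 3, 2, 1, 0, 4, 3, 2, 3, 5, 1, 2, 3, 2]] (.kid 1278 [[6, 1, 2, 3, 2, 1, 0, 4, 3, 2, 1, 6, 5, 1, 2], [6, 1, 0, 2, 3, 2, 4, 3, 2, 1, 0, 6], [6, 1, 0, 1, 2, 3, 2, 4, 3, 2, 1, 0, 1, 5, 1, 2], [6, 1, 0, 1, 2, 1, 3, 2, 1, 4, 3, 5, 1], [6, 1, 2, 3], [6, 1, 0, 2, 1, 3, 2, 4, 3, 2, 1, 0, 1, 5], [6, 1, 0, 2, 1, 3, 2, 4, 3, 5, 1, 2, 3], [6, 1, 0, 2, 1, 3, 2, 1, 4, 3, 2, 1], [6, 1,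 0, 2, 1, 3, 2, 1, 4, 3, 2, 5, 6, 1, 0], [6, 1, 0, 2, 1, 3, 2, 1, 3, 4, 3, 2, 1, 0]] (.leaf suzLeaf38) (.nil)) (.nil)) (.kid 1120 [[6, 1, 0, 2, 1, 3, 2, 1, 4, 3, 2, 5, 1, 6, 1], [6, 1, 2, 3, 2, 4, 3, 2, 1, 0, 5, 1, 0, 2, 1, 5], [6, 1, 0, 2, 1, 3, 2, 4, 3, 2, 6, 5, 1, 0, 2], [6, 1, 0, 2, 3, 2, 1, 4, 5], [6, 1, 0, 2, 1, 3, 2, 1, 4, 6], [6, 1, 0, 2, 3, 2, 1, 4, 3, 2, 3, 4], [6, 1, 0, 2, 1, 3, 2, 4, 3, 2, 1, 0, 1, 5, 1, 2], [6, 1, 2, 3, 2, 1, 0, 4, 3, 5, 1, 0, 1, 2, 3], [6, 1, 0, 2, 1, 3, 2, 1, 0, 1, 4], [6, 1, 0, 2, 3, 2, 1, 4, 3, 2, 1, 5, 1]] (.kid 734 [[6, 1, 0, 1, 2, 3, 2, 1, 4, 3, 2, 3, 2, 5], [6, 1, 0, 1, 2, 3, 2, 1, 4, 3, 2, 1, 0, 5, 1], [6, 1, 2, 3, 2, 1, 6, 5,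 1], [6, 1, 0, 2, 3, 2, 4, 3, 2, 1, 0], [6, 1, 0, 2, 3, 2, 1, 0, 4, 3, 2, 3, 5, 1, 2, 3, 2], [6, 1, 0, 2, 1, 3, 2, 4, 3, 5, 1, 2, 3, 6, 1, 0], [6, 1, 0, 2, 1, 3, 2, 4, 3, 2, 5, 1, 2, 3, 4], [6, 1, 2, 3, 2, 4, 3, 2, 1, 0], [6, 1, 0, 2, 3, 2, 1, 0, 4, 3, 5], [6, 1, 2, 3, 2, 1, 0, 4, 3, 2, 1, 5, 1]] (.kid 806 [[6, 1, 0, 2, 1, 3, 2, 4, 3, 2, 1, 0, 1, 5], [6, 1, 0, 2, 1, 3, 2, 4, 3, 5, 1, 2, 3], [6, 1, 0, 2, 1, 3, 2, 1, 4, 3, 2, 1], [6, 1, 0, 2, 1, 3, 2, 1, 4, 3, 2, 5, 6, 1, 0], [6, 1, 0, 2, 1, 3, 2, 1, 3, 4, 3, 2, 1, 0], [6, 1, 2, 3, 2, 1, 0, 4, 3, 2, 1, 6, 5, 1, 2], [6, 1, 0, 2, 3, 2, 4, 3, 2, 1, 0, 6], [6, 1, 0, 1, 2, 3, 2, 4, 3, 2, 1, 0, 1, 5, 1, 2], [6, 1, 0, 1, 2,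 1, 3, 2, 1, 4, 3, 5, 1], [6, 1, 2, 3]] (.leaf suzLeaf39) (.nil)) (.nil)) (.nil))

/-- Part of the search for the image of `z`. -/
def suzZTree1 : Tree (List Verdict) := .kid 229 [[6, 1, 0, 2, 1, 3, 2, 1, 3, 4, 3], [6, 1, 0, 1, 2, 1, 3, 2, 4, 3, 2, 5, 1, 2, 3, 2, 4], [6, 1, 0, 2, 1, 3, 2, 1, 4, 3, 2, 5, 1, 0, 6], [6, 1, 0, 2, 1, 3, 2, 4, 3, 5, 1, 2, 3, 6, 1, 2], [6, 1, 2, 3, 2, 4, 3, 2, 1, 0, 6, 1, 5], [6, 1, 0, 1, 2, 1, 3, 2, 4, 3, 2, 1], [6, 1, 2, 3, 2, 1, 4, 3, 2, 3, 5, 1, 0, 1], [6, 1, 0, 2, 3, 2, 1, 4, 3, 2, 3, 5], [6, 1, 0, 2, 3, 2, 1, 4, 3, 2, 1, 0, 3, 4, 5], [6, 1, 0, 2, 1, 3, 2, 1, 3, 4, 3, 2, 5, 1, 0]] (.kid 690 [[6, 1, 2, 3, 2, 1, 6, 5, 1, 2, 3, 6, 1], [6,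 1, 2, 3, 2, 4, 3, 2, 1, 5, 1, 0, 1, 0, 2, 5], [6, 1, 0, 2, 1, 3, 2, 1, 4, 3, 2, 5, 1, 6], [6, 1, 0, 2, 3, 2, 1, 0, 4, 5, 1, 0], [6, 1, 2, 3, 2, 4, 3, 2, 1, 5, 1, 0, 1, 2, 3, 6], [6, 1, 0, 2, 1, 3, 2, 4, 3, 2, 1, 0, 1, 0, 5], [6, 1, 0, 2, 1, 3, 2, 1, 4, 3, 2, 5, 1, 6, 1, 0], [6, 1, 0, 2, 3, 2, 1, 4, 3, 2, 3, 5, 1, 6, 1, 5], [6, 1, 0, 2, 1, 3, 2, 4, 3, 2, 1, 5, 1, 0], [6, 1, 2, 3, 2, 1, 4, 3, 2, 1, 3, 6, 5]] (.kid 915 [[6, 1, 2, 3, 2, 1, 0, 4, 3, 2, 1, 3, 2, 4], [6, 1, 2, 3, 2, 1, 4, 3, 2, 1, 0, 3, 4, 5], [6, 1, 0, 1, 2, 3, 2, 4, 3, 2, 1, 6, 5, 1, 0, 2], [6, 1, 0, 2, 1, 3, 2, 1, 0, 4, 5, 1], [6, 1, 2, 3, 2, 1, 4, 6, 5, 1, 6], [6, 1, 2, 3, 2, 1, 4, 3, 2, 5, 6, 1, 5],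 [6, 1, 0, 2, 1, 3, 2, 1, 3, 4, 3, 5, 1, 2], [6, 1, 0, 2, 1, 3, 2, 1, 3, 4, 3, 2, 3, 4, 5, 1, 2], [6, 1, 2, 3, 2, 1, 0, 4, 3, 2, 1, 0, 1, 3, 2], [6, 1, 0, 2, 1, 3, 2, 1, 4, 3, 2, 5, 1, 2]] (.leaf suzLeaf36) (.nil)) (.nil)) (.kid 331 [[6, 1, 0, 1, 2, 1, 3, 2, 4, 3, 2, 1], [6, 1, 2, 3, 2, 1, 4, 3, 2, 3, 5, 1, 0, 1], [6, 1, 0, 2, 3, 2, 1, 4, 3, 2, 3, 5], [6, 1, 0, 2, 3, 2, 1, 4, 3, 2, 1, 0, 3, 4, 5], [6, 1, 0, 2, 1, 3, 2, 1, 3, 4, 3, 2, 5, 1, 0], [6, 1, 0, 2, 1, 3, 2, 1, 3, 4, 3], [6, 1, 0, 1, 2, 1, 3, 2, 4, 3, 2, 5, 1, 2, 3, 2, 4], [6, 1, 0, 2, 1, 3, 2, 1, 4, 3, 2, 5, 1, 0, 6], [6, 1, 0, 2, 1, 3, 2, 4, 3, 5, 1, 2, 3, 6, 1, 2], [6, 1, 2, 3, 2, 4, 3, 2, 1, 0, 6, 1, 5]]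 (.kid 1149 [[6, 1, 0, 2, 1, 3, 2, 4, 3, 2, 1, 0, 1, 0, 5], [6, 1, 0, 2, 1, 3, 2, 1, 4, 3, 2, 5, 1, 6, 1, 0], [6, 1, 0, 2, 3, 2, 1, 4, 3, 2, 3, 5, 1, 6, 1, 5], [6, 1, 0, 2, 1, 3, 2, 4, 3, 2, 1, 5, 1, 0], [6, 1, 2, 3, 2, 1, 4, 3, 2, 1, 3, 6, 5], [6, 1, 2, 3, 2, 1, 6, 5, 1, 2, 3, 6, 1], [6, 1, 2, 3, 2, 4, 3, 2, 1, 5, 1, 0, 1, 0, 2, 5], [6, 1, 0, 2, 1, 3, 2, 1, 4, 3, 2, 5, 1, 6], [6, 1, 0, 2, 3, 2, 1, 0, 4, 5, 1, 0], [6, 1, 2, 3, 2, 4, 3, 2, 1, 5, 1, 0, 1, 2, 3, 6]] (.kid 683 [[6, 1, 2, 3, 2, 1, 4, 3, 2, 5, 6, 1, 5], [6, 1, 0, 2, 1, 3, 2, 1, 3, 4, 3, 5, 1, 2], [6, 1, 0, 2, 1, 3, 2, 1, 3, 4, 3, 2, 3, 4, 5, 1, 2], [6, 1, 2, 3, 2, 1, 0, 4, 3, 2, 1, 0, 1, 3, 2], [6, 1, 0,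 2, 1, 3, 2, 1, 4, 3, 2, 5, 1, 2], [6, 1, 2, 3, 2, 1, 0, 4, 3, 2, 1, 3, 2, 4], [6, 1, 2, 3, 2, 1, 4, 3, 2, 1, 0, 3, 4, 5], [6, 1, 0, 1, 2, 3, 2, 4, 3, 2, 1, 6, 5, 1, 0, 2], [6, 1, 0, 2, 1, 3, 2, 1, 0, 4, 5, 1], [6, 1, 2, 3, 2, 1, 4, 6, 5, 1, 6]] (.leaf suzLeaf37) (.nil)) (.nil)) (suzZTree0))

/-- Part of the search for the image of `z`. -/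
def suzZTree2 : Tree (List Verdict) := .kid 1133 [[6, 1, 0, 2, 1, 3, 2, 3, 4, 3, 2, 1, 3, 6, 5], [6, 1, 0, 1, 2, 1, 3, 2, 1, 4, 3, 2, 3, 5, 1], [6, 1, 2, 3, 2, 1, 4, 3, 2, 1, 3], [6, 1, 0, 2, 1, 3, 2, 4, 3, 2, 5, 1, 2, 6, 1], [6, 1, 0, 2, 1, 3, 2, 4, 3, 2, 1, 6, 5, 1, 0, 2, 3]] (.nil) (.kid 1170 [[6, 1, 0, 2, 1, 3, 2, 4, 3, 2, 5, 1, 2, 6, 1], [6, 1, 0, 2, 1, 3, 2, 4, 3, 2, 1, 6, 5, 1, 0, 2, 3], [6, 1, 0, 2, 1, 3, 2, 3, 4, 3, 2, 1, 3, 6, 5], [6, 1, 0, 1, 2, 1, 3, 2, 1, 4, 3, 2, 3, 5, 1], [6, 1, 2, 3, 2, 1, 4, 3, 2, 1, 3]] (.nil) (.kid 1381 [[6, 1, 0, 1, 2, 1, 3, 2, 1, 4, 3, 2, 5, 1, 6, 5], [6, 1, 2, 3, 2, 1, 4, 3, 2, 1, 3, 2, 4], [6, 1, 0, 1, 2, 1, 3, 2, 4, 3, 5, 1,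 2, 6, 1], [6, 1, 2, 3, 2, 1, 4, 3, 2, 3, 5, 1, 0], [6, 1, 2, 3, 2, 4, 3, 2, 1, 0, 5, 1, 6]] (.kid 409 [[6, 1, 0, 2, 3, 2, 1, 4, 3, 5, 6, 1], [6, 1, 2, 3, 2, 1, 0, 4, 3, 2, 3, 5, 1, 0, 1, 2], [6, 1, 2, 3, 2, 1, 0, 4, 3, 2, 1, 0, 1, 3], [6, 1, 0, 2, 1, 3, 2, 4, 3, 2, 1, 0, 1, 0, 5, 1, 6], [6, 1, 2, 3, 2, 1, 4, 3, 2, 5, 6, 1, 0, 2, 3]] (.nil) (.kid 624 [[6, 1, 2, 3, 2, 1, 0, 4, 3, 2, 1, 3, 2], [6, 1, 0, 2, 1, 3, 2, 1, 3, 4, 3, 2, 3, 6], [6, 1, 0, 1, 2, 3, 2, 4, 3, 2, 1, 0, 1, 0, 2, 5], [6, 1, 0, 2, 3, 2, 1, 6, 5, 1, 2, 3, 2], [6, 1, 0, 2, 3, 2, 1, 4]] (.nil) (.kid 739 [[6, 1, 0, 1, 2, 3, 2, 1, 4, 3, 5, 6, 1, 2], [6, 1, 0, 1, 2, 3, 2, 1, 4, 3, 2, 5, 1, 6], [6, 1, 0, 2,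 1, 3, 2, 4, 3, 2, 6, 5, 1, 0, 6], [6, 1, 2, 3, 2, 4, 3, 2, 5, 1, 0, 2, 1], [6, 1, 0, 2, 1, 3, 2, 1]] (suzZTree1) (.nil)))) (.kid 1718 [[6, 1, 0, 2, 1, 3, 2, 4, 3, 2, 1, 6, 5, 1, 0, 2, 3], [6, 1, 0, 2, 1, 3, 2, 3, 4, 3, 2, 1, 3, 6, 5], [6, 1, 0, 1, 2, 1, 3, 2, 1, 4, 3, 2, 3, 5, 1], [6, 1, 2, 3, 2, 1, 4, 3, 2, 1, 3], [6, 1, 0, 2, 1, 3, 2, 4, 3, 2, 5, 1, 2, 6, 1]] (.nil) (.nil))))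

/-- Part of the search for the image of `z`. -/
def suzZTree3 : Tree (List Verdict) := .kid 1179 [[6, 1, 0, 2, 1, 3, 2, 4, 3, 2, 6, 5, 1, 0, 2], [6, 1, 0, 2, 3, 2, 1, 4, 5], [6, 1, 0, 2, 1, 3, 2, 1, 4, 6], [6, 1, 0, 2, 3, 2, 1, 4, 3, 2, 3, 4], [6, 1, 0, 2, 1, 3, 2, 4, 3, 2, 1, 0, 1, 5, 1, 2], [6, 1, 2, 3, 2, 1, 0, 4, 3, 5, 1, 0, 1, 2, 3], [6, 1, 0, 2, 1, 3, 2, 1, 0, 1, 4], [6, 1, 0, 2, 3, 2, 1, 4, 3, 2, 1, 5, 1], [6, 1, 0, 2, 1, 3, 2, 1, 4, 3, 2, 5, 1, 6, 1], [6, 1, 2, 3, 2, 4, 3, 2, 1, 0, 5, 1, 0, 2, 1, 5]] (.kid 130 [[6, 1, 2, 3, 2, 1, 6, 5, 1], [6, 1, 0, 2, 3, 2, 4, 3, 2, 1, 0], [6, 1, 0, 2, 3, 2, 1, 0, 4, 3, 2, 3, 5, 1, 2, 3, 2], [6, 1, 0, 2, 1, 3, 2, 4, 3, 5,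 1, 2, 3, 6, 1, 0], [6, 1, 0, 2, 1, 3, 2, 4, 3, 2, 5, 1, 2, 3, 4], [6, 1, 2, 3, 2, 4, 3, 2, 1, 0], [6, 1, 0, 2, 3, 2, 1, 0, 4, 3, 5], [6, 1, 2, 3, 2, 1, 0, 4, 3, 2, 1, 5, 1], [6, 1, 0, 1, 2, 3, 2, 1, 4, 3, 2, 3, 2, 5], [6, 1, 0, 1, 2, 3, 2, 1, 4, 3, 2, 1, 0, 5, 1]] (.kid 359 [[6, 1, 0, 2, 1, 3, 2, 1, 4, 3, 2, 1], [6, 1, 0, 2, 1, 3, 2, 1, 4, 3, 2, 5, 6, 1, 0], [6, 1, 0, 2, 1, 3, 2, 1, 3, 4, 3, 2, 1, 0], [6, 1, 2, 3, 2, 1, 0, 4, 3, 2, 1, 6, 5, 1, 2], [6, 1, 0, 2, 3, 2, 4, 3, 2, 1, 0, 6], [6, 1, 0, 1, 2, 3, 2, 4, 3, 2, 1, 0, 1, 5, 1, 2], [6, 1, 0, 1, 2, 1, 3, 2, 1, 4, 3, 5, 1], [6, 1, 2, 3], [6, 1, 0, 2, 1, 3, 2, 4, 3, 2, 1, 0, 1, 5], [6, 1, 0, 2, 1, 3, 2, 4, 3, 5, 1,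 2, 3]] (.leaf suzLeaf34) (.nil)) (.nil)) (.kid 1291 [[6, 1, 2, 3, 2, 1, 0, 4, 3, 5, 1, 0, 1, 2, 3], [6, 1, 0, 2, 1, 3, 2, 1, 0, 1, 4], [6, 1, 0, 2, 3, 2, 1, 4, 3, 2, 1, 5, 1], [6, 1, 0, 2, 1, 3, 2, 1, 4, 3, 2, 5, 1, 6, 1], [6, 1, 2, 3, 2, 4, 3, 2, 1, 0, 5, 1, 0, 2, 1, 5], [6, 1, 0, 2, 1, 3, 2, 4, 3, 2, 6, 5, 1, 0, 2], [6, 1, 0, 2, 3, 2, 1, 4, 5], [6, 1, 0, 2, 1, 3, 2, 1, 4, 6], [6, 1, 0, 2, 3, 2, 1, 4, 3, 2, 3, 4], [6, 1, 0, 2, 1, 3, 2, 4, 3, 2, 1, 0, 1, 5, 1, 2]] (.kid 203 [[6, 1, 2, 3, 2, 4, 3, 2, 1, 0], [6, 1, 0, 2, 3, 2, 1, 0, 4, 3, 5], [6, 1, 2, 3, 2, 1, 0, 4, 3, 2, 1, 5, 1], [6, 1, 0, 1, 2, 3, 2, 1, 4, 3, 2, 3, 2, 5], [6, 1, 0, 1, 2, 3, 2, 1, 4, 3, 2, 1, 0,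 5, 1], [6, 1, 2, 3, 2, 1, 6, 5, 1], [6, 1, 0, 2, 3, 2, 4, 3, 2, 1, 0], [6, 1, 0, 2, 3, 2, 1, 0, 4, 3, 2, 3, 5, 1, 2, 3, 2], [6, 1, 0, 2, 1, 3, 2, 4, 3, 5, 1, 2, 3, 6, 1, 0], [6, 1, 0, 2, 1, 3, 2, 4, 3, 2, 5, 1, 2, 3, 4]] (.kid 1423 [[6, 1, 0, 1, 2, 3, 2, 4, 3, 2, 1, 0, 1, 5, 1, 2], [6, 1, 0, 1, 2, 1, 3, 2, 1, 4, 3, 5, 1], [6, 1, 2, 3], [6, 1, 0, 2, 1, 3, 2, 4, 3, 2, 1, 0, 1, 5], [6, 1, 0, 2, 1, 3, 2, 4, 3, 5, 1, 2, 3], [6, 1, 0, 2, 1, 3, 2, 1, 4, 3, 2, 1], [6, 1, 0, 2, 1, 3, 2, 1, 4, 3, 2, 5, 6, 1, 0], [6, 1, 0, 2, 1, 3, 2, 1, 3, 4, 3, 2, 1, 0], [6, 1, 2, 3, 2, 1, 0, 4, 3, 2, 1, 6, 5, 1, 2], [6, 1, 0, 2, 3, 2, 4, 3, 2, 1, 0, 6]] (.leaf suzLeaf35) (.nil)) (.nil)) (.nil))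

/-- Part of the search for the image of `z`. -/
def suzZTree4 : Tree (List Verdict) := .kid 403 [[6, 1, 0, 2, 3, 2, 1, 4, 3, 2, 3, 5], [6, 1, 0, 2, 3, 2, 1, 4, 3, 2, 1, 0, 3, 4, 5], [6, 1, 0, 2, 1, 3, 2, 1, 3, 4, 3, 2, 5, 1, 0], [6, 1, 0, 2, 1, 3, 2, 1, 3, 4, 3], [6, 1, 0, 1, 2, 1, 3, 2, 4, 3, 2, 5, 1, 2, 3, 2, 4], [6, 1, 0, 2, 1, 3, 2, 1, 4, 3, 2, 5, 1, 0, 6], [6, 1, 0, 2, 1, 3, 2, 4, 3, 5, 1, 2, 3, 6, 1, 2], [6, 1, 2, 3, 2, 4, 3, 2, 1, 0, 6, 1, 5], [6, 1, 0, 1, 2, 1, 3, 2, 4, 3, 2, 1], [6, 1, 2, 3, 2, 1, 4, 3, 2, 3, 5, 1, 0, 1]] (.kid 1587 [[6, 1, 0, 2, 3, 2, 1, 4, 3, 2, 3, 5, 1, 6, 1, 5], [6, 1, 0, 2, 1, 3, 2, 4, 3, 2, 1, 5, 1, 0], [6, 1, 2, 3, 2, 1, 4, 3, 2,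 1, 3, 6, 5], [6, 1, 2, 3, 2, 1, 6, 5, 1, 2, 3, 6, 1], [6, 1, 2, 3, 2, 4, 3, 2, 1, 5, 1, 0, 1, 0, 2, 5], [6, 1, 0, 2, 1, 3, 2, 1, 4, 3, 2, 5, 1, 6], [6, 1, 0, 2, 3, 2, 1, 0, 4, 5, 1, 0], [6, 1, 2, 3, 2, 4, 3, 2, 1, 5, 1, 0, 1, 2, 3, 6], [6, 1, 0, 2, 1, 3, 2, 4, 3, 2, 1, 0, 1, 0, 5], [6, 1, 0, 2, 1, 3, 2, 1, 4, 3, 2, 5, 1, 6, 1, 0]] (.kid 1694 [[6, 1, 0, 2, 1, 3, 2, 1, 3, 4, 3, 2, 3, 4, 5, 1, 2], [6, 1, 2, 3, 2, 1, 0, 4, 3, 2, 1, 0, 1, 3, 2], [6, 1, 0, 2, 1, 3, 2, 1, 4, 3, 2, 5, 1, 2], [6, 1, 2, 3, 2, 1, 0, 4, 3, 2, 1, 3, 2, 4], [6, 1, 2, 3, 2, 1, 4, 3, 2, 1, 0, 3, 4, 5], [6, 1, 0, 1, 2, 3, 2, 4, 3, 2, 1, 6, 5, 1, 0, 2], [6, 1, 0, 2, 1, 3, 2, 1, 0, 4, 5, 1], [6, 1,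 2, 3, 2, 1, 4, 6, 5, 1, 6], [6, 1, 2, 3, 2, 1, 4, 3, 2, 5, 6, 1, 5], [6, 1, 0, 2, 1, 3, 2, 1, 3, 4, 3, 5, 1, 2]] (.leaf suzLeaf32) (.nil)) (.nil)) (.kid 1119 [[6, 1, 0, 2, 1, 3, 2, 1, 4, 3, 2, 5, 1, 0, 6], [6, 1, 0, 2, 1, 3, 2, 4, 3, 5, 1, 2, 3, 6, 1, 2], [6, 1, 2, 3, 2, 4, 3, 2, 1, 0, 6, 1, 5], [6, 1, 0, 1, 2, 1, 3, 2, 4, 3, 2, 1], [6, 1, 2, 3, 2, 1, 4, 3, 2, 3, 5, 1, 0, 1], [6, 1, 0, 2, 3, 2, 1, 4, 3, 2, 3, 5], [6, 1, 0, 2, 3, 2, 1, 4, 3, 2, 1, 0, 3, 4, 5], [6, 1, 0, 2, 1, 3, 2, 1, 3, 4, 3, 2, 5, 1, 0], [6, 1, 0, 2, 1, 3, 2, 1, 3, 4, 3], [6, 1, 0, 1, 2, 1, 3, 2, 4, 3, 2, 5, 1, 2, 3, 2, 4]] (.kid 779 [[6, 1, 0, 2, 1, 3, 2, 1, 4, 3, 2, 5, 1, 6], [6, 1, 0, 2, 3, 2,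 1, 0, 4, 5, 1, 0], [6, 1, 2, 3, 2, 4, 3, 2, 1, 5, 1, 0, 1, 2, 3, 6], [6, 1, 0, 2, 1, 3, 2, 4, 3, 2, 1, 0, 1, 0, 5], [6, 1, 0, 2, 1, 3, 2, 1, 4, 3, 2, 5, 1, 6, 1, 0], [6, 1, 0, 2, 3, 2, 1, 4, 3, 2, 3, 5, 1, 6, 1, 5], [6, 1, 0, 2, 1, 3, 2, 4, 3, 2, 1, 5, 1, 0], [6, 1, 2, 3, 2, 1, 4, 3, 2, 1, 3, 6, 5], [6, 1, 2, 3, 2, 1, 6, 5, 1, 2, 3, 6, 1], [6, 1, 2, 3, 2, 4, 3, 2, 1, 5, 1, 0, 1, 0, 2, 5]] (.kid 1427 [[6, 1, 0, 1, 2, 3, 2, 4, 3, 2, 1, 6, 5, 1, 0, 2], [6, 1, 0, 2, 1, 3, 2, 1, 0, 4, 5, 1], [6, 1, 2, 3, 2, 1, 4, 6, 5, 1, 6], [6, 1, 2, 3, 2, 1, 4, 3, 2, 5, 6, 1, 5], [6, 1, 0, 2, 1, 3, 2, 1, 3, 4, 3, 5, 1, 2], [6, 1, 0, 2, 1, 3, 2, 1, 3, 4, 3, 2, 3, 4, 5, 1, 2], [6, 1,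 2, 3, 2, 1, 0, 4, 3, 2, 1, 0, 1, 3, 2], [6, 1, 0, 2, 1, 3, 2, 1, 4, 3, 2, 5, 1, 2], [6, 1, 2, 3, 2, 1, 0, 4, 3, 2, 1, 3, 2, 4], [6, 1, 2, 3, 2, 1, 4, 3, 2, 1, 0, 3, 4, 5]] (.leaf suzLeaf33) (.nil)) (.nil)) (suzZTree3))

/-- Part of the search for the image of `z`. -/
def suzZTree5 : Tree (List Verdict) := .kid 698 [[6, 1, 2, 3, 2, 4, 3, 2, 1, 0, 6, 1, 5], [6, 1, 0, 1, 2, 1, 3, 2, 4, 3, 2, 1], [6, 1, 2, 3, 2, 1, 4, 3, 2, 3, 5, 1, 0, 1], [6, 1, 0, 2, 3, 2, 1, 4, 3, 2, 3, 5], [6, 1, 0, 2, 3, 2, 1, 4, 3, 2, 1, 0, 3, 4, 5], [6, 1, 0, 2, 1, 3, 2, 1, 3, 4, 3, 2, 5, 1, 0], [6, 1, 0, 2, 1, 3, 2, 1, 3, 4, 3], [6, 1, 0, 1, 2, 1, 3, 2, 4, 3, 2, 5, 1, 2, 3, 2, 4], [6, 1, 0, 2,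 1, 3, 2, 1, 4, 3, 2, 5, 1, 0, 6], [6, 1, 0, 2, 1, 3, 2, 4, 3, 5, 1, 2, 3, 6, 1, 2]] (.kid 1650 [[6, 1, 2, 3, 2, 4, 3, 2, 1, 5, 1, 0, 1, 2, 3, 6], [6, 1, 0, 2, 1, 3, 2, 4, 3, 2, 1, 0, 1, 0, 5], [6, 1, 0, 2, 1, 3, 2, 1, 4, 3, 2, 5, 1, 6, 1, 0], [6, 1, 0, 2, 3, 2, 1, 4, 3, 2, 3, 5, 1, 6, 1, 5], [6, 1, 0, 2, 1, 3, 2, 4, 3, 2, 1, 5, 1, 0], [6, 1, 2, 3, 2, 1, 4, 3, 2, 1, 3, 6, 5], [6, 1, 2, 3, 2, 1, 6, 5, 1, 2, 3, 6, 1], [6, 1, 2, 3, 2, 4, 3, 2, 1, 5, 1, 0, 1, 0, 2, 5], [6, 1, 0, 2, 1, 3, 2, 1, 4, 3, 2, 5, 1, 6], [6, 1, 0, 2, 3, 2, 1, 0, 4, 5, 1, 0]] (.kid 313 [[6, 1, 2, 3, 2, 1, 4, 6, 5, 1, 6], [6, 1, 2, 3, 2, 1, 4, 3, 2, 5, 6, 1, 5], [6, 1, 0, 2, 1, 3, 2, 1, 3, 4, 3,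 5, 1, 2], [6, 1, 0, 2, 1, 3, 2, 1, 3, 4, 3, 2, 3, 4, 5, 1, 2], [6, 1, 2, 3, 2, 1, 0, 4, 3, 2, 1, 0, 1, 3, 2], [6, 1, 0, 2, 1, 3, 2, 1, 4, 3, 2, 5, 1, 2], [6, 1, 2, 3, 2, 1, 0, 4, 3, 2, 1, 3, 2, 4], [6, 1, 2, 3, 2, 1, 4, 3, 2, 1, 0, 3, 4, 5], [6, 1, 0, 1, 2, 3, 2, 4, 3, 2, 1, 6, 5, 1, 0, 2], [6, 1, 0, 2, 1, 3, 2, 1, 0, 4, 5, 1]] (.leaf suzLeaf30) (.nil)) (.nil)) (.kid 1099 [[6, 1, 0, 2, 1, 3, 2, 1, 3, 4, 3, 2, 5, 1, 0], [6, 1, 0, 2, 1, 3, 2, 1, 3, 4, 3], [6, 1, 0, 1, 2, 1, 3, 2, 4, 3, 2, 5, 1, 2, 3, 2, 4], [6, 1, 0, 2, 1, 3, 2, 1, 4, 3, 2, 5, 1, 0, 6], [6, 1, 0, 2, 1, 3, 2, 4, 3, 5, 1, 2, 3, 6, 1, 2], [6, 1, 2, 3, 2, 4, 3, 2, 1, 0, 6, 1, 5], [6, 1, 0, 1, 2, 1, 3, 2,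 4, 3, 2, 1], [6, 1, 2, 3, 2, 1, 4, 3, 2, 3, 5, 1, 0, 1], [6, 1, 0, 2, 3, 2, 1, 4, 3, 2, 3, 5], [6, 1, 0, 2, 3, 2, 1, 4, 3, 2, 1, 0, 3, 4, 5]] (.kid 662 [[6, 1, 2, 3, 2, 1, 4, 3, 2, 1, 3, 6, 5], [6, 1, 2, 3, 2, 1, 6, 5, 1, 2, 3, 6, 1], [6, 1, 2, 3, 2, 4, 3, 2, 1, 5, 1, 0, 1, 0, 2, 5], [6, 1, 0, 2, 1, 3, 2, 1, 4, 3, 2, 5, 1, 6], [6, 1, 0, 2, 3, 2, 1, 0, 4, 5, 1, 0], [6, 1, 2, 3, 2, 4, 3, 2, 1, 5, 1, 0, 1, 2, 3, 6], [6, 1, 0, 2, 1, 3, 2, 4, 3, 2, 1, 0, 1, 0, 5], [6, 1, 0, 2, 1, 3, 2, 1, 4, 3, 2, 5, 1, 6, 1, 0], [6, 1, 0, 2, 3, 2, 1, 4, 3, 2, 3, 5, 1, 6, 1, 5], [6, 1, 0, 2, 1, 3, 2, 4, 3, 2, 1, 5, 1, 0]] (.kid 778 [[6, 1, 0, 2, 1, 3, 2, 1, 4, 3, 2, 5, 1, 2], [6, 1, 2,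 3, 2, 1, 0, 4, 3, 2, 1, 3, 2, 4], [6, 1, 2, 3, 2, 1, 4, 3, 2, 1, 0, 3, 4, 5], [6, 1, 0, 1, 2, 3, 2, 4, 3, 2, 1, 6, 5, 1, 0, 2], [6, 1, 0, 2, 1, 3, 2, 1, 0, 4, 5, 1], [6, 1, 2, 3, 2, 1, 4, 6, 5, 1, 6], [6, 1, 2, 3, 2, 1, 4, 3, 2, 5, 6, 1, 5], [6, 1, 0, 2, 1, 3, 2, 1, 3, 4, 3, 5, 1, 2], [6, 1, 0, 2, 1, 3, 2, 1, 3, 4, 3, 2, 3, 4, 5, 1, 2], [6, 1, 2, 3, 2, 1, 0, 4, 3, 2, 1, 0, 1, 3, 2]] (.leaf suzLeaf31) (.nil)) (.nil)) (.nil))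

/-- Part of the search for the image of `z`. -/
def suzZTree6 : Tree (List Verdict) := .kid 152 [[6, 1, 0, 2, 1, 3, 2, 1, 4, 6], [6, 1, 0, 2, 3, 2, 1, 4, 3, 2, 3, 4], [6, 1, 0, 2, 1, 3, 2, 4, 3, 2, 1, 0, 1, 5, 1, 2], [6, 1, 2, 3, 2, 1, 0, 4, 3, 5, 1, 0, 1, 2, 3], [6, 1, 0, 2, 1, 3, 2, 1, 0, 1, 4], [6, 1, 0, 2, 3, 2, 1, 4, 3, 2, 1, 5, 1], [6, 1, 0, 2, 1, 3, 2, 1, 4, 3, 2, 5, 1, 6, 1], [6, 1, 2, 3, 2, 4, 3, 2, 1, 0, 5, 1, 0, 2, 1, 5], [6, 1, 0, 2, 1, 3, 2, 4, 3, 2, 6, 5, 1, 0, 2], [6, 1, 0, 2, 3, 2, 1, 4, 5]] (.kid 1739 [[6, 1, 0, 2, 3, 2, 1, 0, 4, 3, 2, 3, 5, 1, 2, 3, 2], [6, 1, 0, 2, 1, 3, 2, 4, 3, 5, 1, 2, 3, 6, 1, 0], [6, 1, 0, 2, 1, 3, 2, 4, 3, 2, 5, 1, 2, 3,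 4], [6, 1, 2, 3, 2, 4, 3, 2, 1, 0], [6, 1, 0, 2, 3, 2, 1, 0, 4, 3, 5], [6, 1, 2, 3, 2, 1, 0, 4, 3, 2, 1, 5, 1], [6, 1, 0, 1, 2, 3, 2, 1, 4, 3, 2, 3, 2, 5], [6, 1, 0, 1, 2, 3, 2, 1, 4, 3, 2, 1, 0, 5, 1], [6, 1, 2, 3, 2, 1, 6, 5, 1], [6, 1, 0, 2, 3, 2, 4, 3, 2, 1, 0]] (.kid 755 [[6, 1, 0, 2, 1, 3, 2, 1, 3, 4, 3, 2, 1, 0], [6, 1, 2, 3, 2, 1, 0, 4, 3, 2, 1, 6, 5, 1, 2], [6, 1, 0, 2, 3, 2, 4, 3, 2, 1, 0, 6], [6, 1, 0, 1, 2, 3, 2, 4, 3, 2, 1, 0, 1, 5, 1, 2], [6, 1, 0, 1, 2, 1, 3, 2, 1, 4, 3, 5, 1], [6, 1, 2, 3], [6, 1, 0, 2, 1, 3, 2, 4, 3, 2, 1, 0, 1, 5], [6, 1, 0, 2, 1, 3, 2, 4, 3, 5, 1, 2, 3], [6, 1, 0, 2, 1, 3, 2, 1, 4, 3, 2, 1], [6, 1, 0, 2, 1, 3, 2, 1, 4, 3, 2, 5,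 6, 1, 0]] (.leaf suzLeaf28) (.nil)) (.nil)) (.kid 591 [[6, 1, 0, 2, 3, 2, 1, 4, 3, 2, 1, 5, 1], [6, 1, 0, 2, 1, 3, 2, 1, 4, 3, 2, 5, 1, 6, 1], [6, 1, 2, 3, 2, 4, 3, 2, 1, 0, 5, 1, 0, 2, 1, 5], [6, 1, 0, 2, 1, 3, 2, 4, 3, 2, 6, 5, 1, 0, 2], [6, 1, 0, 2, 3, 2, 1, 4, 5], [6, 1, 0, 2, 1, 3, 2, 1, 4, 6], [6, 1, 0, 2, 3, 2, 1, 4, 3, 2, 3, 4], [6, 1, 0, 2, 1, 3, 2, 4, 3, 2, 1, 0, 1, 5, 1, 2], [6, 1, 2, 3, 2, 1, 0, 4, 3, 5, 1, 0, 1, 2, 3], [6, 1, 0, 2, 1, 3, 2, 1, 0, 1, 4]] (.kid 627 [[6, 1, 2, 3, 2, 1, 0, 4, 3, 2, 1, 5, 1], [6, 1, 0, 1, 2, 3, 2, 1, 4, 3, 2, 3, 2, 5], [6, 1, 0, 1, 2, 3, 2, 1, 4, 3, 2, 1, 0, 5, 1], [6, 1, 2, 3, 2, 1, 6, 5, 1], [6, 1, 0, 2, 3, 2, 4, 3, 2, 1,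 0], [6, 1, 0, 2, 3, 2, 1, 0, 4, 3, 2, 3, 5, 1, 2, 3, 2], [6, 1, 0, 2, 1, 3, 2, 4, 3, 5, 1, 2, 3, 6, 1, 0], [6, 1, 0, 2, 1, 3, 2, 4, 3, 2, 5, 1, 2, 3, 4], [6, 1, 2, 3, 2, 4, 3, 2, 1, 0], [6, 1, 0, 2, 3, 2, 1, 0, 4, 3, 5]] (.kid 8 [[6, 1, 2, 3], [6, 1, 0, 2, 1, 3, 2, 4, 3, 2, 1, 0, 1, 5], [6, 1, 0, 2, 1, 3, 2, 4, 3, 5, 1, 2, 3], [6, 1, 0, 2, 1, 3, 2, 1, 4, 3, 2, 1], [6, 1, 0, 2, 1, 3, 2, 1, 4, 3, 2, 5, 6, 1, 0], [6, 1, 0, 2, 1, 3, 2, 1, 3, 4, 3, 2, 1, 0], [6, 1, 2, 3, 2, 1, 0, 4, 3, 2, 1, 6, 5, 1, 2], [6, 1, 0, 2, 3, 2, 4, 3, 2, 1, 0, 6], [6, 1, 0, 1, 2, 3, 2, 4, 3, 2, 1, 0, 1, 5, 1, 2], [6, 1, 0, 1, 2, 1, 3, 2, 1, 4, 3, 5, 1]] (.leaf suzLeaf29) (.nil)) (.nil)) (suzZTree5))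

/-- Part of the search for the image of `z`. -/
def suzZTree7 : Tree (List Verdict) := .kid 695 [[6, 1, 2, 3, 2, 4, 3, 2, 1, 0, 5, 1, 6], [6, 1, 0, 1, 2, 1, 3, 2, 1, 4, 3, 2, 5, 1, 6, 5], [6, 1, 2, 3, 2, 1, 4, 3, 2, 1, 3, 2, 4], [6, 1, 0, 1, 2, 1, 3, 2, 4, 3, 5, 1, 2, 6, 1], [6, 1, 2, 3, 2, 1, 4, 3, 2, 3, 5, 1, 0]] (.kid 60 [[6, 1, 0, 2, 1, 3, 2, 1], [6, 1, 0, 1, 2, 3, 2, 1, 4, 3, 5, 6, 1, 2], [6, 1, 0, 1, 2, 3, 2, 1, 4, 3, 2, 5, 1, 6], [6, 1, 0, 2, 1, 3, 2, 4, 3, 2, 6, 5, 1, 0, 6], [6, 1, 2, 3, 2, 4, 3, 2, 5, 1, 0, 2, 1]] (suzZTree6) (.kid 70 [[6, 1, 0, 2, 3, 2, 1, 4], [6, 1, 2, 3, 2, 1, 0, 4, 3, 2, 1, 3, 2], [6, 1, 0, 2, 1, 3, 2, 1, 3, 4, 3, 2, 3, 6], [6, 1, 0,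 1, 2, 3, 2, 4, 3, 2, 1, 0, 1, 0, 2, 5], [6, 1, 0, 2, 3, 2, 1, 6, 5, 1, 2, 3, 2]] (.nil) (.kid 1340 [[6, 1, 2, 3, 2, 1, 4, 3, 2, 5, 6, 1, 0, 2, 3], [6, 1, 0, 2, 3, 2, 1, 4, 3, 5, 6, 1], [6, 1, 2, 3, 2, 1, 0, 4, 3, 2, 3, 5, 1, 0, 1, 2], [6, 1, 2, 3, 2, 1, 0, 4, 3, 2, 1, 0, 1, 3], [6, 1, 0, 2, 1, 3, 2, 4, 3, 2, 1, 0, 1, 0, 5, 1, 6]] (.nil) (.nil)))) (.kid 1026 [[6, 1, 0, 1, 2, 1, 3, 2, 1, 4, 3, 2, 3, 5, 1], [6, 1, 2, 3, 2, 1, 4, 3, 2, 1, 3], [6, 1, 0, 2, 1, 3, 2, 4, 3, 2, 5, 1, 2, 6, 1], [6, 1, 0, 2, 1, 3, 2, 4, 3, 2, 1, 6, 5, 1, 0, 2, 3], [6, 1, 0, 2, 1, 3, 2, 3, 4, 3, 2, 1, 3, 6, 5]] (.nil) (.kid 1044 [[6, 1, 0, 1, 2, 1, 3, 2, 4, 3, 5, 1, 2, 6, 1], [6, 1, 2, 3, 2,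 1, 4, 3, 2, 3, 5, 1, 0], [6, 1, 2, 3, 2, 4, 3, 2, 1, 0, 5, 1, 6], [6, 1, 0, 1, 2, 1, 3, 2, 1, 4, 3, 2, 5, 1, 6, 5], [6, 1, 2, 3, 2, 1, 4, 3, 2, 1, 3, 2, 4]] (.kid 911 [[6, 1, 2, 3, 2, 1, 0, 4, 3, 2, 1, 0, 1, 3], [6, 1, 0, 2, 1, 3, 2, 4, 3, 2, 1, 0, 1, 0, 5, 1, 6], [6, 1, 2, 3, 2, 1, 4, 3, 2, 5, 6, 1, 0, 2, 3], [6, 1, 0, 2, 3, 2, 1, 4, 3, 5, 6, 1], [6, 1, 2, 3, 2, 1, 0, 4, 3, 2, 3, 5, 1, 0, 1, 2]] (.nil) (.kid 1180 [[6, 1, 0, 2, 1, 3, 2, 4, 3, 2, 6, 5, 1, 0, 6], [6, 1, 2, 3, 2, 4, 3, 2, 5, 1, 0, 2, 1], [6, 1, 0, 2, 1, 3, 2, 1], [6, 1, 0, 1, 2, 3, 2, 1, 4, 3, 5, 6, 1, 2], [6, 1, 0, 1, 2, 3, 2, 1, 4, 3, 2, 5, 1, 6]] (suzZTree4) (.kid 1420 [[6, 1, 0, 1, 2, 3, 2, 4, 3,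 2, 1, 0, 1, 0, 2, 5], [6, 1, 0, 2, 3, 2, 1, 6, 5, 1, 2, 3, 2], [6, 1, 0, 2, 3, 2, 1, 4], [6, 1, 2, 3, 2, 1, 0, 4, 3, 2, 1, 3, 2], [6, 1, 0, 2, 1, 3, 2, 1, 3, 4, 3, 2, 3, 6]] (.nil) (.nil)))) (suzZTree2)))

/-- Part of the search for the image of `z`. -/
def suzZTree8 : Tree (List Verdict) := .kid 1229 [[6, 1, 0, 2, 3, 2, 1, 4, 3, 2, 1, 0, 3, 4, 5], [6, 1, 0, 2, 1, 3, 2, 1, 3, 4, 3, 2, 5, 1, 0], [6, 1, 0, 2, 1, 3, 2, 1, 3, 4, 3], [6, 1, 0, 1, 2, 1, 3, 2, 4, 3, 2, 5, 1, 2, 3, 2, 4], [6, 1, 0, 2, 1, 3, 2, 1, 4, 3, 2, 5, 1, 0, 6], [6, 1, 0, 2, 1, 3, 2, 4, 3, 5, 1, 2, 3, 6, 1, 2], [6, 1, 2, 3, 2, 4, 3, 2, 1, 0, 6, 1, 5], [6, 1, 0, 1, 2, 1, 3, 2, 4, 3, 2, 1], [6, 1, 2,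 3, 2, 1, 4, 3, 2, 3, 5, 1, 0, 1], [6, 1, 0, 2, 3, 2, 1, 4, 3, 2, 3, 5]] (.kid 808 [[6, 1, 0, 2, 1, 3, 2, 4, 3, 2, 1, 5, 1, 0], [6, 1, 2, 3, 2, 1, 4, 3, 2, 1, 3, 6, 5], [6, 1, 2, 3, 2, 1, 6, 5, 1, 2, 3, 6, 1], [6, 1, 2, 3, 2, 4, 3, 2, 1, 5, 1, 0, 1, 0, 2, 5], [6, 1, 0, 2, 1, 3, 2, 1, 4, 3, 2, 5, 1, 6], [6, 1, 0, 2, 3, 2, 1, 0, 4, 5, 1, 0], [6, 1, 2, 3, 2, 4, 3, 2, 1, 5, 1, 0, 1, 2, 3, 6], [6, 1, 0, 2, 1, 3, 2, 4, 3, 2, 1, 0, 1, 0, 5], [6, 1, 0, 2, 1, 3, 2, 1, 4, 3, 2, 5, 1, 6, 1, 0], [6, 1, 0, 2, 3, 2, 1, 4, 3, 2, 3, 5, 1, 6, 1, 5]] (.kid 1269 [[6, 1, 2, 3, 2, 1, 0, 4, 3, 2, 1, 0, 1, 3, 2], [6, 1, 0, 2, 1, 3, 2, 1, 4, 3, 2, 5, 1, 2], [6, 1, 2, 3, 2, 1, 0, 4, 3, 2,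 1, 3, 2, 4], [6, 1, 2, 3, 2, 1, 4, 3, 2, 1, 0, 3, 4, 5], [6, 1, 0, 1, 2, 3, 2, 4, 3, 2, 1, 6, 5, 1, 0, 2], [6, 1, 0, 2, 1, 3, 2, 1, 0, 4, 5, 1], [6, 1, 2, 3, 2, 1, 4, 6, 5, 1, 6], [6, 1, 2, 3, 2, 1, 4, 3, 2, 5, 6, 1, 5], [6, 1, 0, 2, 1, 3, 2, 1, 3, 4, 3, 5, 1, 2], [6, 1, 0, 2, 1, 3, 2, 1, 3, 4, 3, 2, 3, 4, 5, 1, 2]] (.leaf suzLeaf26) (.nil)) (.nil)) (.kid 1548 [[6, 1, 0, 2, 1, 3, 2, 4, 3, 5, 1, 2, 3, 6, 1, 2], [6, 1, 2, 3, 2, 4, 3, 2, 1, 0, 6, 1, 5], [6, 1, 0, 1, 2, 1, 3, 2, 4, 3, 2, 1], [6, 1, 2, 3, 2, 1, 4, 3, 2, 3, 5, 1, 0, 1], [6, 1, 0, 2, 3, 2, 1, 4, 3, 2, 3, 5], [6, 1, 0, 2, 3, 2, 1, 4, 3, 2, 1, 0, 3, 4, 5], [6, 1, 0, 2, 1, 3, 2, 1, 3, 4, 3, 2, 5, 1, 0], [6,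 1, 0, 2, 1, 3, 2, 1, 3, 4, 3], [6, 1, 0, 1, 2, 1, 3, 2, 4, 3, 2, 5, 1, 2, 3, 2, 4], [6, 1, 0, 2, 1, 3, 2, 1, 4, 3, 2, 5, 1, 0, 6]] (.kid 394 [[6, 1, 0, 2, 3, 2, 1, 0, 4, 5, 1, 0], [6, 1, 2, 3, 2, 4, 3, 2, 1, 5, 1, 0, 1, 2, 3, 6], [6, 1, 0, 2, 1, 3, 2, 4, 3, 2, 1, 0, 1, 0, 5], [6, 1, 0, 2, 1, 3, 2, 1, 4, 3, 2, 5, 1, 6, 1, 0], [6, 1, 0, 2, 3, 2, 1, 4, 3, 2, 3, 5, 1, 6, 1, 5], [6, 1, 0, 2, 1, 3, 2, 4, 3, 2, 1, 5, 1, 0], [6, 1, 2, 3, 2, 1, 4, 3, 2, 1, 3, 6, 5], [6, 1, 2, 3, 2, 1, 6, 5, 1, 2, 3, 6, 1], [6, 1, 2, 3, 2, 4, 3, 2, 1, 5, 1, 0, 1, 0, 2, 5], [6, 1, 0, 2, 1, 3, 2, 1, 4, 3, 2, 5, 1, 6]] (.kid 351 [[6, 1, 0, 2, 1, 3, 2, 1, 0, 4, 5, 1], [6, 1, 2, 3, 2, 1, 4, 6, 5,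 1, 6], [6, 1, 2, 3, 2, 1, 4, 3, 2, 5, 6, 1, 5], [6, 1, 0, 2, 1, 3, 2, 1, 3, 4, 3, 5, 1, 2], [6, 1, 0, 2, 1, 3, 2, 1, 3, 4, 3, 2, 3, 4, 5, 1, 2], [6, 1, 2, 3, 2, 1, 0, 4, 3, 2, 1, 0, 1, 3, 2], [6, 1, 0, 2, 1, 3, 2, 1, 4, 3, 2, 5, 1, 2], [6, 1, 2, 3, 2, 1, 0, 4, 3, 2, 1, 3, 2, 4], [6, 1, 2, 3, 2, 1, 4, 3, 2, 1, 0, 3, 4, 5], [6, 1, 0, 1, 2, 3, 2, 4, 3, 2, 1, 6, 5, 1, 0, 2]] (.leaf suzLeaf27) (.nil)) (.nil)) (.nil))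

/-- Part of the search for the image of `z`. -/
def suzZTree9 : Tree (List Verdict) := .kid 114 [[6, 1, 0, 2, 3, 2, 1, 4, 5], [6, 1, 0, 2, 1, 3, 2, 1, 4, 6], [6, 1, 0, 2, 3, 2, 1, 4, 3, 2, 3, 4], [6, 1, 0, 2, 1, 3, 2, 4, 3, 2, 1, 0, 1, 5, 1, 2], [6, 1, 2, 3, 2, 1, 0, 4, 3, 5, 1, 0, 1, 2, 3], [6, 1, 0, 2, 1, 3, 2, 1, 0, 1, 4], [6, 1, 0, 2, 3, 2, 1, 4, 3, 2, 1, 5, 1], [6, 1, 0, 2, 1, 3, 2, 1, 4, 3, 2, 5, 1, 6, 1], [6, 1, 2, 3, 2, 4, 3, 2, 1, 0, 5, 1, 0, 2, 1, 5], [6, 1, 0, 2, 1, 3, 2, 4, 3, 2, 6, 5, 1, 0, 2]] (.kid 280 [[6, 1, 0, 2, 3, 2, 4, 3, 2, 1, 0], [6, 1, 0, 2, 3, 2, 1, 0, 4, 3, 2, 3, 5, 1, 2, 3, 2], [6, 1, 0, 2, 1, 3, 2, 4, 3, 5, 1, 2, 3, 6, 1, 0], [6, 1, 0,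 2, 1, 3, 2, 4, 3, 2, 5, 1, 2, 3, 4], [6, 1, 2, 3, 2, 4, 3, 2, 1, 0], [6, 1, 0, 2, 3, 2, 1, 0, 4, 3, 5], [6, 1, 2, 3, 2, 1, 0, 4, 3, 2, 1, 5, 1], [6, 1, 0, 1, 2, 3, 2, 1, 4, 3, 2, 3, 2, 5], [6, 1, 0, 1, 2, 3, 2, 1, 4, 3, 2, 1, 0, 5, 1], [6, 1, 2, 3, 2, 1, 6, 5, 1]] (.kid 1122 [[6, 1, 0, 2, 1, 3, 2, 1, 4, 3, 2, 5, 6, 1, 0], [6, 1, 0, 2, 1, 3, 2, 1, 3, 4, 3, 2, 1, 0], [6, 1, 2, 3, 2, 1, 0, 4, 3, 2, 1, 6, 5, 1, 2], [6, 1, 0, 2, 3, 2, 4, 3, 2, 1, 0, 6], [6, 1, 0, 1, 2, 3, 2, 4, 3, 2, 1, 0, 1, 5, 1, 2], [6, 1, 0, 1, 2, 1, 3, 2, 1, 4, 3, 5, 1], [6, 1, 2, 3], [6, 1, 0, 2, 1, 3, 2, 4, 3, 2, 1, 0, 1, 5], [6, 1, 0, 2, 1, 3, 2, 4, 3, 5, 1, 2, 3], [6, 1, 0, 2, 1, 3, 2, 1, 4, 3,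 2, 1]] (.leaf suzLeaf24) (.nil)) (.nil)) (.kid 221 [[6, 1, 0, 2, 1, 3, 2, 1, 0, 1, 4], [6, 1, 0, 2, 3, 2, 1, 4, 3, 2, 1, 5, 1], [6, 1, 0, 2, 1, 3, 2, 1, 4, 3, 2, 5, 1, 6, 1], [6, 1, 2, 3, 2, 4, 3, 2, 1, 0, 5, 1, 0, 2, 1, 5], [6, 1, 0, 2, 1, 3, 2, 4, 3, 2, 6, 5, 1, 0, 2], [6, 1, 0, 2, 3, 2, 1, 4, 5], [6, 1, 0, 2, 1, 3, 2, 1, 4, 6], [6, 1, 0, 2, 3, 2, 1, 4, 3, 2, 3, 4], [6, 1, 0, 2, 1, 3, 2, 4, 3, 2, 1, 0, 1, 5, 1, 2], [6, 1, 2, 3, 2, 1, 0, 4, 3, 5, 1, 0, 1, 2, 3]] (.kid 262 [[6, 1, 0, 2, 3, 2, 1, 0, 4, 3, 5], [6, 1, 2, 3, 2, 1, 0, 4, 3, 2, 1, 5, 1], [6, 1, 0, 1, 2, 3, 2, 1, 4, 3, 2, 3, 2, 5], [6, 1, 0, 1, 2, 3, 2, 1, 4, 3, 2, 1, 0, 5, 1], [6, 1, 2, 3, 2, 1, 6, 5, 1],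 [6, 1, 0, 2, 3, 2, 4, 3, 2, 1, 0], [6, 1, 0, 2, 3, 2, 1, 0, 4, 3, 2, 3, 5, 1, 2, 3, 2], [6, 1, 0, 2, 1, 3, 2, 4, 3, 5, 1, 2, 3, 6, 1, 0], [6, 1, 0, 2, 1, 3, 2, 4, 3, 2, 5, 1, 2, 3, 4], [6, 1, 2, 3, 2, 4, 3, 2, 1, 0]] (.kid 489 [[6, 1, 0, 1, 2, 1, 3, 2, 1, 4, 3, 5, 1], [6, 1, 2, 3], [6, 1, 0, 2, 1, 3, 2, 4, 3, 2, 1, 0, 1, 5], [6, 1, 0, 2, 1, 3, 2, 4, 3, 5, 1, 2, 3], [6, 1, 0, 2, 1, 3, 2, 1, 4, 3, 2, 1], [6, 1, 0, 2, 1, 3, 2, 1, 4, 3, 2, 5, 6, 1, 0], [6, 1, 0, 2, 1, 3, 2, 1, 3, 4, 3, 2, 1, 0], [6, 1, 2, 3, 2, 1, 0, 4, 3, 2, 1, 6, 5, 1, 2], [6, 1, 0, 2, 3, 2, 4, 3, 2, 1, 0, 6], [6, 1, 0, 1, 2, 3, 2, 4, 3, 2, 1, 0, 1, 5, 1, 2]] (.leaf suzLeaf25) (.nil)) (.nil)) (suzZTree8))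

/-- Part of the search for the image of `z`. -/
def suzZTree10 : Tree (List Verdict) := .kid 1636 [[6, 1, 2, 3, 2, 4, 3, 2, 1, 0, 5, 1, 0, 2, 1, 5], [6, 1, 0, 2, 1, 3, 2, 4, 3, 2, 6, 5, 1, 0, 2], [6, 1, 0, 2, 3, 2, 1, 4, 5], [6, 1, 0, 2, 1, 3, 2, 1, 4, 6], [6, 1, 0, 2, 3, 2, 1, 4, 3, 2, 3, 4], [6, 1, 0, 2, 1, 3, 2, 4, 3, 2, 1, 0, 1, 5, 1, 2], [6, 1, 2, 3, 2, 1, 0, 4, 3, 5, 1, 0, 1, 2, 3], [6, 1, 0, 2, 1, 3, 2, 1, 0, 1, 4], [6, 1, 0, 2, 3, 2, 1, 4, 3, 2, 1, 5, 1], [6, 1, 0, 2, 1, 3, 2, 1, 4, 3, 2, 5, 1, 6, 1]] (.kid 1048 [[6, 1, 0, 1, 2, 3, 2, 1, 4, 3, 2, 1, 0, 5, 1], [6, 1, 2, 3, 2, 1, 6, 5, 1], [6, 1, 0, 2, 3, 2, 4, 3, 2, 1, 0], [6, 1, 0, 2, 3, 2, 1, 0, 4, 3, 2,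 3, 5, 1, 2, 3, 2], [6, 1, 0, 2, 1, 3, 2, 4, 3, 5, 1, 2, 3, 6, 1, 0], [6, 1, 0, 2, 1, 3, 2, 4, 3, 2, 5, 1, 2, 3, 4], [6, 1, 2, 3, 2, 4, 3, 2, 1, 0], [6, 1, 0, 2, 3, 2, 1, 0, 4, 3, 5], [6, 1, 2, 3, 2, 1, 0, 4, 3, 2, 1, 5, 1], [6, 1, 0, 1, 2, 3, 2, 1, 4, 3, 2, 3, 2, 5]] (.kid 563 [[6, 1, 0, 2, 1, 3, 2, 4, 3, 5, 1, 2, 3], [6, 1, 0, 2, 1, 3, 2, 1, 4, 3, 2, 1], [6, 1, 0, 2, 1, 3, 2, 1, 4, 3, 2, 5, 6, 1, 0], [6, 1, 0, 2, 1, 3, 2, 1, 3, 4, 3, 2, 1, 0], [6, 1, 2, 3, 2, 1, 0, 4, 3, 2, 1, 6, 5, 1, 2], [6, 1, 0, 2, 3, 2, 4, 3, 2, 1, 0, 6], [6, 1, 0, 1, 2, 3, 2, 4, 3, 2, 1, 0, 1, 5, 1, 2], [6, 1, 0, 1, 2, 1, 3, 2, 1, 4, 3, 5, 1], [6, 1, 2, 3], [6, 1, 0, 2, 1, 3, 2, 4, 3, 2, 1,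 0, 1, 5]] (.leaf suzLeaf22) (.nil)) (.nil)) (.kid 1672 [[6, 1, 0, 1, 2, 1, 3, 2, 4, 3, 2, 5, 1, 2, 3, 2, 4], [6, 1, 0, 2, 1, 3, 2, 1, 4, 3, 2, 5, 1, 0, 6], [6, 1, 0, 2, 1, 3, 2, 4, 3, 5, 1, 2, 3, 6, 1, 2], [6, 1, 2, 3, 2, 4, 3, 2, 1, 0, 6, 1, 5], [6, 1, 0, 1, 2, 1, 3, 2, 4, 3, 2, 1], [6, 1, 2, 3, 2, 1, 4, 3, 2, 3, 5, 1, 0, 1], [6, 1, 0, 2, 3, 2, 1, 4, 3, 2, 3, 5], [6, 1, 0, 2, 3, 2, 1, 4, 3, 2, 1, 0, 3, 4, 5], [6, 1, 0, 2, 1, 3, 2, 1, 3, 4, 3, 2, 5, 1, 0], [6, 1, 0, 2, 1, 3, 2, 1, 3, 4, 3]] (.kid 1643 [[6, 1, 2, 3, 2, 4, 3, 2, 1, 5, 1, 0, 1, 0, 2, 5], [6, 1, 0, 2, 1, 3, 2, 1, 4, 3, 2, 5, 1, 6], [6, 1, 0, 2, 3, 2, 1, 0, 4, 5, 1, 0], [6, 1, 2, 3, 2, 4, 3, 2, 1, 5, 1,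 0, 1, 2, 3, 6], [6, 1, 0, 2, 1, 3, 2, 4, 3, 2, 1, 0, 1, 0, 5], [6, 1, 0, 2, 1, 3, 2, 1, 4, 3, 2, 5, 1, 6, 1, 0], [6, 1, 0, 2, 3, 2, 1, 4, 3, 2, 3, 5, 1, 6, 1, 5], [6, 1, 0, 2, 1, 3, 2, 4, 3, 2, 1, 5, 1, 0], [6, 1, 2, 3, 2, 1, 4, 3, 2, 1, 3, 6, 5], [6, 1, 2, 3, 2, 1, 6, 5, 1, 2, 3, 6, 1]] (.kid 952 [[6, 1, 2, 3, 2, 1, 4, 3, 2, 1, 0, 3, 4, 5], [6, 1, 0, 1, 2, 3, 2, 4, 3, 2, 1, 6, 5, 1, 0, 2], [6, 1, 0, 2, 1, 3, 2, 1, 0, 4, 5, 1], [6, 1, 2, 3, 2, 1, 4, 6, 5, 1, 6], [6, 1, 2, 3, 2, 1, 4, 3, 2, 5, 6, 1, 5], [6, 1, 0, 2, 1, 3, 2, 1, 3, 4, 3, 5, 1, 2], [6, 1, 0, 2, 1, 3, 2, 1, 3, 4, 3, 2, 3, 4, 5, 1, 2], [6, 1, 2, 3, 2, 1, 0, 4, 3, 2, 1, 0, 1, 3, 2], [6, 1, 0, 2, 1, 3, 2,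 1, 4, 3, 2, 5, 1, 2], [6, 1, 2, 3, 2, 1, 0, 4, 3, 2, 1, 3, 2, 4]] (.leaf suzLeaf23) (.nil)) (.nil)) (.nil))

/-- Part of the search for the image of `z`. -/
def suzZTree11 : Tree (List Verdict) := .kid 977 [[6, 1, 2, 3, 2, 1, 4, 3, 2, 3, 5, 1, 0, 1], [6, 1, 0, 2, 3, 2, 1, 4, 3, 2, 3, 5], [6, 1, 0, 2, 3, 2, 1, 4, 3, 2, 1, 0, 3, 4, 5], [6, 1, 0, 2, 1, 3, 2, 1, 3, 4, 3, 2, 5, 1, 0], [6, 1, 0, 2, 1, 3, 2, 1, 3, 4, 3], [6, 1, 0, 1, 2, 1, 3, 2, 4, 3, 2, 5, 1, 2, 3, 2, 4], [6, 1, 0, 2, 1, 3, 2, 1, 4, 3, 2, 5, 1, 0, 6], [6, 1, 0, 2, 1, 3, 2, 4, 3, 5, 1, 2, 3, 6, 1, 2], [6, 1, 2, 3, 2, 4, 3, 2, 1, 0, 6, 1, 5], [6, 1, 0, 1, 2, 1, 3, 2, 4, 3, 2, 1]] (.kid 1465 [[6, 1, 0, 2,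 1, 3, 2, 1, 4, 3, 2, 5, 1, 6, 1, 0], [6, 1, 0, 2, 3, 2, 1, 4, 3, 2, 3, 5, 1, 6, 1, 5], [6, 1, 0, 2, 1, 3, 2, 4, 3, 2, 1, 5, 1, 0], [6, 1, 2, 3, 2, 1, 4, 3, 2, 1, 3, 6, 5], [6, 1, 2, 3, 2, 1, 6, 5, 1, 2, 3, 6, 1], [6, 1, 2, 3, 2, 4, 3, 2, 1, 5, 1, 0, 1, 0, 2, 5], [6, 1, 0, 2, 1, 3, 2, 1, 4, 3, 2, 5, 1, 6], [6, 1, 0, 2, 3, 2, 1, 0, 4, 5, 1, 0], [6, 1, 2, 3, 2, 4, 3, 2, 1, 5, 1, 0, 1, 2, 3, 6], [6, 1, 0, 2, 1, 3, 2, 4, 3, 2, 1, 0, 1, 0, 5]] (.kid 766 [[6, 1, 0, 2, 1, 3, 2, 1, 3, 4, 3, 5, 1, 2], [6, 1, 0, 2, 1, 3, 2, 1, 3, 4, 3, 2, 3, 4, 5, 1, 2], [6, 1, 2, 3, 2, 1, 0, 4, 3, 2, 1, 0, 1, 3, 2], [6, 1, 0, 2, 1, 3, 2, 1, 4, 3, 2, 5, 1, 2], [6, 1, 2, 3, 2, 1, 0, 4, 3, 2,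 1, 3, 2, 4], [6, 1, 2, 3, 2, 1, 4, 3, 2, 1, 0, 3, 4, 5], [6, 1, 0, 1, 2, 3, 2, 4, 3, 2, 1, 6, 5, 1, 0, 2], [6, 1, 0, 2, 1, 3, 2, 1, 0, 4, 5, 1], [6, 1, 2, 3, 2, 1, 4, 6, 5, 1, 6], [6, 1, 2, 3, 2, 1, 4, 3, 2, 5, 6, 1, 5]] (.leaf suzLeaf20) (.nil)) (.nil)) (.kid 1500 [[6, 1, 0, 2, 1, 3, 2, 4, 3, 2, 1, 0, 1, 5, 1, 2], [6, 1, 2, 3, 2, 1, 0, 4, 3, 5, 1, 0, 1, 2, 3], [6, 1, 0, 2, 1, 3, 2, 1, 0, 1, 4], [6, 1, 0, 2, 3, 2, 1, 4, 3, 2, 1, 5, 1], [6, 1, 0, 2, 1, 3, 2, 1, 4, 3, 2, 5, 1, 6, 1], [6, 1, 2, 3, 2, 4, 3, 2, 1, 0, 5, 1, 0, 2, 1, 5], [6, 1, 0, 2, 1, 3, 2, 4, 3, 2, 6, 5, 1, 0, 2], [6, 1, 0, 2, 3, 2, 1, 4, 5], [6, 1, 0, 2, 1, 3, 2, 1, 4, 6], [6, 1, 0, 2, 3, 2, 1, 4, 3,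 2, 3, 4]] (.kid 1168 [[6, 1, 0, 2, 1, 3, 2, 4, 3, 2, 5, 1, 2, 3, 4], [6, 1, 2, 3, 2, 4, 3, 2, 1, 0], [6, 1, 0, 2, 3, 2, 1, 0, 4, 3, 5], [6, 1, 2, 3, 2, 1, 0, 4, 3, 2, 1, 5, 1], [6, 1, 0, 1, 2, 3, 2, 1, 4, 3, 2, 3, 2, 5], [6, 1, 0, 1, 2, 3, 2, 1, 4, 3, 2, 1, 0, 5, 1], [6, 1, 2, 3, 2, 1, 6, 5, 1], [6, 1, 0, 2, 3, 2, 4, 3, 2, 1, 0], [6, 1, 0, 2, 3, 2, 1, 0, 4, 3, 2, 3, 5, 1, 2, 3, 2], [6, 1, 0, 2, 1, 3, 2, 4, 3, 5, 1, 2, 3, 6, 1, 0]] (.kid 419 [[6, 1, 0, 2, 3, 2, 4, 3, 2, 1, 0, 6], [6, 1, 0, 1, 2, 3, 2, 4, 3, 2, 1, 0, 1, 5, 1, 2], [6, 1, 0, 1, 2, 1, 3, 2, 1, 4, 3, 5, 1], [6, 1, 2, 3], [6, 1, 0, 2, 1, 3, 2, 4, 3, 2, 1, 0, 1, 5], [6, 1, 0, 2, 1, 3, 2, 4, 3, 5, 1, 2, 3],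 [6, 1, 0, 2, 1, 3, 2, 1, 4, 3, 2, 1], [6, 1, 0, 2, 1, 3, 2, 1, 4, 3, 2, 5, 6, 1, 0], [6, 1, 0, 2, 1, 3, 2, 1, 3, 4, 3, 2, 1, 0], [6, 1, 2, 3, 2, 1, 0, 4, 3, 2, 1, 6, 5, 1, 2]] (.leaf suzLeaf21) (.nil)) (.nil)) (suzZTree10))

/-- Part of the search for the image of `z`. -/
def suzZTree12 : Tree (List Verdict) := .kid 655 [[6, 1, 2, 3, 2, 1, 4, 3, 2, 1, 3, 2, 4], [6, 1, 0, 1, 2, 1, 3, 2, 4, 3, 5, 1, 2, 6, 1], [6, 1, 2, 3, 2, 1, 4, 3, 2, 3, 5, 1, 0], [6, 1, 2, 3, 2, 4, 3, 2, 1, 0, 5, 1, 6], [6, 1, 0, 1, 2, 1, 3, 2, 1, 4, 3, 2, 5, 1, 6, 5]] (.kid 737 [[6, 1, 0, 1, 2, 3, 2, 1, 4, 3, 2, 5, 1, 6], [6, 1, 0, 2, 1, 3, 2, 4, 3, 2, 6, 5, 1, 0, 6], [6, 1, 2, 3, 2, 4, 3, 2, 5,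 1, 0, 2, 1], [6, 1, 0, 2, 1, 3, 2, 1], [6, 1, 0, 1, 2, 3, 2, 1, 4, 3, 5, 6, 1, 2]] (suzZTree11) (.kid 761 [[6, 1, 0, 2, 1, 3, 2, 1, 3, 4, 3, 2, 3, 6], [6, 1, 0, 1, 2, 3, 2, 4, 3, 2, 1, 0, 1, 0, 2, 5], [6, 1, 0, 2, 3, 2, 1, 6, 5, 1, 2, 3, 2], [6, 1, 0, 2, 3, 2, 1, 4], [6, 1, 2, 3, 2, 1, 0, 4, 3, 2, 1, 3, 2]] (.nil) (.kid 1604 [[6, 1, 2, 3, 2, 1, 0, 4, 3, 2, 3, 5, 1, 0, 1, 2], [6, 1, 2, 3, 2, 1, 0, 4, 3, 2, 1, 0, 1, 3], [6, 1, 0, 2, 1, 3, 2, 4, 3, 2, 1, 0, 1, 0, 5, 1, 6], [6, 1, 2, 3, 2, 1, 4, 3, 2, 5, 6, 1, 0, 2, 3], [6, 1, 0, 2, 3, 2, 1, 4, 3, 5, 6, 1]] (.nil) (.nil)))) (.kid 671 [[6, 1, 2, 3, 2, 1, 4, 3, 2, 3, 5, 1, 0], [6, 1, 2, 3, 2, 4, 3, 2, 1, 0, 5, 1, 6], [6,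 1, 0, 1, 2, 1, 3, 2, 1, 4, 3, 2, 5, 1, 6, 5], [6, 1, 2, 3, 2, 1, 4, 3, 2, 1, 3, 2, 4], [6, 1, 0, 1, 2, 1, 3, 2, 4, 3, 5, 1, 2, 6, 1]] (.kid 614 [[6, 1, 0, 2, 3, 2, 1, 6, 5, 1, 2, 3, 2], [6, 1, 0, 2, 3, 2, 1, 4], [6, 1, 2, 3, 2, 1, 0, 4, 3, 2, 1, 3, 2], [6, 1, 0, 2, 1, 3, 2, 1, 3, 4, 3, 2, 3, 6], [6, 1, 0, 1, 2, 3, 2, 4, 3, 2, 1, 0, 1, 0, 2, 5]] (.nil) (.kid 707 [[6, 1, 2, 3, 2, 4, 3, 2, 5, 1, 0, 2, 1], [6, 1, 0, 2, 1, 3, 2, 1], [6, 1, 0, 1, 2, 3, 2, 1, 4, 3, 5, 6, 1, 2], [6, 1, 0, 1, 2, 3, 2, 1, 4, 3, 2, 5, 1, 6], [6, 1, 0, 2, 1, 3, 2, 4, 3, 2, 6, 5, 1, 0, 6]] (suzZTree9) (.kid 1715 [[6, 1, 0, 2, 1, 3, 2, 4, 3, 2, 1, 0, 1, 0, 5, 1, 6], [6, 1, 2, 3, 2, 1, 4, 3, 2,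 5, 6, 1, 0, 2, 3], [6, 1, 0, 2, 3, 2, 1, 4, 3, 5, 6, 1], [6, 1, 2, 3, 2, 1, 0, 4, 3, 2, 3, 5, 1, 0, 1, 2], [6, 1, 2, 3, 2, 1, 0, 4, 3, 2, 1, 0, 1, 3]] (.nil) (.nil)))) (suzZTree7))

/-- Part of the search for the image of `z`. -/
def suzZTree13 : Tree (List Verdict) := .kid 321 [[6, 1, 2, 3, 2, 4, 3, 2, 1, 0, 6], [6, 1, 0, 2, 1, 3, 2, 4, 3, 2, 1], [6, 1, 2, 3, 2, 1, 0, 4], [6, 1, 2, 3, 2, 1, 4, 3, 2, 5, 1, 0, 2, 1, 0], [6, 1, 2, 3, 2, 1, 4, 3, 2, 1, 0, 1, 3, 2, 6, 5], [6, 1, 0, 2, 1, 3, 2, 4, 3, 5, 1, 2, 3, 6, 1, 5], [6, 1, 2, 3, 2, 1, 0, 4, 3, 2, 6, 1, 5], [6, 1, 0, 2, 3, 2, 1, 4, 3, 2, 3, 4, 5, 1, 6, 1], [6, 1, 0, 2, 3, 2, 4, 3, 2, 1, 5, 6, 1, 2], [6, 1, 0, 2, 3,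 2, 1, 0, 4, 3, 2, 6]] (.kid 1532 [[6, 1, 0, 2, 1, 3, 2, 4, 3, 2, 6, 5, 1, 0, 2, 3], [6, 1, 2, 3, 2, 1, 4, 3, 2, 1, 3, 2, 4, 5, 6], [6, 1, 2, 3, 5, 1], [6, 1, 2, 3, 2, 4, 3, 2, 5, 1, 6, 5, 1, 0, 2], [6, 1, 2, 3, 2, 1, 4, 3, 2, 3, 5, 1, 0, 1, 2], [6, 1, 0, 1, 2, 1, 3], [6, 1, 2, 3, 2, 4, 3, 2, 1, 0, 5, 1, 0, 1, 2, 3], [6, 1, 2, 3, 2, 1, 4, 3, 2, 5, 6, 1, 0, 5], [6, 1, 0, 2, 3, 2, 1, 4, 3, 2, 3, 2, 1, 4, 3, 2], [6, 1, 0, 2, 3, 2, 1, 0, 4, 3, 2, 1, 6]] (.kid 1122 [[6, 1, 0, 2, 1, 3, 2, 1, 4, 3, 2, 5, 6, 1, 0], [6, 1, 0, 2, 1, 3, 2, 1, 3, 4, 3, 2, 1, 0], [6, 1, 2, 3, 2, 1, 0, 4, 3, 2, 1, 6, 5, 1, 2], [6, 1, 0, 2, 3, 2, 4, 3, 2, 1, 0, 6], [6, 1, 0, 1, 2, 3, 2, 4, 3, 2,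 1, 0, 1, 5, 1, 2], [6, 1, 0, 1, 2, 1, 3, 2, 1, 4, 3, 5, 1], [6, 1, 2, 3], [6, 1, 0, 2, 1, 3, 2, 4, 3, 2, 1, 0, 1, 5], [6, 1, 0, 2, 1, 3, 2, 4, 3, 5, 1, 2, 3], [6, 1, 0, 2, 1, 3, 2, 1, 4, 3, 2, 1]] (.leaf suzLeaf18) (.nil)) (.nil)) (.kid 1549 [[6, 1, 0, 2, 1, 3, 2, 4, 3, 5, 1, 2, 3, 6, 1, 5], [6, 1, 2, 3, 2, 1, 0, 4, 3, 2, 6, 1, 5], [6, 1, 0, 2, 3, 2, 1, 4, 3, 2, 3, 4, 5, 1, 6, 1], [6, 1, 0, 2, 3, 2, 4, 3, 2, 1, 5, 6, 1, 2], [6, 1, 0, 2, 3, 2, 1, 0, 4, 3, 2, 6], [6, 1, 2, 3, 2, 4, 3, 2, 1, 0, 6], [6, 1, 0, 2, 1, 3, 2, 4, 3, 2, 1], [6, 1, 2, 3, 2, 1, 0, 4], [6, 1, 2, 3, 2, 1, 4, 3, 2, 5, 1, 0, 2, 1, 0], [6, 1, 2, 3, 2, 1, 4, 3, 2, 1, 0, 1, 3, 2, 6, 5]] (.kid 31 [[6,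 1, 0, 1, 2, 1, 3], [6, 1, 2, 3, 2, 4, 3, 2, 1, 0, 5, 1, 0, 1, 2, 3], [6, 1, 2, 3, 2, 1, 4, 3, 2, 5, 6, 1, 0, 5], [6, 1, 0, 2, 3, 2, 1, 4, 3, 2, 3, 2, 1, 4, 3, 2], [6, 1, 0, 2, 3, 2, 1, 0, 4, 3, 2, 1, 6], [6, 1, 0, 2, 1, 3, 2, 4, 3, 2, 6, 5, 1, 0, 2, 3], [6, 1, 2, 3, 2, 1, 4, 3, 2, 1, 3, 2, 4, 5, 6], [6, 1, 2, 3, 5, 1], [6, 1, 2, 3, 2, 4, 3, 2, 5, 1, 6, 5, 1, 0, 2], [6, 1, 2, 3, 2, 1, 4, 3, 2, 3, 5, 1, 0, 1, 2]] (.kid 489 [[6, 1, 0, 1, 2, 1, 3, 2, 1, 4, 3, 5, 1], [6, 1, 2, 3], [6, 1, 0, 2, 1, 3, 2, 4, 3, 2, 1, 0, 1, 5], [6, 1, 0, 2, 1, 3, 2, 4, 3, 5, 1, 2, 3], [6, 1, 0, 2, 1, 3, 2, 1, 4, 3, 2, 1], [6, 1, 0, 2, 1, 3, 2, 1, 4, 3, 2, 5, 6, 1, 0], [6, 1, 0, 2, 1, 3, 2,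 1, 3, 4, 3, 2, 1, 0], [6, 1, 2, 3, 2, 1, 0, 4, 3, 2, 1, 6, 5, 1, 2], [6, 1, 0, 2, 3, 2, 4, 3, 2, 1, 0, 6], [6, 1, 0, 1, 2, 3, 2, 4, 3, 2, 1, 0, 1, 5, 1, 2]] (.leaf suzLeaf19) (.nil)) (.nil)) (.nil))

/-- Part of the search for the image of `z`. -/
def suzZTree14 : Tree (List Verdict) := .kid 77 [[6, 1, 2, 3, 2, 1, 4, 3], [6, 1, 0, 2, 3, 2, 1, 4, 3, 2, 3, 5, 1, 6], [6, 1, 2, 3, 2, 1, 4, 3, 2, 1, 0, 1, 3, 2, 1], [6, 1, 0, 2, 1, 3, 2, 4, 3, 5, 1, 0, 2, 1, 3, 2], [6, 1, 2, 3, 2, 1, 4, 3, 2, 1, 5, 1, 0, 2], [6, 1, 0, 2, 3, 2, 1, 4, 3, 6], [6, 1, 0, 2, 1, 3, 2, 1, 0, 4, 3, 5], [6, 1, 2, 3, 2, 1, 0], [6, 1, 0, 2, 1, 3, 2, 4, 3, 2, 6, 1, 5, 1, 0, 1], [6, 1, 0, 1, 2, 1, 3,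 2, 4, 3, 5, 1, 2]] (.kid 172 [[6, 1, 0, 2, 3, 2, 1, 0, 4, 6], [6, 1, 0, 2, 1, 3, 2, 4, 3, 2, 1, 6, 1, 5, 1], [6, 1, 2, 3, 2, 1, 0, 5, 1, 6], [6, 1, 0, 1, 2, 3, 2, 1, 4, 3, 2, 1, 0, 1, 5, 1, 2], [6, 1, 0, 1, 2, 3, 2, 4, 3, 2], [6, 1, 2, 3, 2, 1, 4, 3, 2, 1, 3, 4], [6, 1, 0, 2, 3, 2, 1, 0, 4, 3, 2, 5, 1, 0, 2, 3, 2], [6, 1, 2, 3, 2, 1, 4, 3, 2, 5, 1, 0, 2, 6, 1], [6, 1, 0, 2, 1, 3, 2, 3, 4, 3, 2, 5, 1, 2, 3, 4], [6, 1, 0, 2, 3, 2, 1, 4, 3, 2, 1, 3, 4]] (.kid 351 [[6, 1, 0, 2, 1, 3, 2, 1, 0, 4, 5, 1], [6, 1, 2, 3, 2, 1, 4, 6, 5, 1, 6], [6, 1, 2, 3, 2, 1, 4, 3, 2, 5, 6, 1, 5], [6, 1, 0, 2, 1, 3, 2, 1, 3, 4, 3, 5, 1, 2], [6, 1, 0, 2, 1, 3, 2, 1, 3, 4, 3, 2, 3, 4, 5, 1,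 2], [6, 1, 2, 3, 2, 1, 0, 4, 3, 2, 1, 0, 1, 3, 2], [6, 1, 0, 2, 1, 3, 2, 1, 4, 3, 2, 5, 1, 2], [6, 1, 2, 3, 2, 1, 0, 4, 3, 2, 1, 3, 2, 4], [6, 1, 2, 3, 2, 1, 4, 3, 2, 1, 0, 3, 4, 5], [6, 1, 0, 1, 2, 3, 2, 4, 3, 2, 1, 6, 5, 1, 0, 2]] (.leaf suzLeaf16) (.nil)) (.nil)) (.kid 176 [[6, 1, 0, 2, 3, 2, 1, 4, 3, 6], [6, 1, 0, 2, 1, 3, 2, 1, 0, 4, 3, 5], [6, 1, 2, 3, 2, 1, 0], [6, 1, 0, 2, 1, 3, 2, 4, 3, 2, 6, 1, 5, 1, 0, 1], [6, 1, 0, 1, 2, 1, 3, 2, 4, 3, 5, 1, 2], [6, 1, 2, 3, 2, 1, 4, 3], [6, 1, 0, 2, 3, 2, 1, 4, 3, 2, 3, 5, 1, 6], [6, 1, 2, 3, 2, 1, 4, 3, 2, 1, 0, 1, 3, 2, 1], [6, 1, 0, 2, 1, 3, 2, 4, 3, 5, 1, 0, 2, 1, 3, 2], [6, 1, 2, 3, 2, 1, 4, 3, 2, 1, 5, 1, 0, 2]]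 (.kid 445 [[6, 1, 2, 3, 2, 1, 4, 3, 2, 1, 3, 4], [6, 1, 0, 2, 3, 2, 1, 0, 4, 3, 2, 5, 1, 0, 2, 3, 2], [6, 1, 2, 3, 2, 1, 4, 3, 2, 5, 1, 0, 2, 6, 1], [6, 1, 0, 2, 1, 3, 2, 3, 4, 3, 2, 5, 1, 2, 3, 4], [6, 1, 0, 2, 3, 2, 1, 4, 3, 2, 1, 3, 4], [6, 1, 0, 2, 3, 2, 1, 0, 4, 6], [6, 1, 0, 2, 1, 3, 2, 4, 3, 2, 1, 6, 1, 5, 1], [6, 1, 2, 3, 2, 1, 0, 5, 1, 6], [6, 1, 0, 1, 2, 3, 2, 1, 4, 3, 2, 1, 0, 1, 5, 1, 2], [6, 1, 0, 1, 2, 3, 2, 4, 3, 2]] (.kid 1269 [[6, 1, 2, 3, 2, 1, 0, 4, 3, 2, 1, 0, 1, 3, 2], [6, 1, 0, 2, 1, 3, 2, 1, 4, 3, 2, 5, 1, 2], [6, 1, 2, 3, 2, 1, 0, 4, 3, 2, 1, 3, 2, 4], [6, 1, 2, 3, 2, 1, 4, 3, 2, 1, 0, 3, 4, 5], [6, 1, 0, 1, 2, 3, 2, 4, 3, 2, 1, 6, 5, 1, 0,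 2], [6, 1, 0, 2, 1, 3, 2, 1, 0, 4, 5, 1], [6, 1, 2, 3, 2, 1, 4, 6, 5, 1, 6], [6, 1, 2, 3, 2, 1, 4, 3, 2, 5, 6, 1, 5], [6, 1, 0, 2, 1, 3, 2, 1, 3, 4, 3, 5, 1, 2], [6, 1, 0, 2, 1, 3, 2, 1, 3, 4, 3, 2, 3, 4, 5, 1, 2]] (.leaf suzLeaf17) (.nil)) (.nil)) (suzZTree13))

/-- Part of the search for the image of `z`. -/
def suzZTree15 : Tree (List Verdict) := .kid 967 [[6, 1, 2, 3, 2, 1, 4, 3, 2, 1, 5, 1, 0, 2], [6, 1, 0, 2, 3, 2, 1, 4, 3, 6], [6, 1, 0, 2, 1, 3, 2, 1, 0, 4, 3, 5], [6, 1, 2, 3, 2, 1, 0], [6, 1, 0, 2, 1, 3, 2, 4, 3, 2, 6, 1, 5, 1, 0, 1], [6, 1, 0, 1, 2, 1, 3, 2, 4, 3, 5, 1, 2], [6, 1, 2, 3, 2, 1, 4, 3], [6, 1, 0, 2, 3, 2, 1, 4, 3, 2, 3, 5, 1, 6], [6, 1, 2, 3,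 2, 1, 4, 3, 2, 1, 0, 1, 3, 2, 1], [6, 1, 0, 2, 1, 3, 2, 4, 3, 5, 1, 0, 2, 1, 3, 2]] (.kid 142 [[6, 1, 0, 1, 2, 3, 2, 4, 3, 2], [6, 1, 2, 3, 2, 1, 4, 3, 2, 1, 3, 4], [6, 1, 0, 2, 3, 2, 1, 0, 4, 3, 2, 5, 1, 0, 2, 3, 2], [6, 1, 2, 3, 2, 1, 4, 3, 2, 5, 1, 0, 2, 6, 1], [6, 1, 0, 2, 1, 3, 2, 3, 4, 3, 2, 5, 1, 2, 3, 4], [6, 1, 0, 2, 3, 2, 1, 4, 3, 2, 1, 3, 4], [6, 1, 0, 2, 3, 2, 1, 0, 4, 6], [6, 1, 0, 2, 1, 3, 2, 4, 3, 2, 1, 6, 1, 5, 1], [6, 1, 2, 3, 2, 1, 0, 5, 1, 6], [6, 1, 0, 1, 2, 3, 2, 1, 4, 3, 2, 1, 0, 1, 5, 1, 2]] (.kid 1694 [[6, 1, 0, 2, 1, 3, 2, 1, 3, 4, 3, 2, 3, 4, 5, 1, 2], [6, 1, 2, 3, 2, 1, 0, 4, 3, 2, 1, 0, 1, 3, 2], [6, 1, 0, 2, 1, 3, 2, 1, 4, 3, 2, 5, 1,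 2], [6, 1, 2, 3, 2, 1, 0, 4, 3, 2, 1, 3, 2, 4], [6, 1, 2, 3, 2, 1, 4, 3, 2, 1, 0, 3, 4, 5], [6, 1, 0, 1, 2, 3, 2, 4, 3, 2, 1, 6, 5, 1, 0, 2], [6, 1, 0, 2, 1, 3, 2, 1, 0, 4, 5, 1], [6, 1, 2, 3, 2, 1, 4, 6, 5, 1, 6], [6, 1, 2, 3, 2, 1, 4, 3, 2, 5, 6, 1, 5], [6, 1, 0, 2, 1, 3, 2, 1, 3, 4, 3, 5, 1, 2]] (.leaf suzLeaf14) (.nil)) (.nil)) (.kid 1613 [[6, 1, 2, 3, 2, 1, 4, 3, 2, 1, 0, 1, 3, 2, 6, 5], [6, 1, 0, 2, 1, 3, 2, 4, 3, 5, 1, 2, 3, 6, 1, 5], [6, 1, 2, 3, 2, 1, 0, 4, 3, 2, 6, 1, 5], [6, 1, 0, 2, 3, 2, 1, 4, 3, 2, 3, 4, 5, 1, 6, 1], [6, 1, 0, 2, 3, 2, 4, 3, 2, 1, 5, 6, 1, 2], [6, 1, 0, 2, 3, 2, 1, 0, 4, 3, 2, 6], [6, 1, 2, 3, 2, 4, 3, 2, 1, 0, 6], [6, 1, 0, 2, 1, 3,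 2, 4, 3, 2, 1], [6, 1, 2, 3, 2, 1, 0, 4], [6, 1, 2, 3, 2, 1, 4, 3, 2, 5, 1, 0, 2, 1, 0]] (.kid 1329 [[6, 1, 2, 3, 2, 1, 4, 3, 2, 3, 5, 1, 0, 1, 2], [6, 1, 0, 1, 2, 1, 3], [6, 1, 2, 3, 2, 4, 3, 2, 1, 0, 5, 1, 0, 1, 2, 3], [6, 1, 2, 3, 2, 1, 4, 3, 2, 5, 6, 1, 0, 5], [6, 1, 0, 2, 3, 2, 1, 4, 3, 2, 3, 2, 1, 4, 3, 2], [6, 1, 0, 2, 3, 2, 1, 0, 4, 3, 2, 1, 6], [6, 1, 0, 2, 1, 3, 2, 4, 3, 2, 6, 5, 1, 0, 2, 3], [6, 1, 2, 3, 2, 1, 4, 3, 2, 1, 3, 2, 4, 5, 6], [6, 1, 2, 3, 5, 1], [6, 1, 2, 3, 2, 4, 3, 2, 5, 1, 6, 5, 1, 0, 2]] (.kid 1423 [[6, 1, 0, 1, 2, 3, 2, 4, 3, 2, 1, 0, 1, 5, 1, 2], [6, 1, 0, 1, 2, 1, 3, 2, 1, 4, 3, 5, 1], [6, 1, 2, 3], [6, 1, 0, 2, 1, 3, 2, 4, 3, 2, 1, 0,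 1, 5], [6, 1, 0, 2, 1, 3, 2, 4, 3, 5, 1, 2, 3], [6, 1, 0, 2, 1, 3, 2, 1, 4, 3, 2, 1], [6, 1, 0, 2, 1, 3, 2, 1, 4, 3, 2, 5, 6, 1, 0], [6, 1, 0, 2, 1, 3, 2, 1, 3, 4, 3, 2, 1, 0], [6, 1, 2, 3, 2, 1, 0, 4, 3, 2, 1, 6, 5, 1, 2], [6, 1, 0, 2, 3, 2, 4, 3, 2, 1, 0, 6]] (.leaf suzLeaf15) (.nil)) (.nil)) (.nil))

/-- Part of the search for the image of `z`. -/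
def suzZTree16 : Tree (List Verdict) := .kid 392 [[6, 1, 0, 2, 3, 2, 1, 0, 4, 3, 2, 6], [6, 1, 2, 3, 2, 4, 3, 2, 1, 0, 6], [6, 1, 0, 2, 1, 3, 2, 4, 3, 2, 1], [6, 1, 2, 3, 2, 1, 0, 4], [6, 1, 2, 3, 2, 1, 4, 3, 2, 5, 1, 0, 2, 1, 0], [6, 1, 2, 3, 2, 1, 4, 3, 2, 1, 0, 1, 3, 2, 6, 5], [6, 1, 0, 2, 1, 3, 2, 4, 3, 5, 1, 2, 3, 6, 1, 5], [6, 1, 2, 3, 2, 1, 0, 4, 3, 2, 6, 1, 5], [6, 1, 0, 2, 3, 2, 1, 4, 3, 2, 3, 4, 5, 1, 6, 1], [6, 1, 0, 2, 3, 2, 4, 3, 2, 1, 5, 6, 1, 2]] (.kid 573 [[6, 1, 0, 2, 3, 2, 1, 0, 4, 3, 2, 1, 6], [6, 1, 0, 2, 1, 3, 2, 4, 3, 2, 6, 5, 1, 0, 2, 3], [6, 1, 2, 3, 2, 1, 4, 3, 2, 1, 3, 2, 4, 5, 6], [6, 1, 2, 3, 5, 1], [6, 1, 2, 3, 2, 4, 3, 2, 5, 1, 6, 5,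 1, 0, 2], [6, 1, 2, 3, 2, 1, 4, 3, 2, 3, 5, 1, 0, 1, 2], [6, 1, 0, 1, 2, 1, 3], [6, 1, 2, 3, 2, 4, 3, 2, 1, 0, 5, 1, 0, 1, 2, 3], [6, 1, 2, 3, 2, 1, 4, 3, 2, 5, 6, 1, 0, 5], [6, 1, 0, 2, 3, 2, 1, 4, 3, 2, 3, 2, 1, 4, 3, 2]] (.kid 359 [[6, 1, 0, 2, 1, 3, 2, 1, 4, 3, 2, 1], [6, 1, 0, 2, 1, 3, 2, 1, 4, 3, 2, 5, 6, 1, 0], [6, 1, 0, 2, 1, 3, 2, 1, 3, 4, 3, 2, 1, 0], [6, 1, 2, 3, 2, 1, 0, 4, 3, 2, 1, 6, 5, 1, 2], [6, 1, 0, 2, 3, 2, 4, 3, 2, 1, 0, 6], [6, 1, 0, 1, 2, 3, 2, 4, 3, 2, 1, 0, 1, 5, 1, 2], [6, 1, 0, 1, 2, 1, 3, 2, 1, 4, 3, 5, 1], [6, 1, 2, 3], [6, 1, 0, 2, 1, 3, 2, 4, 3, 2, 1, 0, 1, 5], [6, 1, 0, 2, 1, 3, 2, 4, 3, 5, 1, 2, 3]] (.leaf suzLeaf12) (.nil)) (.nil))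 (.kid 495 [[6, 1, 0, 1, 2, 1, 3, 2, 4, 3, 5, 1, 2], [6, 1, 2, 3, 2, 1, 4, 3], [6, 1, 0, 2, 3, 2, 1, 4, 3, 2, 3, 5, 1, 6], [6, 1, 2, 3, 2, 1, 4, 3, 2, 1, 0, 1, 3, 2, 1], [6, 1, 0, 2, 1, 3, 2, 4, 3, 5, 1, 0, 2, 1, 3, 2], [6, 1, 2, 3, 2, 1, 4, 3, 2, 1, 5, 1, 0, 2], [6, 1, 0, 2, 3, 2, 1, 4, 3, 6], [6, 1, 0, 2, 1, 3, 2, 1, 0, 4, 3, 5], [6, 1, 2, 3, 2, 1, 0], [6, 1, 0, 2, 1, 3, 2, 4, 3, 2, 6, 1, 5, 1, 0, 1]] (.kid 588 [[6, 1, 0, 2, 3, 2, 1, 4, 3, 2, 1, 3, 4], [6, 1, 0, 2, 3, 2, 1, 0, 4, 6], [6, 1, 0, 2, 1, 3, 2, 4, 3, 2, 1, 6, 1, 5, 1], [6, 1, 2, 3, 2, 1, 0, 5, 1, 6], [6, 1, 0, 1, 2, 3, 2, 1, 4, 3, 2, 1, 0, 1, 5, 1, 2], [6, 1, 0, 1, 2, 3, 2, 4, 3, 2], [6, 1, 2, 3, 2, 1,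 4, 3, 2, 1, 3, 4], [6, 1, 0, 2, 3, 2, 1, 0, 4, 3, 2, 5, 1, 0, 2, 3, 2], [6, 1, 2, 3, 2, 1, 4, 3, 2, 5, 1, 0, 2, 6, 1], [6, 1, 0, 2, 1, 3, 2, 3, 4, 3, 2, 5, 1, 2, 3, 4]] (.kid 1427 [[6, 1, 0, 1, 2, 3, 2, 4, 3, 2, 1, 6, 5, 1, 0, 2], [6, 1, 0, 2, 1, 3, 2, 1, 0, 4, 5, 1], [6, 1, 2, 3, 2, 1, 4, 6, 5, 1, 6], [6, 1, 2, 3, 2, 1, 4, 3, 2, 5, 6, 1, 5], [6, 1, 0, 2, 1, 3, 2, 1, 3, 4, 3, 5, 1, 2], [6, 1, 0, 2, 1, 3, 2, 1, 3, 4, 3, 2, 3, 4, 5, 1, 2], [6, 1, 2, 3, 2, 1, 0, 4, 3, 2, 1, 0, 1, 3, 2], [6, 1, 0, 2, 1, 3, 2, 1, 4, 3, 2, 5, 1, 2], [6, 1, 2, 3, 2, 1, 0, 4, 3, 2, 1, 3, 2, 4], [6, 1, 2, 3, 2, 1, 4, 3, 2, 1, 0, 3, 4, 5]] (.leaf suzLeaf13) (.nil)) (.nil)) (suzZTree15))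

/-- Part of the search for the image of `z`. -/
def suzZTree17 : Tree (List Verdict) := .kid 1170 [[6, 1, 0, 2, 1, 3, 2, 4, 3, 2, 5, 1, 2, 6, 1], [6, 1, 0, 2, 1, 3, 2, 4, 3, 2, 1, 6, 5, 1, 0, 2, 3], [6, 1, 0, 2, 1, 3, 2, 3, 4, 3, 2, 1, 3, 6, 5], [6, 1, 0, 1, 2, 1, 3, 2, 1, 4, 3, 2, 3, 5, 1], [6, 1, 2, 3, 2, 1, 4, 3, 2, 1, 3]] (.kid 586 [[6, 1, 0, 2, 3, 2, 1, 4, 3, 2, 1, 0, 6], [6, 1, 0, 1, 2, 3, 4], [6, 1, 0, 2, 3, 2, 1, 0, 4, 3], [6, 1, 2, 3, 2, 4, 3, 2, 1, 5, 6, 1, 2, 5, 1, 0, 6], [6, 1, 2, 3, 2, 1, 0, 4, 3, 2, 5]] (.nil) (.kid 1165 [[6, 1, 0, 2, 1, 3, 2, 4, 3, 2, 5, 1, 0, 2, 3], [6, 1, 2, 3, 2, 1, 4, 3, 2, 1, 3, 2, 5, 1, 2], [6, 1, 0, 2, 3, 2, 1, 4, 3, 2, 3, 2,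 4, 3], [6, 1, 0, 2, 1, 3, 2, 3], [6, 1, 0, 1, 2, 3, 2, 1, 4, 3, 2, 1, 3, 5, 1, 0]] (suzZTree16) (.kid 1307 [[6, 1, 2, 3, 2, 1, 4, 3, 2, 1, 3, 2, 5, 6, 1], [6, 1, 2, 3, 2, 4, 3, 2, 1, 5, 1, 0, 1, 0, 5], [6, 1, 0, 2, 3, 2, 1, 0, 4, 3, 2, 1, 3, 4, 5], [6, 1, 0, 2, 1, 5], [6, 1, 0, 2, 1, 3, 2, 1, 4, 3, 2, 1, 6]] (.nil) (.nil)))) (.kid 1381 [[6, 1, 0, 1, 2, 1, 3, 2, 1, 4, 3, 2, 5, 1, 6, 5], [6, 1, 2, 3, 2, 1, 4, 3, 2, 1, 3, 2, 4], [6, 1, 0, 1, 2, 1, 3, 2, 4, 3, 5, 1, 2, 6, 1], [6, 1, 2, 3, 2, 1, 4, 3, 2, 3, 5, 1, 0], [6, 1, 2, 3, 2, 4, 3, 2, 1, 0, 5, 1, 6]] (.nil) (.kid 1718 [[6, 1, 0, 2, 1, 3, 2, 4, 3, 2, 1, 6, 5, 1, 0, 2, 3], [6, 1, 0, 2, 1, 3, 2, 3, 4, 3, 2, 1, 3, 6,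 5], [6, 1, 0, 1, 2, 1, 3, 2, 1, 4, 3, 2, 3, 5, 1], [6, 1, 2, 3, 2, 1, 4, 3, 2, 1, 3], [6, 1, 0, 2, 1, 3, 2, 4, 3, 2, 5, 1, 2, 6, 1]] (.kid 34 [[6, 1, 0, 1, 2, 3, 4], [6, 1, 0, 2, 3, 2, 1, 0, 4, 3], [6, 1, 2, 3, 2, 4, 3, 2, 1, 5, 6, 1, 2, 5, 1, 0, 6], [6, 1, 2, 3, 2, 1, 0, 4, 3, 2, 5], [6, 1, 0, 2, 3, 2, 1, 4, 3, 2, 1, 0, 6]] (.nil) (.kid 1306 [[6, 1, 2, 3, 2, 1, 4, 3, 2, 1, 3, 2, 5, 1, 2], [6, 1, 0, 2, 3, 2, 1, 4, 3, 2, 3, 2, 4, 3], [6, 1, 0, 2, 1, 3, 2, 3], [6, 1, 0, 1, 2, 3, 2, 1, 4, 3, 2, 1, 3, 5, 1, 0], [6, 1, 0, 2, 1, 3, 2, 4, 3, 2, 5, 1, 0, 2, 3]] (suzZTree14) (.kid 1355 [[6, 1, 2, 3, 2, 4, 3, 2, 1, 5, 1, 0, 1, 0, 5], [6, 1, 0, 2, 3, 2, 1, 0, 4, 3, 2, 1, 3,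 4, 5], [6, 1, 0, 2, 1, 5], [6, 1, 0, 2, 1, 3, 2, 1, 4, 3, 2, 1, 6], [6, 1, 2, 3, 2, 1, 4, 3, 2, 1, 3, 2, 5, 6, 1]] (.nil) (.nil)))) (.nil)))

/-- Part of the search for the image of `z`. -/
def suzZTree18 : Tree (List Verdict) := .kid 639 [[6, 1, 2, 3, 2, 1, 0, 4, 3, 2, 6, 1, 5], [6, 1, 0, 2, 3, 2, 1, 4, 3, 2, 3, 4, 5, 1, 6, 1], [6, 1, 0, 2, 3, 2, 4, 3, 2, 1, 5, 6, 1, 2], [6, 1, 0, 2, 3, 2, 1, 0, 4, 3, 2, 6], [6, 1, 2, 3, 2, 4, 3, 2, 1, 0, 6], [6, 1, 0, 2, 1, 3, 2, 4, 3, 2, 1], [6, 1, 2, 3, 2, 1, 0, 4], [6, 1, 2, 3, 2, 1, 4, 3, 2, 5, 1, 0, 2, 1, 0], [6, 1, 2, 3, 2, 1, 4, 3, 2, 1, 0, 1, 3, 2, 6, 5], [6, 1, 0, 2, 1, 3, 2, 4, 3, 5, 1, 2, 3, 6, 1, 5]] (.kid 1634 [[6,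 1, 2, 3, 2, 4, 3, 2, 1, 0, 5, 1, 0, 1, 2, 3], [6, 1, 2, 3, 2, 1, 4, 3, 2, 5, 6, 1, 0, 5], [6, 1, 0, 2, 3, 2, 1, 4, 3, 2, 3, 2, 1, 4, 3, 2], [6, 1, 0, 2, 3, 2, 1, 0, 4, 3, 2, 1, 6], [6, 1, 0, 2, 1, 3, 2, 4, 3, 2, 6, 5, 1, 0, 2, 3], [6, 1, 2, 3, 2, 1, 4, 3, 2, 1, 3, 2, 4, 5, 6], [6, 1, 2, 3, 5, 1], [6, 1, 2, 3, 2, 4, 3, 2, 5, 1, 6, 5, 1, 0, 2], [6, 1, 2, 3, 2, 1, 4, 3, 2, 3, 5, 1, 0, 1, 2], [6, 1, 0, 1, 2, 1, 3]] (.kid 8 [[6, 1, 2, 3], [6, 1, 0, 2, 1, 3, 2, 4, 3, 2, 1, 0, 1, 5], [6, 1, 0, 2, 1, 3, 2, 4, 3, 5, 1, 2, 3], [6, 1, 0, 2, 1, 3, 2, 1, 4, 3, 2, 1], [6, 1, 0, 2, 1, 3, 2, 1, 4, 3, 2, 5, 6, 1, 0], [6, 1, 0, 2, 1, 3, 2, 1, 3, 4, 3, 2, 1, 0], [6, 1, 2, 3, 2, 1, 0,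 4, 3, 2, 1, 6, 5, 1, 2], [6, 1, 0, 2, 3, 2, 4, 3, 2, 1, 0, 6], [6, 1, 0, 1, 2, 3, 2, 4, 3, 2, 1, 0, 1, 5, 1, 2], [6, 1, 0, 1, 2, 1, 3, 2, 1, 4, 3, 5, 1]] (.leaf suzLeaf10) (.nil)) (.nil)) (.kid 888 [[6, 1, 0, 2, 3, 2, 1, 4, 3, 2, 3, 5, 1, 6], [6, 1, 2, 3, 2, 1, 4, 3, 2, 1, 0, 1, 3, 2, 1], [6, 1, 0, 2, 1, 3, 2, 4, 3, 5, 1, 0, 2, 1, 3, 2], [6, 1, 2, 3, 2, 1, 4, 3, 2, 1, 5, 1, 0, 2], [6, 1, 0, 2, 3, 2, 1, 4, 3, 6], [6, 1, 0, 2, 1, 3, 2, 1, 0, 4, 3, 5], [6, 1, 2, 3, 2, 1, 0], [6, 1, 0, 2, 1, 3, 2, 4, 3, 2, 6, 1, 5, 1, 0, 1], [6, 1, 0, 1, 2, 1, 3, 2, 4, 3, 5, 1, 2], [6, 1, 2, 3, 2, 1, 4, 3]] (.kid 1157 [[6, 1, 0, 2, 1, 3, 2, 4, 3, 2, 1, 6, 1, 5, 1], [6, 1, 2, 3, 2, 1,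 0, 5, 1, 6], [6, 1, 0, 1, 2, 3, 2, 1, 4, 3, 2, 1, 0, 1, 5, 1, 2], [6, 1, 0, 1, 2, 3, 2, 4, 3, 2], [6, 1, 2, 3, 2, 1, 4, 3, 2, 1, 3, 4], [6, 1, 0, 2, 3, 2, 1, 0, 4, 3, 2, 5, 1, 0, 2, 3, 2], [6, 1, 2, 3, 2, 1, 4, 3, 2, 5, 1, 0, 2, 6, 1], [6, 1, 0, 2, 1, 3, 2, 3, 4, 3, 2, 5, 1, 2, 3, 4], [6, 1, 0, 2, 3, 2, 1, 4, 3, 2, 1, 3, 4], [6, 1, 0, 2, 3, 2, 1, 0, 4, 6]] (.kid 313 [[6, 1, 2, 3, 2, 1, 4, 6, 5, 1, 6], [6, 1, 2, 3, 2, 1, 4, 3, 2, 5, 6, 1, 5], [6, 1, 0, 2, 1, 3, 2, 1, 3, 4, 3, 5, 1, 2], [6, 1, 0, 2, 1, 3, 2, 1, 3, 4, 3, 2, 3, 4, 5, 1, 2], [6, 1, 2, 3, 2, 1, 0, 4, 3, 2, 1, 0, 1, 3, 2], [6, 1, 0, 2, 1, 3, 2, 1, 4, 3, 2, 5, 1, 2], [6, 1, 2, 3, 2, 1, 0, 4, 3, 2, 1, 3, 2,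 4], [6, 1, 2, 3, 2, 1, 4, 3, 2, 1, 0, 3, 4, 5], [6, 1, 0, 1, 2, 3, 2, 4, 3, 2, 1, 6, 5, 1, 0, 2], [6, 1, 0, 2, 1, 3, 2, 1, 0, 4, 5, 1]] (.leaf suzLeaf11) (.nil)) (.nil)) (.nil))

/-- Part of the search for the image of `z`. -/
def suzZTree19 : Tree (List Verdict) := .kid 247 [[6, 1, 0, 2, 1, 3, 2, 4, 3, 2, 1], [6, 1, 2, 3, 2, 1, 0, 4], [6, 1, 2, 3, 2, 1, 4, 3, 2, 5, 1, 0, 2, 1, 0], [6, 1, 2, 3, 2, 1, 4, 3, 2, 1, 0, 1, 3, 2, 6, 5], [6, 1, 0, 2, 1, 3, 2, 4, 3, 5, 1, 2, 3, 6, 1, 5], [6, 1, 2, 3, 2, 1, 0, 4, 3, 2, 6, 1, 5], [6, 1, 0, 2, 3, 2, 1, 4, 3, 2, 3, 4, 5, 1, 6, 1], [6, 1, 0, 2, 3, 2, 4, 3, 2, 1, 5, 6, 1, 2], [6, 1, 0, 2, 3, 2, 1, 0, 4, 3, 2, 6], [6, 1, 2, 3, 2,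 4, 3, 2, 1, 0, 6]] (.kid 1305 [[6, 1, 2, 3, 2, 1, 4, 3, 2, 1, 3, 2, 4, 5, 6], [6, 1, 2, 3, 5, 1], [6, 1, 2, 3, 2, 4, 3, 2, 5, 1, 6, 5, 1, 0, 2], [6, 1, 2, 3, 2, 1, 4, 3, 2, 3, 5, 1, 0, 1, 2], [6, 1, 0, 1, 2, 1, 3], [6, 1, 2, 3, 2, 4, 3, 2, 1, 0, 5, 1, 0, 1, 2, 3], [6, 1, 2, 3, 2, 1, 4, 3, 2, 5, 6, 1, 0, 5], [6, 1, 0, 2, 3, 2, 1, 4, 3, 2, 3, 2, 1, 4, 3, 2], [6, 1, 0, 2, 3, 2, 1, 0, 4, 3, 2, 1, 6], [6, 1, 0, 2, 1, 3, 2, 4, 3, 2, 6, 5, 1, 0, 2, 3]] (.kid 755 [[6, 1, 0, 2, 1, 3, 2, 1, 3, 4, 3, 2, 1, 0], [6, 1, 2, 3, 2, 1, 0, 4, 3, 2, 1, 6, 5, 1, 2], [6, 1, 0, 2, 3, 2, 4, 3, 2, 1, 0, 6], [6, 1, 0, 1, 2, 3, 2, 4, 3, 2, 1, 0, 1, 5, 1, 2], [6, 1, 0, 1, 2, 1, 3, 2, 1, 4, 3,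 5, 1], [6, 1, 2, 3], [6, 1, 0, 2, 1, 3, 2, 4, 3, 2, 1, 0, 1, 5], [6, 1, 0, 2, 1, 3, 2, 4, 3, 5, 1, 2, 3], [6, 1, 0, 2, 1, 3, 2, 1, 4, 3, 2, 1], [6, 1, 0, 2, 1, 3, 2, 1, 4, 3, 2, 5, 6, 1, 0]] (.leaf suzLeaf8) (.nil)) (.nil)) (.kid 349 [[6, 1, 0, 2, 1, 3, 2, 1, 0, 4, 3, 5], [6, 1, 2, 3, 2, 1, 0], [6, 1, 0, 2, 1, 3, 2, 4, 3, 2, 6, 1, 5, 1, 0, 1], [6, 1, 0, 1, 2, 1, 3, 2, 4, 3, 5, 1, 2], [6, 1, 2, 3, 2, 1, 4, 3], [6, 1, 0, 2, 3, 2, 1, 4, 3, 2, 3, 5, 1, 6], [6, 1, 2, 3, 2, 1, 4, 3, 2, 1, 0, 1, 3, 2, 1], [6, 1, 0, 2, 1, 3, 2, 4, 3, 5, 1, 0, 2, 1, 3, 2], [6, 1, 2, 3, 2, 1, 4, 3, 2, 1, 5, 1, 0, 2], [6, 1, 0, 2, 3, 2, 1, 4, 3, 6]] (.kid 1741 [[6, 1, 0, 2, 3, 2, 1, 0, 4, 3,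 2, 5, 1, 0, 2, 3, 2], [6, 1, 2, 3, 2, 1, 4, 3, 2, 5, 1, 0, 2, 6, 1], [6, 1, 0, 2, 1, 3, 2, 3, 4, 3, 2, 5, 1, 2, 3, 4], [6, 1, 0, 2, 3, 2, 1, 4, 3, 2, 1, 3, 4], [6, 1, 0, 2, 3, 2, 1, 0, 4, 6], [6, 1, 0, 2, 1, 3, 2, 4, 3, 2, 1, 6, 1, 5, 1], [6, 1, 2, 3, 2, 1, 0, 5, 1, 6], [6, 1, 0, 1, 2, 3, 2, 1, 4, 3, 2, 1, 0, 1, 5, 1, 2], [6, 1, 0, 1, 2, 3, 2, 4, 3, 2], [6, 1, 2, 3, 2, 1, 4, 3, 2, 1, 3, 4]] (.kid 778 [[6, 1, 0, 2, 1, 3, 2, 1, 4, 3, 2, 5, 1, 2], [6, 1, 2, 3, 2, 1, 0, 4, 3, 2, 1, 3, 2, 4], [6, 1, 2, 3, 2, 1, 4, 3, 2, 1, 0, 3, 4, 5], [6, 1, 0, 1, 2, 3, 2, 4, 3, 2, 1, 6, 5, 1, 0, 2], [6, 1, 0, 2, 1, 3, 2, 1, 0, 4, 5, 1], [6, 1, 2, 3, 2, 1, 4, 6, 5, 1, 6], [6, 1, 2, 3,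 2, 1, 4, 3, 2, 5, 6, 1, 5], [6, 1, 0, 2, 1, 3, 2, 1, 3, 4, 3, 5, 1, 2], [6, 1, 0, 2, 1, 3, 2, 1, 3, 4, 3, 2, 3, 4, 5, 1, 2], [6, 1, 2, 3, 2, 1, 0, 4, 3, 2, 1, 0, 1, 3, 2]] (.leaf suzLeaf9) (.nil)) (.nil)) (suzZTree18))

/-- Part of the search for the image of `z`. -/
def suzZTree20 : Tree (List Verdict) := .kid 1295 [[6, 1, 2, 3, 2, 1, 4, 3, 2, 1, 0, 1, 3, 2, 1], [6, 1, 0, 2, 1, 3, 2, 4, 3, 5, 1, 0, 2, 1, 3, 2], [6, 1, 2, 3, 2, 1, 4, 3, 2, 1, 5, 1, 0, 2], [6, 1, 0, 2, 3, 2, 1, 4, 3, 6], [6, 1, 0, 2, 1, 3, 2, 1, 0, 4, 3, 5], [6, 1, 2, 3, 2, 1, 0], [6, 1, 0, 2, 1, 3, 2, 4, 3, 2, 6, 1, 5, 1, 0, 1], [6, 1, 0, 1, 2, 1, 3, 2, 4, 3, 5, 1, 2], [6, 1, 2, 3, 2, 1, 4, 3], [6,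 1, 0, 2, 3, 2, 1, 4, 3, 2, 3, 5, 1, 6]] (.kid 188 [[6, 1, 2, 3, 2, 1, 0, 5, 1, 6], [6, 1, 0, 1, 2, 3, 2, 1, 4, 3, 2, 1, 0, 1, 5, 1, 2], [6, 1, 0, 1, 2, 3, 2, 4, 3, 2], [6, 1, 2, 3, 2, 1, 4, 3, 2, 1, 3, 4], [6, 1, 0, 2, 3, 2, 1, 0, 4, 3, 2, 5, 1, 0, 2, 3, 2], [6, 1, 2, 3, 2, 1, 4, 3, 2, 5, 1, 0, 2, 6, 1], [6, 1, 0, 2, 1, 3, 2, 3, 4, 3, 2, 5, 1, 2, 3, 4], [6, 1, 0, 2, 3, 2, 1, 4, 3, 2, 1, 3, 4], [6, 1, 0, 2, 3, 2, 1, 0, 4, 6], [6, 1, 0, 2, 1, 3, 2, 4, 3, 2, 1, 6, 1, 5, 1]] (.kid 683 [[6, 1, 2, 3, 2, 1, 4, 3, 2, 5, 6, 1, 5], [6, 1, 0, 2, 1, 3, 2, 1, 3, 4, 3, 5, 1, 2], [6, 1, 0, 2, 1, 3, 2, 1, 3, 4, 3, 2, 3, 4, 5, 1, 2], [6, 1, 2, 3, 2, 1, 0, 4, 3, 2, 1, 0, 1, 3, 2],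 [6, 1, 0, 2, 1, 3, 2, 1, 4, 3, 2, 5, 1, 2], [6, 1, 2, 3, 2, 1, 0, 4, 3, 2, 1, 3, 2, 4], [6, 1, 2, 3, 2, 1, 4, 3, 2, 1, 0, 3, 4, 5], [6, 1, 0, 1, 2, 3, 2, 4, 3, 2, 1, 6, 5, 1, 0, 2], [6, 1, 0, 2, 1, 3, 2, 1, 0, 4, 5, 1], [6, 1, 2, 3, 2, 1, 4, 6, 5, 1, 6]] (.leaf suzLeaf6) (.nil)) (.nil)) (.kid 1582 [[6, 1, 0, 2, 3, 2, 1, 4, 3, 2, 3, 4, 5, 1, 6, 1], [6, 1, 0, 2, 3, 2, 4, 3, 2, 1, 5, 6, 1, 2], [6, 1, 0, 2, 3, 2, 1, 0, 4, 3, 2, 6], [6, 1, 2, 3, 2, 4, 3, 2, 1, 0, 6], [6, 1, 0, 2, 1, 3, 2, 4, 3, 2, 1], [6, 1, 2, 3, 2, 1, 0, 4], [6, 1, 2, 3, 2, 1, 4, 3, 2, 5, 1, 0, 2, 1, 0], [6, 1, 2, 3, 2, 1, 4, 3, 2, 1, 0, 1, 3, 2, 6, 5], [6, 1, 0, 2, 1, 3, 2, 4, 3, 5, 1, 2, 3, 6, 1, 5],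 [6, 1, 2, 3, 2, 1, 0, 4, 3, 2, 6, 1, 5]] (.kid 991 [[6, 1, 2, 3, 2, 1, 4, 3, 2, 5, 6, 1, 0, 5], [6, 1, 0, 2, 3, 2, 1, 4, 3, 2, 3, 2, 1, 4, 3, 2], [6, 1, 0, 2, 3, 2, 1, 0, 4, 3, 2, 1, 6], [6, 1, 0, 2, 1, 3, 2, 4, 3, 2, 6, 5, 1, 0, 2, 3], [6, 1, 2, 3, 2, 1, 4, 3, 2, 1, 3, 2, 4, 5, 6], [6, 1, 2, 3, 5, 1], [6, 1, 2, 3, 2, 4, 3, 2, 5, 1, 6, 5, 1, 0, 2], [6, 1, 2, 3, 2, 1, 4, 3, 2, 3, 5, 1, 0, 1, 2], [6, 1, 0, 1, 2, 1, 3], [6, 1, 2, 3, 2, 4, 3, 2, 1, 0, 5, 1, 0, 1, 2, 3]] (.kid 806 [[6, 1, 0, 2, 1, 3, 2, 4, 3, 2, 1, 0, 1, 5], [6, 1, 0, 2, 1, 3, 2, 4, 3, 5, 1, 2, 3], [6, 1, 0, 2, 1, 3, 2, 1, 4, 3, 2, 1], [6, 1, 0, 2, 1, 3, 2, 1, 4, 3, 2, 5, 6, 1, 0], [6, 1, 0, 2, 1, 3, 2,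 1, 3, 4, 3, 2, 1, 0], [6, 1, 2, 3, 2, 1, 0, 4, 3, 2, 1, 6, 5, 1, 2], [6, 1, 0, 2, 3, 2, 4, 3, 2, 1, 0, 6], [6, 1, 0, 1, 2, 3, 2, 4, 3, 2, 1, 0, 1, 5, 1, 2], [6, 1, 0, 1, 2, 1, 3, 2, 1, 4, 3, 5, 1], [6, 1, 2, 3]] (.leaf suzLeaf7) (.nil)) (.nil)) (.nil))

/-- Part of the search for the image of `z`. -/
def suzZTree21 : Tree (List Verdict) := .kid 44 [[6, 1, 2, 3, 2, 1, 0], [6, 1, 0, 2, 1, 3, 2, 4, 3, 2, 6, 1, 5, 1, 0, 1], [6, 1, 0, 1, 2, 1, 3, 2, 4, 3, 5, 1, 2], [6, 1, 2, 3, 2, 1, 4, 3], [6, 1, 0, 2, 3, 2, 1, 4, 3, 2, 3, 5, 1, 6], [6, 1, 2, 3, 2, 1, 4, 3, 2, 1, 0, 1, 3, 2, 1], [6, 1, 0, 2, 1, 3, 2, 4, 3, 5, 1, 0, 2, 1, 3, 2], [6, 1, 2, 3, 2, 1, 4, 3, 2, 1, 5, 1, 0,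 2], [6, 1, 0, 2, 3, 2, 1, 4, 3, 6], [6, 1, 0, 2, 1, 3, 2, 1, 0, 4, 3, 5]] (.kid 1334 [[6, 1, 2, 3, 2, 1, 4, 3, 2, 5, 1, 0, 2, 6, 1], [6, 1, 0, 2, 1, 3, 2, 3, 4, 3, 2, 5, 1, 2, 3, 4], [6, 1, 0, 2, 3, 2, 1, 4, 3, 2, 1, 3, 4], [6, 1, 0, 2, 3, 2, 1, 0, 4, 6], [6, 1, 0, 2, 1, 3, 2, 4, 3, 2, 1, 6, 1, 5, 1], [6, 1, 2, 3, 2, 1, 0, 5, 1, 6], [6, 1, 0, 1, 2, 3, 2, 1, 4, 3, 2, 1, 0, 1, 5, 1, 2], [6, 1, 0, 1, 2, 3, 2, 4, 3, 2], [6, 1, 2, 3, 2, 1, 4, 3, 2, 1, 3, 4], [6, 1, 0, 2, 3, 2, 1, 0, 4, 3, 2, 5, 1, 0, 2, 3, 2]] (.kid 915 [[6, 1, 2, 3, 2, 1, 0, 4, 3, 2, 1, 3, 2, 4], [6, 1, 2, 3, 2, 1, 4, 3, 2, 1, 0, 3, 4, 5], [6, 1, 0, 1, 2, 3, 2, 4, 3, 2, 1, 6, 5, 1, 0, 2], [6, 1, 0, 2,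 1, 3, 2, 1, 0, 4, 5, 1], [6, 1, 2, 3, 2, 1, 4, 6, 5, 1, 6], [6, 1, 2, 3, 2, 1, 4, 3, 2, 5, 6, 1, 5], [6, 1, 0, 2, 1, 3, 2, 1, 3, 4, 3, 5, 1, 2], [6, 1, 0, 2, 1, 3, 2, 1, 3, 4, 3, 2, 3, 4, 5, 1, 2], [6, 1, 2, 3, 2, 1, 0, 4, 3, 2, 1, 0, 1, 3, 2], [6, 1, 0, 2, 1, 3, 2, 1, 4, 3, 2, 5, 1, 2]] (.leaf suzLeaf4) (.nil)) (.nil)) (.kid 74 [[6, 1, 2, 3, 2, 1, 0, 4], [6, 1, 2, 3, 2, 1, 4, 3, 2, 5, 1, 0, 2, 1, 0], [6, 1, 2, 3, 2, 1, 4, 3, 2, 1, 0, 1, 3, 2, 6, 5], [6, 1, 0, 2, 1, 3, 2, 4, 3, 5, 1, 2, 3, 6, 1, 5], [6, 1, 2, 3, 2, 1, 0, 4, 3, 2, 6, 1, 5], [6, 1, 0, 2, 3, 2, 1, 4, 3, 2, 3, 4, 5, 1, 6, 1], [6, 1, 0, 2, 3, 2, 4, 3, 2, 1, 5, 6, 1, 2], [6, 1, 0, 2, 3, 2, 1, 0, 4, 3, 2,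 6], [6, 1, 2, 3, 2, 4, 3, 2, 1, 0, 6], [6, 1, 0, 2, 1, 3, 2, 4, 3, 2, 1]] (.kid 29 [[6, 1, 2, 3, 5, 1], [6, 1, 2, 3, 2, 4, 3, 2, 5, 1, 6, 5, 1, 0, 2], [6, 1, 2, 3, 2, 1, 4, 3, 2, 3, 5, 1, 0, 1, 2], [6, 1, 0, 1, 2, 1, 3], [6, 1, 2, 3, 2, 4, 3, 2, 1, 0, 5, 1, 0, 1, 2, 3], [6, 1, 2, 3, 2, 1, 4, 3, 2, 5, 6, 1, 0, 5], [6, 1, 0, 2, 3, 2, 1, 4, 3, 2, 3, 2, 1, 4, 3, 2], [6, 1, 0, 2, 3, 2, 1, 0, 4, 3, 2, 1, 6], [6, 1, 0, 2, 1, 3, 2, 4, 3, 2, 6, 5, 1, 0, 2, 3], [6, 1, 2, 3, 2, 1, 4, 3, 2, 1, 3, 2, 4, 5, 6]] (.kid 1278 [[6, 1, 2, 3, 2, 1, 0, 4, 3, 2, 1, 6, 5, 1, 2], [6, 1, 0, 2, 3, 2, 4, 3, 2, 1, 0, 6], [6, 1, 0, 1, 2, 3, 2, 4, 3, 2, 1, 0, 1, 5, 1, 2], [6, 1, 0, 1, 2, 1, 3,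 2, 1, 4, 3, 5, 1], [6, 1, 2, 3], [6, 1, 0, 2, 1, 3, 2, 4, 3, 2, 1, 0, 1, 5], [6, 1, 0, 2, 1, 3, 2, 4, 3, 5, 1, 2, 3], [6, 1, 0, 2, 1, 3, 2, 1, 4, 3, 2, 1], [6, 1, 0, 2, 1, 3, 2, 1, 4, 3, 2, 5, 6, 1, 0], [6, 1, 0, 2, 1, 3, 2, 1, 3, 4, 3, 2, 1, 0]] (.leaf suzLeaf5) (.nil)) (.nil)) (suzZTree20))

/-- Part of the search for the image of `z`. -/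
def suzZTree22 : Tree (List Verdict) := .kid 1026 [[6, 1, 0, 1, 2, 1, 3, 2, 1, 4, 3, 2, 3, 5, 1], [6, 1, 2, 3, 2, 1, 4, 3, 2, 1, 3], [6, 1, 0, 2, 1, 3, 2, 4, 3, 2, 5, 1, 2, 6, 1], [6, 1, 0, 2, 1, 3, 2, 4, 3, 2, 1, 6, 5, 1, 0, 2, 3], [6, 1, 0, 2, 1, 3, 2, 3, 4, 3, 2, 1, 3, 6, 5]] (.kid 21 [[6, 1, 0, 2, 1, 5], [6, 1, 0, 2, 1, 3, 2, 1, 4, 3, 2, 1, 6], [6, 1, 2, 3, 2, 1, 4, 3, 2, 1, 3, 2, 5, 6, 1], [6, 1, 2, 3, 2, 4, 3, 2, 1, 5, 1, 0, 1, 0, 5], [6, 1, 0, 2, 3, 2, 1, 0, 4, 3, 2, 1, 3, 4, 5]] (.nil) (.kid 61 [[6, 1, 0, 2, 1, 3, 2, 3], [6, 1, 0, 1, 2, 3, 2, 1, 4, 3, 2, 1, 3, 5, 1, 0], [6, 1, 0, 2, 1, 3, 2, 4, 3, 2, 5, 1, 0, 2, 3], [6, 1, 2, 3, 2, 1, 4, 3, 2, 1, 3, 2, 5,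 1, 2], [6, 1, 0, 2, 3, 2, 1, 4, 3, 2, 3, 2, 4, 3]] (suzZTree21) (.kid 1772 [[6, 1, 2, 3, 2, 4, 3, 2, 1, 5, 6, 1, 2, 5, 1, 0, 6], [6, 1, 2, 3, 2, 1, 0, 4, 3, 2, 5], [6, 1, 0, 2, 3, 2, 1, 4, 3, 2, 1, 0, 6], [6, 1, 0, 1, 2, 3, 4], [6, 1, 0, 2, 3, 2, 1, 0, 4, 3]] (.nil) (.nil)))) (.kid 1044 [[6, 1, 0, 1, 2, 1, 3, 2, 4, 3, 5, 1, 2, 6, 1], [6, 1, 2, 3, 2, 1, 4, 3, 2, 3, 5, 1, 0], [6, 1, 2, 3, 2, 4, 3, 2, 1, 0, 5, 1, 6], [6, 1, 0, 1, 2, 1, 3, 2, 1, 4, 3, 2, 5, 1, 6, 5], [6, 1, 2, 3, 2, 1, 4, 3, 2, 1, 3, 2, 4]] (.nil) (.kid 1133 [[6, 1, 0, 2, 1, 3, 2, 3, 4, 3, 2, 1, 3, 6, 5], [6, 1, 0, 1, 2, 1, 3, 2, 1, 4, 3, 2, 3, 5, 1], [6, 1, 2, 3, 2, 1, 4, 3, 2, 1, 3], [6, 1, 0, 2, 1,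 3, 2, 4, 3, 2, 5, 1, 2, 6, 1], [6, 1, 0, 2, 1, 3, 2, 4, 3, 2, 1, 6, 5, 1, 0, 2, 3]] (.kid 170 [[6, 1, 0, 2, 3, 2, 1, 0, 4, 3], [6, 1, 2, 3, 2, 4, 3, 2, 1, 5, 6, 1, 2, 5, 1, 0, 6], [6, 1, 2, 3, 2, 1, 0, 4, 3, 2, 5], [6, 1, 0, 2, 3, 2, 1, 4, 3, 2, 1, 0, 6], [6, 1, 0, 1, 2, 3, 4]] (.nil) (.kid 878 [[6, 1, 0, 2, 3, 2, 1, 4, 3, 2, 3, 2, 4, 3], [6, 1, 0, 2, 1, 3, 2, 3], [6, 1, 0, 1, 2, 3, 2, 1, 4, 3, 2, 1, 3, 5, 1, 0], [6, 1, 0, 2, 1, 3, 2, 4, 3, 2, 5, 1, 0, 2, 3], [6, 1, 2, 3, 2, 1, 4, 3, 2, 1, 3, 2, 5, 1, 2]] (suzZTree19) (.kid 1202 [[6, 1, 0, 2, 3, 2, 1, 0, 4, 3, 2, 1, 3, 4, 5], [6, 1, 0, 2, 1, 5], [6, 1, 0, 2, 1, 3, 2, 1, 4, 3, 2, 1, 6], [6, 1, 2, 3, 2, 1, 4, 3, 2,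 1, 3, 2, 5, 6, 1], [6, 1, 2, 3, 2, 4, 3, 2, 1, 5, 1, 0, 1, 0, 5]] (.nil) (.nil)))) (suzZTree17)))

/-- Part of the search for the image of `z`. -/
def suzZTree23 : Tree (List Verdict) := .kid 1524 [[6, 1, 0, 2, 1, 3, 2, 4, 3, 2, 6, 1, 5, 1, 0, 1], [6, 1, 0, 1, 2, 1, 3, 2, 4, 3, 5, 1, 2], [6, 1, 2, 3, 2, 1, 4, 3], [6, 1, 0, 2, 3, 2, 1, 4, 3, 2, 3, 5, 1, 6], [6, 1, 2, 3, 2, 1, 4, 3, 2, 1, 0, 1, 3, 2, 1], [6, 1, 0, 2, 1, 3, 2, 4, 3, 5, 1, 0, 2, 1, 3, 2], [6, 1, 2, 3, 2, 1, 4, 3, 2, 1, 5, 1, 0, 2], [6, 1, 0, 2, 3, 2, 1, 4, 3, 6], [6, 1, 0, 2, 1, 3, 2, 1, 0, 4, 3, 5], [6, 1, 2, 3, 2, 1, 0]] (.kid 1493 [[6, 1, 0, 2, 1, 3, 2, 3, 4, 3, 2, 5, 1, 2, 3, 4], [6, 1, 0, 2, 3, 2,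 1, 4, 3, 2, 1, 3, 4], [6, 1, 0, 2, 3, 2, 1, 0, 4, 6], [6, 1, 0, 2, 1, 3, 2, 4, 3, 2, 1, 6, 1, 5, 1], [6, 1, 2, 3, 2, 1, 0, 5, 1, 6], [6, 1, 0, 1, 2, 3, 2, 1, 4, 3, 2, 1, 0, 1, 5, 1, 2], [6, 1, 0, 1, 2, 3, 2, 4, 3, 2], [6, 1, 2, 3, 2, 1, 4, 3, 2, 1, 3, 4], [6, 1, 0, 2, 3, 2, 1, 0, 4, 3, 2, 5, 1, 0, 2, 3, 2], [6, 1, 2, 3, 2, 1, 4, 3, 2, 5, 1, 0, 2, 6, 1]] (.kid 952 [[6, 1, 2, 3, 2, 1, 4, 3, 2, 1, 0, 3, 4, 5], [6, 1, 0, 1, 2, 3, 2, 4, 3, 2, 1, 6, 5, 1, 0, 2], [6, 1, 0, 2, 1, 3, 2, 1, 0, 4, 5, 1], [6, 1, 2, 3, 2, 1, 4, 6, 5, 1, 6], [6, 1, 2, 3, 2, 1, 4, 3, 2, 5, 6, 1, 5], [6, 1, 0, 2, 1, 3, 2, 1, 3, 4, 3, 5, 1, 2], [6, 1, 0, 2, 1, 3, 2, 1, 3, 4, 3, 2, 3, 4, 5, 1, 2],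 [6, 1, 2, 3, 2, 1, 0, 4, 3, 2, 1, 0, 1, 3, 2], [6, 1, 0, 2, 1, 3, 2, 1, 4, 3, 2, 5, 1, 2], [6, 1, 2, 3, 2, 1, 0, 4, 3, 2, 1, 3, 2, 4]] (.leaf suzLeaf2) (.nil)) (.nil)) (.kid 1539 [[6, 1, 0, 2, 1, 3, 2, 4, 3, 5, 1, 0, 2, 1, 3, 2], [6, 1, 2, 3, 2, 1, 4, 3, 2, 1, 5, 1, 0, 2], [6, 1, 0, 2, 3, 2, 1, 4, 3, 6], [6, 1, 0, 2, 1, 3, 2, 1, 0, 4, 3, 5], [6, 1, 2, 3, 2, 1, 0], [6, 1, 0, 2, 1, 3, 2, 4, 3, 2, 6, 1, 5, 1, 0, 1], [6, 1, 0, 1, 2, 1, 3, 2, 4, 3, 5, 1, 2], [6, 1, 2, 3, 2, 1, 4, 3], [6, 1, 0, 2, 3, 2, 1, 4, 3, 2, 3, 5, 1, 6], [6, 1, 2, 3, 2, 1, 4, 3, 2, 1, 0, 1, 3, 2, 1]] (.kid 1675 [[6, 1, 0, 1, 2, 3, 2, 1, 4, 3, 2, 1, 0, 1, 5, 1, 2], [6, 1, 0, 1, 2, 3, 2, 4, 3, 2],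 [6, 1, 2, 3, 2, 1, 4, 3, 2, 1, 3, 4], [6, 1, 0, 2, 3, 2, 1, 0, 4, 3, 2, 5, 1, 0, 2, 3, 2], [6, 1, 2, 3, 2, 1, 4, 3, 2, 5, 1, 0, 2, 6, 1], [6, 1, 0, 2, 1, 3, 2, 3, 4, 3, 2, 5, 1, 2, 3, 4], [6, 1, 0, 2, 3, 2, 1, 4, 3, 2, 1, 3, 4], [6, 1, 0, 2, 3, 2, 1, 0, 4, 6], [6, 1, 0, 2, 1, 3, 2, 4, 3, 2, 1, 6, 1, 5, 1], [6, 1, 2, 3, 2, 1, 0, 5, 1, 6]] (.kid 766 [[6, 1, 0, 2, 1, 3, 2, 1, 3, 4, 3, 5, 1, 2], [6, 1, 0, 2, 1, 3, 2, 1, 3, 4, 3, 2, 3, 4, 5, 1, 2], [6, 1, 2, 3, 2, 1, 0, 4, 3, 2, 1, 0, 1, 3, 2], [6, 1, 0, 2, 1, 3, 2, 1, 4, 3, 2, 5, 1, 2], [6, 1, 2, 3, 2, 1, 0, 4, 3, 2, 1, 3, 2, 4], [6, 1, 2, 3, 2, 1, 4, 3, 2, 1, 0, 3, 4, 5], [6, 1, 0, 1, 2, 3, 2, 4, 3, 2, 1, 6, 5, 1, 0,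 2], [6, 1, 0, 2, 1, 3, 2, 1, 0, 4, 5, 1], [6, 1, 2, 3, 2, 1, 4, 6, 5, 1, 6], [6, 1, 2, 3, 2, 1, 4, 3, 2, 5, 6, 1, 5]] (.leaf suzLeaf3) (.nil)) (.nil)) (.nil))

/-- Part of the search for the image of `z`. -/
def suzZTree24 : Tree (List Verdict) := .kid 908 [[6, 1, 0, 2, 3, 2, 4, 3, 2, 1, 5, 6, 1, 2], [6, 1, 0, 2, 3, 2, 1, 0, 4, 3, 2, 6], [6, 1, 2, 3, 2, 4, 3, 2, 1, 0, 6], [6, 1, 0, 2, 1, 3, 2, 4, 3, 2, 1], [6, 1, 2, 3, 2, 1, 0, 4], [6, 1, 2, 3, 2, 1, 4, 3, 2, 5, 1, 0, 2, 1, 0], [6, 1, 2, 3, 2, 1, 4, 3, 2, 1, 0, 1, 3, 2, 6, 5], [6, 1, 0, 2, 1, 3, 2, 4, 3, 5, 1, 2, 3, 6, 1, 5], [6, 1, 2, 3, 2, 1, 0, 4, 3, 2, 6, 1, 5], [6, 1, 0, 2, 3, 2, 1, 4, 3, 2, 3, 4, 5, 1, 6, 1]]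 (.kid 1579 [[6, 1, 0, 2, 3, 2, 1, 4, 3, 2, 3, 2, 1, 4, 3, 2], [6, 1, 0, 2, 3, 2, 1, 0, 4, 3, 2, 1, 6], [6, 1, 0, 2, 1, 3, 2, 4, 3, 2, 6, 5, 1, 0, 2, 3], [6, 1, 2, 3, 2, 1, 4, 3, 2, 1, 3, 2, 4, 5, 6], [6, 1, 2, 3, 5, 1], [6, 1, 2, 3, 2, 4, 3, 2, 5, 1, 6, 5, 1, 0, 2], [6, 1, 2, 3, 2, 1, 4, 3, 2, 3, 5, 1, 0, 1, 2], [6, 1, 0, 1, 2, 1, 3], [6, 1, 2, 3, 2, 4, 3, 2, 1, 0, 5, 1, 0, 1, 2, 3], [6, 1, 2, 3, 2, 1, 4, 3, 2, 5, 6, 1, 0, 5]] (.kid 563 [[6, 1, 0, 2, 1, 3, 2, 4, 3, 5, 1, 2, 3], [6, 1, 0, 2, 1, 3, 2, 1, 4, 3, 2, 1], [6, 1, 0, 2, 1, 3, 2, 1, 4, 3, 2, 5, 6, 1, 0], [6, 1, 0, 2, 1, 3, 2, 1, 3, 4, 3, 2, 1, 0], [6, 1, 2, 3, 2, 1, 0, 4, 3, 2, 1, 6, 5, 1, 2], [6, 1, 0, 2,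 3, 2, 4, 3, 2, 1, 0, 6], [6, 1, 0, 1, 2, 3, 2, 4, 3, 2, 1, 0, 1, 5, 1, 2], [6, 1, 0, 1, 2, 1, 3, 2, 1, 4, 3, 5, 1], [6, 1, 2, 3], [6, 1, 0, 2, 1, 3, 2, 4, 3, 2, 1, 0, 1, 5]] (.leaf suzLeaf0) (.nil)) (.nil)) (.kid 1332 [[6, 1, 2, 3, 2, 1, 4, 3, 2, 5, 1, 0, 2, 1, 0], [6, 1, 2, 3, 2, 1, 4, 3, 2, 1, 0, 1, 3, 2, 6, 5], [6, 1, 0, 2, 1, 3, 2, 4, 3, 5, 1, 2, 3, 6, 1, 5], [6, 1, 2, 3, 2, 1, 0, 4, 3, 2, 6, 1, 5], [6, 1, 0, 2, 3, 2, 1, 4, 3, 2, 3, 4, 5, 1, 6, 1], [6, 1, 0, 2, 3, 2, 4, 3, 2, 1, 5, 6, 1, 2], [6, 1, 0, 2, 3, 2, 1, 0, 4, 3, 2, 6], [6, 1, 2, 3, 2, 4, 3, 2, 1, 0, 6], [6, 1, 0, 2, 1, 3, 2, 4, 3, 2, 1], [6, 1, 2, 3, 2, 1, 0, 4]] (.kid 1369 [[6, 1, 2, 3, 2, 4, 3, 2,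 5, 1, 6, 5, 1, 0, 2], [6, 1, 2, 3, 2, 1, 4, 3, 2, 3, 5, 1, 0, 1, 2], [6, 1, 0, 1, 2, 1, 3], [6, 1, 2, 3, 2, 4, 3, 2, 1, 0, 5, 1, 0, 1, 2, 3], [6, 1, 2, 3, 2, 1, 4, 3, 2, 5, 6, 1, 0, 5], [6, 1, 0, 2, 3, 2, 1, 4, 3, 2, 3, 2, 1, 4, 3, 2], [6, 1, 0, 2, 3, 2, 1, 0, 4, 3, 2, 1, 6], [6, 1, 0, 2, 1, 3, 2, 4, 3, 2, 6, 5, 1, 0, 2, 3], [6, 1, 2, 3, 2, 1, 4, 3, 2, 1, 3, 2, 4, 5, 6], [6, 1, 2, 3, 5, 1]] (.kid 419 [[6, 1, 0, 2, 3, 2, 4, 3, 2, 1, 0, 6], [6, 1, 0, 1, 2, 3, 2, 4, 3, 2, 1, 0, 1, 5, 1, 2], [6, 1, 0, 1, 2, 1, 3, 2, 1, 4, 3, 5, 1], [6, 1, 2, 3], [6, 1, 0, 2, 1, 3, 2, 4, 3, 2, 1, 0, 1, 5], [6, 1, 0, 2, 1, 3, 2, 4, 3, 5, 1, 2, 3], [6, 1, 0, 2, 1, 3, 2, 1, 4, 3, 2, 1], [6,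 1, 0, 2, 1, 3, 2, 1, 4, 3, 2, 5, 6, 1, 0], [6, 1, 0, 2, 1, 3, 2, 1, 3, 4, 3, 2, 1, 0], [6, 1, 2, 3, 2, 1, 0, 4, 3, 2, 1, 6, 5, 1, 2]] (.leaf suzLeaf1) (.nil)) (.nil)) (suzZTree23))

/-- Part of the search for the image of `z`. -/
def suzZTree25 : Tree (List Verdict) := .kid 296 [[6, 1, 2, 3, 2, 1, 4, 3, 2, 1, 3], [6, 1, 0, 2, 1, 3, 2, 4, 3, 2, 5, 1, 2, 6, 1], [6, 1, 0, 2, 1, 3, 2, 4, 3, 2, 1, 6, 5, 1, 0, 2, 3], [6, 1, 0, 2, 1, 3, 2, 3, 4, 3, 2, 1, 3, 6, 5], [6, 1, 0, 1, 2, 1, 3, 2, 1, 4, 3, 2, 3, 5, 1]] (.kid 285 [[6, 1, 2, 3, 2, 1, 0, 4, 3, 2, 5], [6, 1, 0, 2, 3, 2, 1, 4, 3, 2, 1, 0, 6], [6, 1, 0, 1, 2, 3, 4], [6, 1, 0, 2, 3, 2, 1, 0, 4, 3], [6, 1, 2, 3, 2, 4, 3,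 2, 1, 5, 6, 1, 2, 5, 1, 0, 6]] (.nil) (.kid 529 [[6, 1, 0, 2, 1, 3, 2, 1, 4, 3, 2, 1, 6], [6, 1, 2, 3, 2, 1, 4, 3, 2, 1, 3, 2, 5, 6, 1], [6, 1, 2, 3, 2, 4, 3, 2, 1, 5, 1, 0, 1, 0, 5], [6, 1, 0, 2, 3, 2, 1, 0, 4, 3, 2, 1, 3, 4, 5], [6, 1, 0, 2, 1, 5]] (.nil) (.kid 1403 [[6, 1, 0, 1, 2, 3, 2, 1, 4, 3, 2, 1, 3, 5, 1, 0], [6, 1, 0, 2, 1, 3, 2, 4, 3, 2, 5, 1, 0, 2, 3], [6, 1, 2, 3, 2, 1, 4, 3, 2, 1, 3, 2, 5, 1, 2], [6, 1, 0, 2, 3, 2, 1, 4, 3, 2, 3, 2, 4, 3], [6, 1, 0, 2, 1, 3, 2, 3]] (suzZTree24) (.nil)))) (.kid 655 [[6, 1, 2, 3, 2, 1, 4, 3, 2, 1, 3, 2, 4], [6, 1, 0, 1, 2, 1, 3, 2, 4, 3, 5, 1, 2, 6, 1], [6, 1, 2, 3, 2, 1, 4, 3, 2, 3, 5, 1, 0], [6, 1, 2, 3, 2, 4, 3, 2,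 1, 0, 5, 1, 6], [6, 1, 0, 1, 2, 1, 3, 2, 1, 4, 3, 2, 5, 1, 6, 5]] (.nil) (.kid 671 [[6, 1, 2, 3, 2, 1, 4, 3, 2, 3, 5, 1, 0], [6, 1, 2, 3, 2, 4, 3, 2, 1, 0, 5, 1, 6], [6, 1, 0, 1, 2, 1, 3, 2, 1, 4, 3, 2, 5, 1, 6, 5], [6, 1, 2, 3, 2, 1, 4, 3, 2, 1, 3, 2, 4], [6, 1, 0, 1, 2, 1, 3, 2, 4, 3, 5, 1, 2, 6, 1]] (.nil) (.kid 695 [[6, 1, 2, 3, 2, 4, 3, 2, 1, 0, 5, 1, 6], [6, 1, 0, 1, 2, 1, 3, 2, 1, 4, 3, 2, 5, 1, 6, 5], [6, 1, 2, 3, 2, 1, 4, 3, 2, 1, 3, 2, 4], [6, 1, 0, 1, 2, 1, 3, 2, 4, 3, 5, 1, 2, 6, 1], [6, 1, 2, 3, 2, 1, 4, 3, 2, 3, 5, 1, 0]] (.nil) (suzZTree22))))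

/-- The certificate. -/
noncomputable def suzCert : Cert where
  p := 11
  r := 10
  s := 6
  e := 7
  i0 := 1
  exps := [1]
  cls := suz1782_orb0.mask + 2 * suz1782_orb1.mask
  roots := [0, 1, 2, 8, 14, 4]
  ws := [[5, 6, 1, 2, 3, 4], [0, 1, 0, 1, 0, 2, 3, 2, 1, 2, 3, 0, 1, 2, 0, 1, 2, 3, 2, 4, 3, 4, 1, 0, 1, 0, 5, 1, 0, 2, 5, 3, 2, 4, 1, 2, 1, 3, 2, 1, 5, 0, 6, 1, 0, 2, 1, 3, 2, 3, 4, 3, 2, 5, 1, 0, 2, 1], [0, 1, 0, 1, 0, 2, 3, 2, 1, 2, 3, 0, 1, 2, 0, 1, 2, 3, 2, 4, 3, 1, 0, 1, 0, 5, 1, 0, 3, 6, 1, 0, 2, 3, 2, 1, 4, 3, 2, 3, 6, 5, 6, 1, 0, 2, 3, 2, 1, 4, 3, 2, 1, 5, 1, 2, 3, 4, 0, 1, 2, 3, 2, 1, 6, 2, 0, 1, 5, 1, 0, 3, 4, 1, 0, 1, 0, 5, 1, 4, 0, 5, 2, 3, 1, 2,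 5, 6, 1, 0, 2, 1, 3, 2, 4, 3, 2, 1, 0, 1, 2, 3], [3, 4, 3, 0, 1, 0, 1, 0, 2, 3, 2, 1, 2, 3, 0, 1, 2, 0, 1, 2, 3, 2, 4, 3, 3, 4, 3, 0, 1, 5, 0, 1, 0, 1, 2, 3, 0, 4, 2, 3, 4, 2, 6, 1, 0, 1, 2, 1, 3, 2, 4, 3, 5, 1, 2, 3, 6, 6, 1, 0, 1, 2, 1, 3, 2, 1, 0, 1, 5, 3, 4, 2, 3, 1, 2, 0, 1, 6, 0, 2, 3, 5, 6, 1, 0, 2, 1, 3, 2, 4, 5, 6, 1, 0, 2, 3, 2, 1, 4, 3, 2, 3, 2, 6, 5, 1, 6, 2, 1, 5, 3, 4, 2, 3, 1, 2, 0, 1, 6, 6, 1, 0, 2, 1, 3, 2, 1, 4, 3, 2, 1, 5, 1], [3, 4, 3, 0, 1, 0, 1, 0, 2, 3, 2, 1, 2, 3, 0, 1, 2, 0, 1, 2, 3, 2, 4, 3, 3, 4, 3, 2, 1, 2, 4, 5, 1, 5, 0, 3, 2, 3, 1, 0, 1, 0, 2, 1, 3, 5, 2, 2, 0, 1, 5, 1, 2, 3, 1, 4, 2, 1, 3, 2, 6, 6, 1, 4, 5, 2, 3, 2, 1, 6, 1, 2, 3, 2,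 4, 3, 2, 1, 5, 1, 0, 1, 0, 2, 3, 5, 6, 1, 0, 2, 3, 2, 1, 0, 4, 5, 2, 0, 1, 5, 2, 3, 4, 2, 3, 1, 2, 1, 0, 1, 6, 6, 1, 0, 2, 1, 3, 2, 4, 3, 2, 1, 0, 1, 2]]
  rels := [[0, 1, 1, 1, 1, 2, 0, 1, 1, 1, 1, 2, 0, 1, 1, 1, 1, 2, 0, 1, 1, 1, 1, 2, 0, 1, 1, 1, 1, 2, 0, 1, 1, 1, 1, 2, 0, 1, 1, 1, 1, 2, 0, 1, 1, 1, 1, 2, 0, 1, 1, 1, 1, 2, 0, 1, 1, 1, 1, 2], [0, 1, 1, 1, 1, 1, 1, 1, 1, 1, 2, 0, 1, 1, 1, 1, 1, 1, 1, 1, 1, 2, 0, 1, 1, 1, 1, 1, 1, 1, 1, 1, 2, 0, 1, 1, 1, 1, 1, 1, 1, 1, 1, 2, 0, 1, 1, 1, 1, 1, 1, 1, 1, 1, 2, 0, 1, 1, 1, 1, 1, 1, 1, 1, 1, 2, 0, 1, 1, 1, 1, 1, 1, 1, 1, 1, 2, 0, 1, 1, 1, 1, 1, 1, 1, 1, 1, 2, 0, 1, 1, 1, 1, 1, 1, 1, 1, 1, 2, 0, 1, 1, 1, 1, 1, 1, 1, 1,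 1, 2], [0, 0, 0, 0, 0, 1, 1, 1, 1, 1, 1, 2, 0, 0, 0, 0, 0, 1, 1, 1, 1, 1, 1, 2, 0, 0, 0, 0, 0, 1, 1, 1, 1, 1, 1, 2, 0, 0, 0, 0, 0, 1, 1, 1, 1, 1, 1, 2, 0, 0, 0, 0, 0, 1, 1, 1, 1, 1, 1, 2, 0, 0, 0, 0, 0, 1, 1, 1, 1, 1, 1, 2, 0, 0, 0, 0, 0, 1, 1, 1, 1, 1, 1, 2, 0, 0, 0, 0, 0, 1, 1, 1, 1, 1, 1, 2, 0, 0, 0, 0, 0, 1, 1, 1, 1, 1, 1, 2, 0, 0, 0, 0, 0, 1, 1, 1, 1, 1, 1, 2], [0, 0, 0, 0, 0, 0, 1, 2, 0, 0, 0, 0, 0, 0, 1, 2, 0, 0, 0, 0, 0, 0, 1, 2, 0, 0, 0, 0, 0, 0, 1, 2, 0, 0, 0, 0, 0, 0, 1, 2, 0, 0, 0, 0, 0, 0, 1, 2, 0, 0, 0, 0, 0, 0, 1, 2, 0, 0, 0, 0, 0, 0, 1, 2, 0, 0, 0, 0, 0, 0, 1, 2, 0, 0, 0, 0, 0, 0, 1, 2], [0, 0, 0, 0, 0, 0, 0, 0, 0, 0, 1, 1, 1, 1, 1, 1, 1, 1, 1, 2,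 0, 0, 0, 0, 0, 0, 0, 0, 0, 0, 1, 1, 1, 1, 1, 1, 1, 1, 1, 2, 0, 0, 0, 0, 0, 0, 0, 0, 0, 0, 1, 1, 1, 1, 1, 1, 1, 1, 1, 2, 0, 0, 0, 0, 0, 0, 0, 0, 0, 0, 1, 1, 1, 1, 1, 1, 1, 1, 1, 2, 0, 0, 0, 0, 0, 0, 0, 0, 0, 0, 1, 1, 1, 1, 1, 1, 1, 1, 1, 2, 0, 0, 0, 0, 0, 0, 0, 0, 0, 0, 1, 1, 1, 1, 1, 1, 1, 1, 1, 2, 0, 0, 0, 0, 0, 0, 0, 0, 0, 0, 1, 1, 1, 1, 1, 1, 1, 1, 1, 2, 0, 0, 0, 0, 0, 0, 0, 0, 0, 0, 1, 1, 1, 1, 1, 1, 1, 1, 1, 2, 0, 0, 0, 0, 0, 0, 0, 0, 0, 0, 1, 1, 1, 1, 1, 1, 1, 1, 1, 2, 0, 0, 0, 0, 0, 0, 0, 0, 0, 0, 1, 1, 1, 1, 1, 1, 1, 1, 1, 2], [0, 0, 0, 0, 0, 0, 0, 0, 1, 1, 1, 1, 1, 1, 1, 1, 2, 0, 0, 0, 0, 0, 0, 0, 0, 1, 1, 1, 1, 1, 1, 1, 1, 2, 0, 0, 0, 0, 0, 0, 0, 0, 1, 1,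 1, 1, 1, 1, 1, 1, 2, 0, 0, 0, 0, 0, 0, 0, 0, 1, 1, 1, 1, 1, 1, 1, 1, 2, 0, 0, 0, 0, 0, 0, 0, 0, 1, 1, 1, 1, 1, 1, 1, 1, 2, 0, 0, 0, 0, 0, 0, 0, 0, 1, 1, 1, 1, 1, 1, 1, 1, 2, 0, 0, 0, 0, 0, 0, 0, 0, 1, 1, 1, 1, 1, 1, 1, 1, 2, 0, 0, 0, 0, 0, 0, 0, 0, 1, 1, 1, 1, 1, 1, 1, 1, 2, 0, 0, 0, 0, 0, 0, 0, 0, 1, 1, 1, 1, 1, 1, 1, 1, 2, 0, 0, 0, 0, 0, 0, 0, 0, 1, 1, 1, 1, 1, 1, 1, 1, 2], [0, 0, 0, 1, 1, 1, 2, 0, 0, 0, 1, 1, 1, 2, 0, 0, 0, 1, 1, 1, 2, 0, 0, 0, 1, 1, 1, 2, 0, 0, 0, 1, 1, 1, 2, 0, 0, 0, 1, 1, 1, 2, 0, 0, 0, 1, 1, 1, 2, 0, 0, 0, 1, 1, 1, 2, 0, 0, 0, 1, 1, 1, 2, 0, 0, 0, 1, 1, 1, 2], [0, 0, 1, 1, 1, 1, 1, 1, 1, 2, 0, 0, 1, 1, 1, 1, 1, 1, 1, 2, 0, 0, 1, 1, 1, 1, 1,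 1, 1, 2, 0, 0, 1, 1, 1, 1, 1, 1, 1, 2, 0, 0, 1, 1, 1, 1, 1, 1, 1, 2, 0, 0, 1, 1, 1, 1, 1, 1, 1, 2, 0, 0, 1, 1, 1, 1, 1, 1, 1, 2, 0, 0, 1, 1, 1, 1, 1, 1, 1, 2, 0, 0, 1, 1, 1, 1, 1, 1, 1, 2, 0, 0, 1, 1, 1, 1, 1, 1, 1, 2]]
  cxLev := [(864, false, [[6, 1, 0, 2, 3, 2, 1, 4, 3, 2, 1, 3, 2, 1], [6, 1, 0, 2, 1, 3, 2, 4, 3, 2, 1, 6], [6, 1, 0, 1, 2, 1, 3, 2, 4, 3, 2, 5, 1, 2, 6, 1], [6, 1, 2, 3, 2, 1, 0, 4, 3, 2, 1, 5], [6, 1, 2, 3, 2, 1, 4, 3, 2, 1, 0], [6, 1, 2, 3, 2, 1, 6, 5], [6, 1, 2], [6, 1, 0, 2, 1, 3, 4], [6, 1, 0, 2, 1, 3, 2, 3, 4, 3, 5], [6, 1, 0, 2, 3, 2, 1, 0, 4, 3, 2, 3, 4], [6, 1, 2, 3, 2, 4, 3, 2, 1, 0, 6, 1, 0, 2, 5]]),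
  (1486, false, [[6, 1, 0, 2, 1, 3, 2, 3, 4, 3, 2, 3, 5, 1, 0, 6], [6, 1, 2, 3, 2, 1, 4, 3, 2, 3, 4, 5, 1, 0, 1], [6, 1, 0, 2, 1, 3, 2, 1, 0, 1, 4, 3, 2, 1, 3, 2, 5], [6, 1, 0, 2, 1, 3, 2, 1, 0, 4, 3, 2, 1], [6, 1, 2, 3, 2, 4, 3, 2, 5, 1, 0, 2, 1, 0], [6, 1, 0, 2, 1, 3, 2, 4, 3, 5, 1, 0, 2, 1, 3, 2], [6, 1, 0, 1, 2, 3, 2, 4, 3, 2, 1, 0, 1, 2, 5, 1, 2], [6, 1, 0, 2, 3, 2, 4, 3, 2, 1, 5, 6, 1, 5], [6, 1, 2, 3, 2, 1, 4, 3, 2, 1, 0, 1, 2, 5], [6, 1, 2, 3, 2, 1, 0, 4, 3, 2, 1, 3], [6, 1, 0, 2, 3, 2, 1, 0, 4, 3, 2, 5, 1, 6]])]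
  cxSrc := [852, 423, 943, 909, 1683, 1539, 1018, 514, 1688, 1322, 1486, 1351, 574, 244, 38, 4, 82, 295, 424, 1394, 375, 864]
  cxCover := true
  cxTab := [[1539, 1018, 514, 1688, 1322, 1486, 852, 423, 943, 909, 1683, 82, 295, 424, 1394, 375, 864, 1351, 574, 244, 38, 4], [626, 1503, 1706, 1023, 1377, 827, 735, 783, 1500, 702, 268, 978, 1389, 1156, 1417, 1677, 1033, 782, 1443, 1084, 884, 270]]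
  cxTree := .kid 0 [[]] (.nil) (.kid 2 [[6, 1]] (.nil) (.kid 3 [[6, 1, 0]] (.nil) (suzCxTree6)))
  zLev := [(717, true, [[6, 1, 0, 1, 2, 1, 3, 2, 4, 3, 2, 1, 6, 5]]),
  (1639, true, [[6, 1, 2, 3, 2, 4, 3, 2, 1, 0, 6, 1, 2, 5, 1, 0]]),
  (296, true, [[6, 1, 2, 3, 2, 1, 4, 3, 2, 1, 3], [6, 1, 0, 2, 1, 3, 2, 3, 4, 3, 2, 1, 3, 6, 5], [6, 1, 0, 2, 1, 3, 2, 4, 3, 2, 5, 1, 2, 6, 1], [6, 1, 0, 1, 2, 1, 3, 2, 1, 4, 3, 2, 3, 5, 1], [6, 1, 0, 2, 1, 3, 2, 4, 3, 2, 1, 6, 5, 1, 0, 2, 3]]),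
  (61, true, [[6, 1, 0, 2, 1, 3, 2, 3], [6, 1, 2, 3, 2, 1, 4, 3, 2, 1, 3, 2, 5, 1, 2], [6, 1, 0, 1, 2, 3, 2, 1, 4, 3, 2, 1, 3, 5, 1, 0], [6, 1, 0, 2, 3, 2, 1, 4, 3, 2, 3, 2, 4, 3], [6, 1, 0, 2, 1, 3, 2, 4, 3, 2, 5, 1, 0, 2, 3]]),
  (130, false, [[6, 1, 2, 3, 2, 1, 6, 5, 1], [6, 1, 0, 2, 1, 3, 2, 4, 3, 5, 1, 2, 3, 6, 1, 0], [6, 1, 0, 2, 3, 2, 1, 0, 4, 3, 5], [6, 1, 0, 1, 2, 3, 2, 1, 4, 3, 2, 1, 0, 5, 1], [6, 1, 0, 2, 3, 2, 1, 0, 4, 3, 2, 3, 5, 1, 2, 3, 2], [6, 1, 2, 3, 2, 4, 3, 2, 1, 0], [6, 1, 0, 1, 2, 3, 2, 1, 4, 3, 2, 3, 2, 5], [6, 1, 0, 2, 3, 2, 4, 3, 2, 1, 0], [6, 1, 0, 2, 1, 3, 2, 4, 3, 2, 5, 1, 2, 3, 4], [6, 1, 2, 3, 2, 1, 0, 4, 3, 2, 1, 5, 1]]),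
  (105, false, [[6, 1, 0, 2, 1, 3, 2, 4, 6], [6, 1, 0, 2, 1, 3, 2, 4, 3, 2, 6, 5, 1, 0, 1, 6], [6, 1, 0, 1, 2, 1, 3, 2, 4, 3, 2, 5, 1, 6, 5], [6, 1, 0, 2, 3, 2, 1, 4, 3, 2, 1, 0, 3, 4], [6, 1, 2, 3, 2, 1, 0, 4, 3, 2, 1, 0, 1, 0, 3, 2], [6, 1, 2, 3, 2, 1, 4, 5, 6, 1, 5], [6, 1, 2, 3, 2, 1, 4, 3, 2, 1, 3, 5, 1], [6, 1, 0, 2, 3, 2, 1, 4, 3, 2, 1, 3, 4, 6], [6, 1, 2, 3, 2, 1, 0, 4, 3, 2, 1, 6, 5, 1, 2, 3], [6, 1, 0, 1, 2, 1, 3, 2, 4, 3, 2, 5, 1, 0, 1, 0, 2]]),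
  (134, false, [[6, 1, 0, 1, 2, 1, 3, 2, 1, 4], [6, 1, 0, 2, 1, 3, 2, 4, 3, 2, 1, 6, 1, 5, 1, 0], [6, 1, 2, 3, 2, 1, 0, 4, 3, 2, 5, 1, 6, 5], [6, 1, 2, 3, 2, 1, 0, 4, 3, 2], [6, 1, 0, 2, 1, 3, 2, 4, 3, 2, 5, 1, 0, 1, 2, 6], [6, 1, 0, 1, 2, 1, 3, 2, 1, 4, 3, 2, 3, 5], [6, 1, 2, 3, 2, 1, 0, 4, 3, 2, 3, 4, 6], [6, 1, 0, 2, 3, 2, 1, 4, 3, 2, 6], [6, 1, 0, 2, 3, 2, 1, 0, 4, 3, 2, 1, 3, 2, 5], [6, 1, 0, 2, 3, 2, 1, 0, 4, 3, 2, 1, 0, 3, 4]])]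
  zTree := .kid 717 [[6, 1, 0, 1, 2, 1, 3, 2, 4, 3, 2, 1, 6, 5]] (.kid 1639 [[6, 1, 2, 3, 2, 4, 3, 2, 1, 0, 6, 1, 2, 5, 1, 0]] (suzZTree25) (.nil)) (.kid 1639 [[6, 1, 2, 3, 2, 4, 3, 2, 1, 0, 6, 1, 2, 5, 1, 0]] (.kid 717 [[6, 1, 0, 1, 2, 1, 3, 2, 4, 3, 2, 1, 6, 5]] (.kid 296 [[6, 1, 2, 3, 2, 1, 4, 3, 2, 1, 3], [6, 1, 0, 2, 1, 3, 2, 4, 3, 2, 5, 1, 2, 6, 1], [6, 1, 0, 2, 1, 3, 2, 4, 3, 2, 1, 6, 5, 1, 0, 2, 3], [6, 1, 0, 2, 1, 3, 2, 3, 4, 3, 2, 1, 3, 6, 5], [6, 1, 0, 1, 2, 1, 3, 2, 1, 4, 3, 2, 3, 5, 1]] (.nil) (suzZTree12)) (.nil)) (.nil))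
  gens := [[0, 0, 0, 0, 0, 0, 0, 0, 0, 1, 1, 1, 1, 1, 1, 2, 0, 0, 0, 0, 2, 0, 0, 0, 0, 0, 0, 0, 0, 0, 2, 2, 2, 0, 0, 0, 0, 0, 2, 0, 0, 0, 0, 0, 2, 2, 2, 0, 0, 0, 0, 0, 2, 2, 2, 0, 0, 0, 0, 0, 0, 0, 2, 2, 2, 0, 0, 0, 0, 2, 0, 0, 0, 0], [0, 0, 0, 0, 2, 2, 2, 0, 0, 0, 0, 2, 2, 2, 0, 0, 0, 0, 0, 0, 0, 0, 2, 0, 0, 0, 0, 0, 0, 0, 0, 0, 2, 2, 2, 1, 1, 2, 2, 2, 0, 0, 2, 2, 2, 0, 0, 0, 2, 0, 0, 0, 0, 0, 0, 0, 0, 0, 0, 0, 0, 0, 0, 0, 0, 0, 0, 2, 0, 0, 0, 0, 0, 0, 0], [0, 0, 0, 2, 2, 2, 0, 0, 0, 0, 0, 0, 0, 0, 2, 0, 0, 0, 0, 0, 2, 2, 2, 0, 0, 2, 2, 0, 0, 0, 0, 0, 0, 0, 0, 0, 2, 0, 0, 0, 0, 0, 0, 2, 2, 2, 0, 0, 0, 2, 0, 0, 0, 0, 0, 0, 0, 0], [2, 0, 0, 2, 0, 0, 0, 0, 0, 0, 0,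 0, 0, 0, 2, 2, 2, 0, 0, 0, 0, 0, 0, 0, 0, 0, 0, 2, 2, 2, 0, 1, 1, 1, 1, 1, 1, 2, 2, 2, 0, 0, 0, 0, 0, 0, 0, 0, 0, 0, 2, 2, 2, 0, 0, 2, 2, 2, 0, 0, 0, 0, 0, 0, 0, 0, 0, 0, 2, 0], [0, 0, 0, 0, 0, 2, 0, 0, 0, 0, 2, 2, 2, 0, 0, 0, 0, 0, 0, 0, 0, 0, 2, 0, 0, 0, 0, 0, 0, 0, 0, 0, 2, 2, 2, 0, 0, 0, 0, 0, 0, 0, 0, 0, 0, 2, 2, 2, 0, 0, 0, 0, 0, 0, 0, 2, 0, 2, 2, 2, 0, 0, 0, 0, 0, 0, 2, 0, 0, 0, 0, 0, 0], [0, 0, 0, 0, 0, 2, 2, 2, 0, 0, 2, 2, 2, 0, 0, 0, 0, 2, 0, 2, 1, 1, 1, 1, 2, 0, 2, 0, 0, 0, 0, 0, 0, 0, 2, 0, 0, 0, 0, 0, 0, 0, 0, 0, 2, 0, 0, 0, 0, 0, 0], [2, 0, 0, 0, 0, 0, 0, 0, 0, 0, 2, 2, 2, 0, 0, 0, 0, 2, 0, 0, 0, 0, 0, 0, 0, 0, 0, 2, 2, 2, 0, 0, 0, 2, 0, 0, 0, 2, 0,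 0, 0, 0, 0, 0, 0, 0, 2, 0, 0, 0, 0, 0, 0, 0, 2, 0, 0, 2, 0, 0, 0, 0, 0, 0]]
  fws := [[3, 4, 3, 0, 1, 0, 1, 0, 2, 3, 2, 1, 2, 3, 0, 1, 2, 0, 1, 2, 3, 2, 4, 3, 0, 1, 5, 0, 1, 0, 1, 6, 1, 2, 3, 2, 1, 0, 4, 3, 2, 5, 1, 0, 2, 6, 6, 1, 2, 3, 2, 1, 0, 4, 3, 2, 3, 5, 1, 0, 1, 0, 1, 0, 1, 5, 2, 3, 4, 2, 3, 2, 1, 6, 6, 1, 0, 2, 3, 2, 1, 0, 4, 3, 2, 5, 1, 0, 6, 1, 2, 3, 2, 1, 4, 3, 2, 1, 0, 1, 0, 3, 2, 1, 6, 1, 5, 3, 2, 3, 4, 0, 1, 2, 3, 2, 0, 1, 6, 6, 1, 2, 3, 2, 1, 0, 4, 3, 2, 1, 0], [3, 4, 3, 0, 1, 0, 1, 0, 2, 3, 2, 1, 2, 3, 0, 1, 2, 0, 1, 2, 3, 2, 4, 3, 0, 1, 0, 1, 0, 2, 3, 2, 1, 2, 3, 0, 1, 2, 0, 1, 2, 3, 2, 4, 3, 3, 4, 3, 0, 1, 5, 0, 3, 1, 0, 1, 6, 1, 0, 2, 1, 3, 2, 1,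 3, 4, 3, 2, 3, 5, 1, 2, 6, 5, 6, 1, 0, 2, 3, 2, 1, 4, 3, 2, 1, 5, 2, 1, 0, 1, 2, 3, 4, 2, 3, 2, 1, 6, 6, 1, 0, 2, 1, 0, 3, 4, 5, 6, 1, 0, 2, 1, 3, 2, 4, 3, 5, 1, 0, 2, 1, 0, 6, 1, 0, 1, 5, 6, 2, 3, 1, 2, 0, 1, 6, 6, 1, 2, 3, 2, 1, 4, 3, 2, 1, 0, 1, 3, 6, 5], [0, 1, 0, 1, 0, 2, 3, 2, 1, 2, 3, 0, 1, 2, 0, 1, 2, 3, 2, 4, 3, 3, 4, 3, 6, 4, 1, 2, 1, 3, 1, 2, 5, 1, 2, 4, 4, 3, 0, 1, 2, 0, 1, 6, 5, 3, 2, 3, 2, 2, 3, 0, 4, 2, 3, 4, 2, 6, 1, 0, 2, 1, 3, 4, 5, 6, 1, 0, 2, 1, 3, 2, 1, 0, 1, 4, 3, 2, 6, 5, 6, 1, 2, 3, 4, 2, 3, 1, 2, 0, 1, 6, 6, 1, 0, 2, 1, 3, 2, 4, 3, 5, 1, 2, 6, 5], [6, 4, 1, 2, 1, 3, 1, 2, 5, 1, 2, 4, 4, 3, 0, 1, 2, 0, 1, 6, 5, 3, 2, 3, 2, 2, 3, 2, 6, 4, 0,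 5, 1, 0, 3, 5, 1, 0, 1, 6, 6, 1, 0, 2, 1, 3, 2, 1, 4, 3, 5, 1, 0, 6, 1, 2, 3, 2, 1, 4, 3, 2, 5, 1, 6, 1, 0, 6, 4, 1, 2, 3, 2, 0, 1, 6, 6, 1, 0, 1, 2, 3, 2, 4, 3, 2, 1, 0, 1, 2, 5], [3, 1, 4, 0, 1, 2, 0, 3, 1, 2, 3, 1, 6, 6, 0, 1, 2, 0, 1, 0, 2, 3, 2, 3, 4, 3, 3, 6, 1, 2, 3, 2, 4, 3, 2, 1, 0, 6, 6, 1, 2, 3, 2, 5, 1, 5, 2, 3, 4, 0, 1, 2, 3, 1, 2, 0, 1, 6, 6, 1, 2, 3, 2, 4, 3, 2, 5, 1, 2, 6, 5, 1, 6, 1, 2, 3, 2, 1, 4, 3, 2, 1, 1, 0, 1, 5, 0, 1, 2, 3, 4, 2, 3, 2, 1, 6, 6, 1, 0, 1, 2, 3, 2, 1, 4, 3, 2, 5, 6, 1, 0, 2, 3], [0, 1, 0, 1, 0, 2, 3, 2, 1, 2, 3, 0, 1, 2, 0, 1, 2, 3, 2, 4, 3, 3, 4, 3, 0, 1, 5, 4, 0, 1, 0, 1, 6, 1, 0, 2, 1, 3, 2, 1, 5, 1, 0, 6, 1, 2, 3, 2, 4, 3,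 2, 1, 5, 1, 0, 2, 1, 0, 6, 6, 1, 5, 0, 1, 2, 3, 2, 0, 1, 6, 6, 1, 2, 3, 2, 1, 4, 3, 2, 5, 6, 1, 0, 2, 1, 2, 3, 4, 2, 3, 2, 1, 6, 5, 1, 2, 3, 4, 1, 2, 3, 2, 1, 6, 6, 1, 0, 2, 1, 3, 2, 1, 3, 6, 1, 0, 1, 2, 3, 2, 1, 4, 3, 2, 5, 6, 1, 0, 1, 6, 3, 4, 0, 1, 2, 3, 2, 0, 1, 6, 6, 1, 2, 3, 2, 4, 3, 2, 5, 1, 0, 2, 1, 0], [0, 1, 5, 0, 3, 1, 0, 1, 6, 1, 2, 3, 2, 1, 4, 3, 2, 1, 3, 4, 5, 6, 6, 1, 0, 2, 3, 2, 1, 0, 4, 3, 5, 1, 0, 2, 3, 1, 2, 0, 1, 6, 5, 2, 3, 4, 1, 2, 3, 2, 1, 0, 1, 6, 2, 1, 3, 0, 2, 1, 4, 3, 6, 1, 0, 2, 1, 3, 2, 1, 3, 4, 5, 6, 1, 2, 3, 2, 1, 4, 3, 2, 1, 5, 1, 6, 3, 2, 3, 4, 0, 1, 2, 3, 2, 1, 6, 6, 1, 0, 2, 1, 3, 2, 3, 4, 3, 5, 1, 2, 3]]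

end Cfsg.Agent.OutColour
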