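/-
Outer automorphism groups of order 2 from colour certificates.
Main results: `card_out_two_of_data`, `Cert.card_out_eq_two`.
-/
import Cfsg.Agent.Lib.OutColour.Bridge
import Cfsg.Agent.Lib.OutColour.Cert
import Cfsg.Agent.Lib.OutCert.Basic

set_option autoImplicit false

namespace Cfsg.Agent.OutColour

open Cfsg.Agent.CosetEnum
open Cfsg.Agent.CosetEnum.Data (ev)

section group

variable {G : Type} [Group G]

/-- Homomorphisms commute with evaluation of words. -/
theorem map_ev {H : Type} [Group H] (f : G →* H) (el : ℕ → G) :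
    ∀ w : List ℕ, f (ev el w) = ev (fun a => f (el a)) w
  | [] => map_one f
  | a :: w => by
    show f (ev el w * el a) = ev (fun a => f (el a)) w * f (el a)
    rw [map_mul, map_ev f el w]

theorem ev_replicate (el : ℕ → G) (a : ℕ) : ∀ m, ev el (List.replicate m a) = el a ^ m
  | 0 => (pow_zero _).symm
  | m + 1 => by
    show ev el (List.replicate m a) * el a = _
    rw [ev_replicate el a m, pow_succ]

theorem ev_flatten (el : ℕ → G) (w : List ℕ) :
    ∀ m, ev el (List.replicate m w).flatten = ev el w ^ m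
  | 0 => (pow_zero _).symm
  | m + 1 => by
    rw [List.replicate_succ, List.flatten_cons, Data.ev_append, ev_flatten el w m, pow_succ]

/-- The normaliser of a Sylow subgroup of order `p` when it is not much larger than a known part. -/
theorem normalizer_eq [Finite G] {p r : ℕ} [hp : Fact p.Prime] {x y : G} (s : ℕ)
    (hx : orderOf x = p) (hy : orderOf y = r) (hyx : y * x * y⁻¹ = x ^ s) (hcop : Nat.Coprime p r)
    (hp2 : ¬ p ^ 2 ∣ Nat.card G) {L : ℕ} (hC : Nat.card (Subgroup.centralizer {x} : Subgroup G) ≤ L)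
    (hL : L * p < 3 * (p * r)) (hidx : Nat.card G / (2 * (p * r)) % p ≠ 1)
    {g : G} (hg : g * x * g⁻¹ ∈ Subgroup.zpowers x) : ∃ a b : ℕ, g = x ^ a * y ^ b := by
  classical
  set N := Subgroup.normalizer ((Subgroup.zpowers x : Subgroup G) : Set G) with hN
  have hmemN : ∀ h : G, h * x * h⁻¹ ∈ Subgroup.zpowers x → h ∈ N := by
    intro h hh
    rw [hN, Subgroup.mem_normalizer_iff]
    have hle : (Subgroup.zpowers x).map (MulAut.conj h).toMonoidHom = Subgroup.zpowers x := by
      refine Subgroup.eq_of_le_of_card_ge ?_ ?_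
      · rw [MonoidHom.map_zpowers, Subgroup.zpowers_le]
        exact hh
      · rw [Subgroup.card_map_of_injective (MulAut.conj h).injective]
    intro n
    constructor
    · intro hn
      have := Subgroup.mem_map_of_mem (MulAut.conj h).toMonoidHom hn
      rw [hle] at this
      exact this
    · intro hn
      change h * n * h⁻¹ ∈ Subgroup.zpowers x at hn
      rw [← hle] at hn
      obtain ⟨m, hm, e⟩ := hn
      rwa [← (MulAut.conj h).injective e]
  have hxN : x ∈ N := Subgroup.le_normalizer (Subgroup.mem_zpowers x)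
  have hyN : y ∈ N := hmemN y (hyx ▸ pow_mem (Subgroup.mem_zpowers x) s)
  have hk : ∀ n : N, ∃ k : Fin p, (n : G) * x * (n : G)⁻¹ = x ^ (k : ℕ) := by
    intro n
    have h1 := (Subgroup.mem_normalizer_iff.1 n.2 x).1 (Subgroup.mem_zpowers x)
    obtain ⟨k, hk, e⟩ := mem_zpowers_iff_mem_range_orderOf.mp h1 |> fun h => by
      simpa [hx] using h
    exact ⟨⟨k, hk⟩, e.symm⟩
  choose κ hκ using hk
  have hNle : Nat.card N ≤ L * p := by
    let rep : Fin p → N := fun k => if h : ∃ n, κ n = k then h.choose else 1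
    have hrep : ∀ n : N, κ (rep (κ n)) = κ n := fun n => by
      have h : ∃ m, κ m = κ n := ⟨n, rfl⟩
      simp only [rep, dif_pos h]
      exact h.choose_spec
    have hmem : ∀ n : N, ((rep (κ n) : G))⁻¹ * n ∈ Subgroup.centralizer {x} := by
      intro n
      rw [Subgroup.mem_centralizer_singleton_iff]
      have e1 := hκ n
      have e2 := hκ (rep (κ n))
      rw [hrep] at e2
      rw [← e2] at e1
      set a : G := (rep (κ n) : G)
      calc a⁻¹ * n * x = a⁻¹ * ((n : G) * x * (n : G)⁻¹) * n := by group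
        _ = a⁻¹ * (a * x * a⁻¹) * n := by rw [e1]
        _ = x * (a⁻¹ * n) := by group
    refine le_trans (Nat.card_le_card_of_injective (fun n : N =>
      ((⟨_, hmem n⟩ : (Subgroup.centralizer {x} : Subgroup G)), κ n)) fun n m e => ?_) ?_
    · obtain ⟨e1, e2⟩ := Prod.mk.injEq _ _ _ _ ▸ e
      have e3 := congrArg Subtype.val e1
      simp only [e2] at e3
      exact Subtype.ext (mul_left_cancel e3)
    · rw [Nat.card_prod, Nat.card_fin]
      exact Nat.mul_le_mul_right p hC
  have hdx : p ∣ Nat.card N := hx ▸ Subgroup.orderOf_dvd_natCard N hxN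
  have hdy : r ∣ Nat.card N := hy ▸ Subgroup.orderOf_dvd_natCard N hyN
  have hd : p * r ∣ Nat.card N := hcop.mul_dvd_of_dvd_of_dvd hdx hdy
  have hcardN : Nat.card N = p * r := by
    obtain ⟨m, hm⟩ := hd
    have hpos : 0 < Nat.card N := Nat.card_pos
    have hm3 : m < 3 := by
      by_contra hm3
      have : p * r * 3 ≤ p * r * m := Nat.mul_le_mul_left _ (by omega)
      omega
    interval_cases m
    · omega
    · omega
    · exfalso
      have hfac : p ^ (Nat.card G).factorization p = p := by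
        have hne : Nat.card G ≠ 0 := Nat.card_pos.ne'
        have h1 : p ∣ Nat.card G := hx ▸ orderOf_dvd_natCard x
        have h3 := (hp.out.pow_dvd_iff_le_factorization hne).not.1 hp2
        have h4 := (hp.out.pow_dvd_iff_le_factorization (k := 1) hne).1 (by rwa [pow_one])
        rw [show (Nat.card G).factorization p = 1 by omega, pow_one]
      let P : Sylow p G := Sylow.ofCard (Subgroup.zpowers x) (by rw [Nat.card_zpowers, hx, hfac])
      have h1 := card_sylow_modEq_one p G
      rw [P.card_eq_index_normalizer] at h1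
      change N.index % p = 1 % p at h1
      rw [Nat.one_mod_eq_one.2 hp.out.ne_one] at h1
      apply hidx
      rw [← Subgroup.card_mul_index N, hm, show p * r * 2 = 2 * (p * r) by ring,
        Nat.mul_div_cancel_left _ (by omega)]
      exact h1
  have hinj : Function.Injective (fun ab : Fin p × Fin r =>
      (⟨x ^ (ab.1 : ℕ) * y ^ (ab.2 : ℕ), N.mul_mem (pow_mem hxN _) (pow_mem hyN _)⟩ : N)) := by
    rintro ⟨a, b⟩ ⟨a', b'⟩ e
    have e1 : x ^ (a : ℕ) * y ^ (b : ℕ) = x ^ (a' : ℕ) * y ^ (b' : ℕ) := congrArg Subtype.val e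
    have e2 : (x ^ (a' : ℕ))⁻¹ * x ^ (a : ℕ) = y ^ (b' : ℕ) * (y ^ (b : ℕ))⁻¹ := by
      rw [eq_mul_inv_iff_mul_eq, mul_assoc, e1, inv_mul_cancel_left]
    have e3 : y ^ (b' : ℕ) * (y ^ (b : ℕ))⁻¹ = 1 := by
      rw [← orderOf_eq_one_iff]
      refine Nat.eq_one_of_dvd_coprimes hcop ?_ ?_
      · have : (x ^ (a' : ℕ))⁻¹ * x ^ (a : ℕ) ∈ Subgroup.zpowers x :=
          mul_mem (inv_mem (pow_mem (Subgroup.mem_zpowers x) _)) (pow_mem (Subgroup.mem_zpowers x) _)
        have hd := Subgroup.orderOf_dvd_natCard _ this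
        rwa [Nat.card_zpowers, hx, e2] at hd
      · have hd := Subgroup.orderOf_dvd_natCard (Subgroup.zpowers y)
          (mul_mem (pow_mem (Subgroup.mem_zpowers y) (b' : ℕ)) (inv_mem (pow_mem (Subgroup.mem_zpowers y) (b : ℕ))))
        rwa [Nat.card_zpowers, hy] at hd
    rw [mul_inv_eq_one] at e3
    rw [e3, mul_left_inj] at e1
    have hb : b = b' := Fin.ext (pow_injOn_Iio_orderOf (by simp [hy]) (by simp [hy]) e3.symm)
    have ha : a = a' := Fin.ext (pow_injOn_Iio_orderOf (by simp [hx]) (by simp [hx]) e1)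
    rw [ha, hb]
  have hbij := hinj.bijective_of_nat_card_le (by rw [Nat.card_prod, Nat.card_fin, Nat.card_fin, hcardN])
  obtain ⟨⟨a, b⟩, e⟩ := hbij.2 ⟨g, hmemN g hg⟩
  exact ⟨a, b, (congrArg Subtype.val e).symm⟩

/-- The outer automorphism group has order 2. -/
theorem card_out_two_of_data [Finite G] [IsSimpleGroup G] {p r : ℕ} [hp : Fact p.Prime]
    {x y z zf : G} {s e i0 : ℕ} (hx : orderOf x = p) (hy : orderOf y = r)
    (hyx : y * x * y⁻¹ = x ^ s) (hzy : z * y = y ^ e * z)
    (hp2 : ¬ p ^ 2 ∣ Nat.card G) (hs : ∀ b < r, s ^ b % p = 1 → b = 0) (hs1 : s ^ r % p = 1)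
    (hr : 1 < r)
    (hN : ∀ g : G, g * x * g⁻¹ ∈ Subgroup.zpowers x → ∃ a b : ℕ, g = x ^ a * y ^ b)
    (I : List ℕ) (hI : ∀ i < p, i ≠ 0 → ∃ b, b < r ∧ (s ^ b * i) % p ∈ I)
    (hcases : ∀ i ∈ I, ∀ β : MulAut G, β x = x ^ i → β y = y →
      (i = 1 ∧ β z = z) ∨ (i = i0 ∧ β z = zf))
    (f : G →* G) (hfx : f x = x ^ i0) (hfy : f y = y) (hfz : f z = zf)
    (hgen : Subgroup.closure ({x, y, z} : Set G) = ⊤) (hi0 : i0 % p ≠ 0)
    (hib : ∀ b < r, s ^ b % p = i0 % p → b = 0) (hne : i0 % p = 1 → z ≠ zf) :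
    Nat.card (Cfsg.Out G) = 2 := by
  have hpp := hp.out
  have hf0 : f x ≠ 1 := by
    rw [hfx, Ne, ← orderOf_dvd_iff_pow_eq_one, hx]
    exact fun h => hi0 (Nat.mod_eq_zero_of_dvd h |>.trans rfl)
  have hinj : Function.Injective f := by
    rw [← MonoidHom.ker_eq_bot_iff]
    refine (IsSimpleGroup.eq_bot_or_eq_top_of_normal _ f.normal_ker).resolve_right fun h => hf0 ?_
    have hxk : x ∈ f.ker := by rw [h]; trivial
    exact hxk
  let F : MulAut G := MulEquiv.ofBijective f ⟨hinj, Finite.surjective_of_injective hinj⟩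
  have hFout : (F : Cfsg.Out G) ≠ 1 := by
    rw [Ne, QuotientGroup.eq_one_iff]
    rintro ⟨g, hg⟩
    have e : ∀ a, g * a * g⁻¹ = f a := fun a => by
      have := DFunLike.congr_fun hg a
      rwa [MulAut.conj_apply] at this
    have hgx : g * x * g⁻¹ = x ^ i0 := (e x).trans hfx
    obtain ⟨a, b, rfl⟩ := hN g (hgx ▸ pow_mem (Subgroup.mem_zpowers x) _)
    have conjpow : ∀ k : ℕ, y ^ k * x * (y ^ k)⁻¹ = x ^ (s ^ k) := by
      intro k
      induction k with
      | zero => simp
      | succ k ih =>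
        rw [pow_succ', show y * y ^ k * x * (y * y ^ k)⁻¹ = y * (y ^ k * x * (y ^ k)⁻¹) * y⁻¹ by group,
          ih, ← conj_pow, hyx, ← pow_mul, pow_succ']
    have hby : y ^ b = y ^ (b % r) := by rw [← hy, pow_mod_orderOf]
    have hb : b % r = 0 := by
      refine hib _ (Nat.mod_lt _ (by omega)) ?_
      rw [hby, show x ^ a * y ^ (b % r) * x * (x ^ a * y ^ (b % r))⁻¹ =
        x ^ a * (y ^ (b % r) * x * (y ^ (b % r))⁻¹) * (x ^ a)⁻¹ by group, conjpow,
        mul_inv_eq_iff_eq_mul, ← pow_add, ← pow_add, Nat.add_comm a, pow_add, pow_add, mul_left_inj,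
        pow_eq_pow_iff_modEq, hx] at hgx
      exact hgx
    rw [hby, hb, pow_zero, mul_one] at hgx e
    have hi1 : i0 % p = 1 := by
      have h1 : x ^ i0 = x ^ 1 := by
        rw [← hgx, pow_one, ← pow_succ, pow_succ', mul_inv_cancel_right]
      rw [pow_eq_pow_iff_modEq, hx] at h1
      exact (show i0 % p = 1 % p from h1).trans (Nat.one_mod_eq_one.2 hpp.ne_one)
    have hya : y * x ^ a * y⁻¹ = x ^ a := by
      have h1 := e y
      rw [hfy, mul_inv_eq_iff_eq_mul] at h1
      rw [mul_inv_eq_iff_eq_mul]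
      exact h1.symm
    rw [← conj_pow, hyx, ← pow_mul, pow_eq_pow_iff_modEq, hx] at hya
    have ha : x ^ a = 1 := by
      rw [← orderOf_dvd_iff_pow_eq_one, hx]
      rcases Nat.eq_zero_or_pos (a % p) with h | h
      · exact Nat.dvd_of_mod_eq_zero h
      · exfalso
        have hcop : Nat.Coprime p a := (hpp.coprime_iff_not_dvd).2 fun h' => by
          rw [Nat.mod_eq_zero_of_dvd h'] at h
          exact lt_irrefl 0 h
        have h2 : s ≡ 1 [MOD p] := Nat.ModEq.cancel_right_of_coprime (c := a) hcop (by rwa [one_mul])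
        have h3 := hs 1 hr (by rw [pow_one, h2, Nat.one_mod_eq_one.2 hpp.ne_one])
        exact one_ne_zero h3
    refine hne hi1 ?_
    have h2 := e z
    rw [hfz, ha, one_mul, inv_one, mul_one] at h2
    exact h2
  have key : ∀ q : Cfsg.Out G, q = 1 ∨ q = (F : Cfsg.Out G) := by
    intro q
    induction q using QuotientGroup.induction_on with
    | _ α =>
      obtain ⟨g, i, hi, hgx, hgy⟩ :=
        Cfsg.Agent.OutCert.exists_inner_normal s hx hp2 hy hyx hs hs1 hr hN I hI α
      set β : MulAut G := MulAut.conj g * α with hβ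
      have hβx : β x = x ^ i := by rw [hβ, MulAut.mul_apply, MulAut.conj_apply]; exact hgx
      have hβy : β y = y := by rw [hβ, MulAut.mul_apply, MulAut.conj_apply]; exact hgy
      have hq : ((α : MulAut G) : Cfsg.Out G) = (β : Cfsg.Out G) := by
        rw [hβ, QuotientGroup.mk_mul, (QuotientGroup.eq_one_iff (N := Cfsg.Inn G) (MulAut.conj g)).2 ⟨g, rfl⟩, one_mul]
      rw [hq]
      have hext : ∀ γ : MulAut G, β x = γ x → β y = γ y → β z = γ z → β = γ := by
        intro γ h1 h2 h3
        have : β.toMonoidHom = γ.toMonoidHom := MonoidHom.eq_of_eqOn_dense hgen (by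
          intro a ha
          simp only [Set.mem_insert_iff, Set.mem_singleton_iff] at ha
          rcases ha with rfl | rfl | rfl
          exacts [h1, h2, h3])
        exact MulEquiv.ext fun a => DFunLike.congr_fun this a
      rcases hcases i hi β hβx hβy with ⟨hi1, hz⟩ | ⟨hi1, hz⟩
      · left
        rw [hext 1 (by rw [hβx, hi1, pow_one]; rfl) hβy hz]
        rfl
      · right
        rw [hext F (by rw [hβx, hi1]; exact hfx.symm) (by rw [hβy]; exact hfy.symm) (by rw [hz]; exact hfz.symm)]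
  rw [Nat.card_eq_two_iff]
  exact ⟨1, F, fun h => hFout h.symm, Set.eq_univ_of_forall fun q => by simpa using key q⟩

end group

variable {Gen : Type} [DecidableEq Gen] {S : Setup Gen} {D : Data} {hs : List (FreeGroup Gen)}

namespace Cert

variable {c : Cert}

theorem withBase_spec (T : Setup.Table S D hs) {K : Env → List ℕ → Bool}
    (h : c.withBase D K = true) :
    ∃ (E : Env) (C : Ctx S.G D E) (V : List ℕ), C.el = S.el ∧
      C.ρ = Setup.hom T.gens T.letters T.perm T.rels ∧ E.cls = c.cls ∧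
      (∀ a < 5, (∀ b ∈ c.ws.getD a [], b < D.k) ∧ C.Is (V.getD a 0) (ev S.el (c.ws.getD a []))) ∧
      K E V = true := by
  unfold withBase at h
  rw [Bool.and_eq_true, beq_iff] at h
  obtain ⟨E, C, he, hρ, hc, h'⟩ := ctx_spec T h.2
  obtain ⟨V, -, hV, h'⟩ := withTraces_spec C h'
  refine ⟨E, C, V, he, hρ, hc, fun a ha => ?_, h'⟩
  have := hV a (h.1 ▸ ha)
  rwa [he] at this

/-- The element of a certificate word. -/
def elt (c : Cert) (S : Setup Gen) (a : ℕ) : S.G := ev S.el (c.ws.getD a [])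

/-- Agreement on the roots is equality. -/
theorem eqW_spec {E : Env} (C : Ctx S.G D E) {V : List ℕ} {gs : ℕ → S.G} {u v : List ℕ}
    (hroots : ∀ g : S.G, (∀ b ∈ c.roots, C.pt g b = b) → g = 1) (hlt : ∀ b ∈ c.roots, b < D.n)
    (hu : ∀ a ∈ u, C.Is (V.getD a 0) (gs a)) (hv : ∀ a ∈ v, C.Is (V.getD a 0) (gs a))
    (h : c.eqW E.B V u v = true) : ev gs u = ev gs v := by
  refine eq_of_inv_mul_eq_one (hroots _ fun b hb => ?_)
  have h1 := List.all_eq_true.1 h b hb
  rw [beq_iff, C.walk_eq hu (hlt b hb), C.walk_eq hv (hlt b hb)] at h1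
  rw [C.pt_mul, ← h1, C.pt_inv]

theorem neW_spec {E : Env} (C : Ctx S.G D E) {V : List ℕ} {gs : ℕ → S.G} {u v : List ℕ}
    (hlt : ∀ b ∈ c.roots, b < D.n)
    (hu : ∀ a ∈ u, C.Is (V.getD a 0) (gs a)) (hv : ∀ a ∈ v, C.Is (V.getD a 0) (gs a))
    (h : c.neW E.B V u v = true) : ev gs u ≠ ev gs v := by
  intro e
  obtain ⟨b, hb, h1⟩ := List.any_eq_true.1 h
  rw [C.walk_eq hu (hlt b hb), C.walk_eq hv (hlt b hb), e, Nat.beq_refl] at h1
  exact Bool.false_ne_true h1

/-- Facts proved by the element checks. -/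
structure ElemFacts (c : Cert) (S : Setup Gen) : Prop where
  xp : c.elt S 0 ^ c.p = 1
  x1 : c.elt S 0 ≠ 1
  yr : c.elt S 1 ^ c.r = 1
  y1 : ∀ k < c.r, k ≠ 0 → c.elt S 1 ^ k ≠ 1
  yx : c.elt S 1 * c.elt S 0 = c.elt S 0 ^ c.s * c.elt S 1
  zy : c.elt S 2 * c.elt S 1 = c.elt S 1 ^ c.e * c.elt S 2
  ye : c.elt S 4 = c.elt S 1 ^ c.e
  zf : c.i0 % c.p = 1 → c.elt S 2 ≠ c.elt S 3
  rels : ∀ R ∈ c.rels, (∀ a ∈ R, a < 3) ∧
    ev (Ctx.tri (c.elt S 0) (c.elt S 1) (c.elt S 2)) R = 1

/-- Any context has the same roots stabiliser. -/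
theorem roots_spec (T : Setup.Table S D hs) {E : Env} (C : Ctx S.G D E)
    (hρ : C.ρ = Setup.hom T.gens T.letters T.perm T.rels) {chain : List OrbitData}
    (hchain : Setup.chainOK D chain [] = true)
    (hinj : Function.Injective (Setup.hom T.gens T.letters T.perm T.rels))
    (hcard : Setup.chainSize chain = Nat.card S.G) (hroots : c.roots = chain.map fun O => O.root) :
    ∀ g : S.G, (∀ b ∈ c.roots, C.pt g b = b) → g = 1 :=
  fun _ hg => eq_one_of_roots T C hρ hchain (hρ ▸ hinj) hcard (hroots ▸ hg)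

/-- Outer automorphism group of order 2 from a certificate. -/
theorem card_out_eq_two (c : Cert) (T : Setup.Table S D hs) {chain : List OrbitData}
    (hchain : Setup.chainOK D chain [] = true)
    (hinj : Function.Injective (Setup.hom T.gens T.letters T.perm T.rels))
    (hcard : Setup.chainSize chain = Nat.card S.G) [IsSimpleGroup S.G]
    (hroots : c.roots = chain.map fun O => O.root) (hp : c.p.Prime)
    (harith : c.arithOK (Nat.card S.G) = true)
    (helem : c.elemOK D (hs.map (S.wl D)) = true) (hcx : c.cxOK D = true) (hz : c.zOK D = true)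
    (hgen : c.genOK D = true) (hhom : c.homOK D (S.allRels.map (S.wl D)) = true) :
    Nat.card (Cfsg.Out S.G) = 2 := by
  classical
  have : Finite S.G := Finite.of_injective _ hinj
  have : Fact c.p.Prime := ⟨hp⟩
  set x := c.elt S 0 with hxdef
  set y := c.elt S 1 with hydef
  set z := c.elt S 2 with hzdef
  set zf := c.elt S 3 with hzfdef
  -- elements
  obtain ⟨E, C, V, he, hρ, hcls, hV, h⟩ := withBase_spec T helem
  simp only [Bool.and_eq_true, List.all_eq_true, Nat.blt_eq, Bool.or_eq_true, Bool.not_eq_true',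
    List.mem_range] at h
  obtain ⟨hclsE, hlt, h1, h2, h3, h4, h5, h6, h7, h8, h9⟩ := h
  have hR := roots_spec T C hρ hchain hinj hcard hroots (c := c)
  have hIs : ∀ {u : List ℕ}, (∀ a ∈ u, a < 5) → ∀ a ∈ u, C.Is (V.getD a 0) (c.elt S a) :=
    fun hu a ha => (hV a (hu a ha)).2
  have rep5 : ∀ {a : ℕ} (m : ℕ), a < 5 → ∀ b ∈ List.replicate m a, b < 5 :=
    fun m ha b hb => by rw [List.eq_of_mem_replicate hb]; exact ha
  have hxp : x ^ c.p = 1 := by
    have := eqW_spec C hR hlt (hIs (rep5 _ (by norm_num))) (hIs (by simp)) h1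
    rwa [ev_replicate] at this
  have hx1 : x ≠ 1 := by
    have := neW_spec C hlt (hIs (u := [0]) (by simp)) (hIs (u := []) (by simp)) h2
    rwa [show ev (c.elt S) [0] = x from one_mul _] at this
  have hyr : y ^ c.r = 1 := by
    have := eqW_spec C hR hlt (hIs (rep5 _ (by norm_num))) (hIs (by simp)) h3
    rwa [ev_replicate] at this
  have hy1 : ∀ k < c.r, k ≠ 0 → y ^ k ≠ 1 := fun k hk hk0 => by
    rcases h4 k hk with h | h
    · exact absurd (beq_iff.1 h) hk0
    · have := neW_spec C hlt (hIs (rep5 _ (by norm_num))) (hIs (u := []) (by simp)) h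
      rwa [ev_replicate] at this
  have hyx0 : y * x = x ^ c.s * y := by
    have := eqW_spec C hR hlt (hIs (u := [0, 1]) (by simp))
      (hIs (u := 1 :: List.replicate c.s 0) (by
        intro a ha
        rcases List.mem_cons.1 ha with rfl | ha
        · norm_num
        · exact rep5 _ (by norm_num) a ha)) h5
    rw [show ev (c.elt S) [0, 1] = 1 * y * x from rfl, one_mul] at this
    rw [this, show ev (c.elt S) (1 :: List.replicate c.s 0) = ev (c.elt S) (List.replicate c.s 0) * y from rfl,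
      ev_replicate]
  have hzy : z * y = y ^ c.e * z := by
    have := eqW_spec C hR hlt (hIs (u := [1, 2]) (by simp))
      (hIs (u := 2 :: List.replicate c.e 1) (by
        intro a ha
        rcases List.mem_cons.1 ha with rfl | ha
        · norm_num
        · exact rep5 _ (by norm_num) a ha)) h6
    rw [show ev (c.elt S) [1, 2] = 1 * z * y from rfl, one_mul] at this
    rw [this, show ev (c.elt S) (2 :: List.replicate c.e 1) = ev (c.elt S) (List.replicate c.e 1) * z from rfl,
      ev_replicate]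
  have hye : c.elt S 4 = y ^ c.e := by
    have := eqW_spec C hR hlt (hIs (u := [4]) (by simp)) (hIs (rep5 _ (by norm_num))) h7
    rwa [ev_replicate, show ev (c.elt S) [4] = c.elt S 4 from one_mul _] at this
  have hne : c.i0 % c.p = 1 → z ≠ zf := fun hi => by
    rcases h8 with h | h
    · rw [hi] at h; exact absurd h (by simp)
    · have := neW_spec C hlt (hIs (u := [2]) (by simp)) (hIs (u := [3]) (by simp)) h
      rwa [show ev (c.elt S) [2] = z from one_mul _, show ev (c.elt S) [3] = zf from one_mul _] at this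
  have hrels : ∀ R ∈ c.rels, ev (Ctx.tri x y z) R = 1 := fun R hR' => by
    obtain ⟨h3', h'⟩ := h9 R hR'
    refine eqW_spec C hR hlt (fun a ha => ?_) (fun a ha => absurd ha List.not_mem_nil) h'
    have := h3' a ha
    interval_cases a <;> exact (hV _ (by norm_num)).2
  clear hIs hV h1 h2 h3 h4 h5 h6 h7 h8 h9
  -- orders
  have hox : orderOf x = c.p := orderOf_eq_prime hxp hx1
  have hinv : ∀ {E' : Env} (C' : Ctx S.G D E'), C'.ρ = Setup.hom T.gens T.letters T.perm T.rels →
      E'.cls = c.cls → C'.Invariant := fun {E'} C' hρ' hc' => invariant T C' hρ' (by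
    unfold clsOK at hclsE ⊢
    rw [hc', ← hcls]
    exact hclsE)
  unfold arithOK at harith
  simp only [Bool.and_eq_true, decide_eq_true_eq, List.all_eq_true, Bool.or_eq_true, Bool.not_eq_true',
    List.mem_range, beq_eq_false_iff_ne, beq_iff_eq, List.any_eq_true, List.contains_iff_mem] at harith
  obtain ⟨⟨⟨⟨⟨⟨⟨⟨⟨hcop, hp2⟩, hr⟩, hs⟩, hs1⟩, hI⟩, hib⟩, hi0⟩, hL⟩, hidx⟩ := harith
  have hoy : orderOf y = c.r := by
    rw [orderOf_eq_iff (by omega)]
    exact ⟨hyr, fun k hk hk0 => hy1 k hk (by omega)⟩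
  have hyx : y * x * y⁻¹ = x ^ c.s := mul_inv_eq_iff_eq_mul.2 hyx0
  -- the centraliser
  have hC : Nat.card (Subgroup.centralizer {x} : Subgroup S.G)
      ≤ (bif c.cxCover then c.p else 1) * c.cxTab.length := by
    obtain ⟨E', C', V', he', hρ', hcls', hV', h⟩ := withBase_spec T hcx
    have hinv' : C'.Invariant := hinv C' hρ' hcls'
    have hX : C'.Is (V'.getD 0 0) x := (hV' 0 (by norm_num)).2
    obtain ⟨ls, hls, h⟩ := C'.withLevels_spec hX (hV' 0 (by norm_num)).1 (s2 := x)
      (by rw [he']; rfl) h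
    have hleaf : ∀ g : S.G, C'.Reached (c.cxLeaf E') g → ∃ k : Fin c.cxTab.length,
        ∃ st : St, C'.Resp g st ∧ (st.map fun e => e.1.1) = c.cxSrc ∧
          (st.map fun e => e.2.1) = c.cxTab.getD k [] ∧
          ∀ h : S.G, (∀ b ∈ c.cxSrc, C'.pt h b = b) → h = 1 := by
      rintro g ⟨k, st, hok, hst, hr'⟩
      simp only [cxLeaf, Bool.and_eq_true, Nat.blt_eq, beq_iff_eq] at hok
      refine ⟨⟨k, hok.1⟩, st, hr', hok.2.1, hok.2.2.1, fun h' hh => ?_⟩
      refine C'.rigid_sound hinv' (fun o ho => ?_) hlt hok.2.2.2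
        (roots_spec T C' hρ' hchain hinj hcard hroots) fun o ho => hh _ ?_
      · obtain ⟨e, hem, rfl⟩ := List.mem_map.1 ho
        exact (hst e hem).1
      · rw [← hok.2.1]
        obtain ⟨e, hem, rfl⟩ := List.mem_map.1 ho
        exact List.mem_map.2 ⟨e, hem, rfl⟩
    -- an element centralising `x` is determined by its key
    have hdet : ∀ g g' : S.G, ∀ k : Fin c.cxTab.length,
        (∃ st : St, C'.Resp g st ∧ (st.map fun e => e.1.1) = c.cxSrc ∧
          (st.map fun e => e.2.1) = c.cxTab.getD k [] ∧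
          ∀ h : S.G, (∀ b ∈ c.cxSrc, C'.pt h b = b) → h = 1) →
        (∃ st : St, C'.Resp g' st ∧ (st.map fun e => e.1.1) = c.cxSrc ∧
          (st.map fun e => e.2.1) = c.cxTab.getD k [] ∧
          ∀ h : S.G, (∀ b ∈ c.cxSrc, C'.pt h b = b) → h = 1) → g = g' := by
      rintro g g' k ⟨st, hg, h1, h2, hrig⟩ ⟨st', hg', h1', h2', -⟩
      have e1 : ∀ {g : S.G} {st : St}, C'.Resp g st →
          ((st.map fun e => e.1.1).map (C'.pt g)) = st.map fun e => e.2.1 := by
        intro g st hr'
        rw [List.map_map]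
        exact List.map_congr_left fun e he => hr' e he
      have e3 := (e1 hg).trans (h2.trans (h2'.symm.trans (e1 hg').symm))
      rw [h1, h1'] at e3
      refine eq_of_inv_mul_eq_one (hrig _ fun b hb => ?_) |>.symm
      rw [C'.pt_mul, List.map_inj_left.1 e3 b hb, C'.pt_inv]
    rcases hcov : c.cxCover with _ | _
    · rw [hcov, cond_false] at h
      have hkey : ∀ g : (Subgroup.centralizer {x} : Subgroup S.G), ∃ k : Fin c.cxTab.length,
          ∃ st : St, C'.Resp (g : S.G) st ∧ (st.map fun e => e.1.1) = c.cxSrc ∧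
          (st.map fun e => e.2.1) = c.cxTab.getD k [] ∧
          ∀ h : S.G, (∀ b ∈ c.cxSrc, C'.pt h b = b) → h = 1 := fun g =>
        hleaf g (C'.node_sound hinv' (Subgroup.mem_centralizer_singleton_iff.1 g.2) hX _ _ ls h hls)
      choose κ hκ using hkey
      rw [cond_false, one_mul, ← Nat.card_fin c.cxTab.length]
      exact Nat.card_le_card_of_injective κ fun g g' e => Subtype.ext (hdet _ _ _ (hκ g) (e ▸ hκ g'))
    · rw [hcov, cond_true] at h
      simp only [Bool.and_eq_true] at h
      obtain ⟨hne', hcov', h⟩ := h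
      rcases ls with _ | ⟨l, rest⟩
      · simp at hne'
      have hkey : ∀ g : (Subgroup.centralizer {x} : Subgroup S.G),
          ∃ a : Fin c.p × Fin c.cxTab.length,
          ∃ st : St, C'.Resp ((x ^ (a.1 : ℕ))⁻¹ * (g : S.G)) st ∧ (st.map fun e => e.1.1) = c.cxSrc ∧
          (st.map fun e => e.2.1) = c.cxTab.getD a.2 [] ∧
          ∀ h : S.G, (∀ b ∈ c.cxSrc, C'.pt h b = b) → h = 1 := fun g => by
        obtain ⟨k, hk, hreach⟩ := C'.cover_sound hinv'
          (Subgroup.mem_centralizer_singleton_iff.1 g.2) hX c.p _ _ l rest h hcov' hls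
        obtain ⟨j, hj⟩ := hleaf _ hreach
        exact ⟨(⟨k, hk⟩, j), hj⟩
      choose κ hκ using hkey
      rw [cond_true]
      calc Nat.card (Subgroup.centralizer {x} : Subgroup S.G)
          ≤ Nat.card (Fin c.p × Fin c.cxTab.length) :=
            Nat.card_le_card_of_injective κ fun g g' e =>
              Subtype.ext (mul_left_cancel (hdet _ _ _ (hκ g) (e ▸ hκ g')))
        _ = c.p * c.cxTab.length := by simp
  -- the cases
  have hcases : ∀ i ∈ c.exps, ∀ β : MulAut S.G, β x = x ^ i → β y = y →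
      (i = 1 ∧ β z = z) ∨ (i = c.i0 ∧ β z = zf) := by
    intro i hi β hbx hby
    obtain ⟨E', C', V', he', hρ', hcls', hV', h⟩ := withBase_spec T hz
    have hinv' : C'.Invariant := hinv C' hρ' hcls'
    obtain ⟨XI, -, hXI, h⟩ := withTraces_spec C' h
    obtain ⟨ls, hls, h⟩ := C'.withLevels_spec (hV' 1 (by norm_num)).2 (hV' 4 (by norm_num)).1
      (s2 := c.elt S 4) (by rw [he']; rfl) h
    have hg : β z * y = c.elt S 4 * β z := by
      conv_lhs => rw [← hby]
      rw [← map_mul, hzy, map_mul, map_pow, hby, hye]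
    obtain ⟨vs, st, hok, hst, hresp⟩ := C'.node_sound hinv' hg (hV' 4 (by norm_num)).2 _ _ ls h hls
    obtain ⟨j, hj, rfl⟩ := List.getElem_of_mem hi
    have hok' := List.all_eq_true.1 hok j (List.mem_range.2 hj)
    rw [List.getD_eq_getElem _ _ hj] at hok'
    rcases hv : vs.getD j (Verdict.keep false) with t | ⟨rel, p0, steps⟩ <;> rw [hv] at hok'
    · simp only [verdictOK, Bool.and_eq_true, beq_iff, List.all_eq_true] at hok'
      obtain ⟨hit, hrig, hag⟩ := hok'
      have key : ∀ (a : ℕ), a < 5 → a = (bif t then 3 else 2) → β z = c.elt S a := by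
        intro a ha e
        refine (eq_of_inv_mul_eq_one (C'.rigid_sound hinv' (fun o ho => ?_) hlt hrig
          (roots_spec T C' hρ' hchain hinj hcard hroots) fun o ho => ?_)).symm
        · obtain ⟨e', hem, rfl⟩ := List.mem_map.1 ho
          exact (hst e' hem).1
        · obtain ⟨e', hem, rfl⟩ := List.mem_map.1 ho
          have h1 := hag e' hem
          rw [← e, C'.lane_is (hV' a ha).2 (C'.isCol_lt (hst e' hem).1)] at h1
          show C'.pt _ e'.1.1 = e'.1.1
          rw [C'.pt_mul, hresp e' hem, ← h1]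
          exact C'.pt_inv _ _
      cases t
      · exact Or.inl ⟨hit, key 2 (by norm_num) rfl⟩
      · exact Or.inr ⟨hit, key 3 (by norm_num) rfl⟩
    · exfalso
      simp only [verdictOK, Bool.and_eq_true, Nat.blt_eq] at hok'
      obtain ⟨hrel, hp0, hrun⟩ := hok'
      have hXj : C'.Is (XI.getD j 0) (x ^ c.exps[j]) := by
        have := (hXI j (by simpa using hj)).2
        simp only [List.getD_eq_getElem?_getD, List.getElem?_map, List.getElem?_eq_getElem hj,
          Option.map_some, Option.getD_some, he'] at this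
        rw [ev_flatten] at this
        simpa [hxdef, elt, List.getD_eq_getElem?_getD] using this
      have h1 := C'.run_sound hinv' hst hresp hXj (hV' 1 (by norm_num)).2 hrun hp0
      apply h1
      set R := c.rels.getD rel [] with hRdef
      have hRmem : R ∈ c.rels := by
        rw [hRdef, List.getD_eq_getElem _ _ hrel]
        exact List.getElem_mem hrel
      have h2 : ev (Ctx.tri (x ^ c.exps[j]) y (β z)) R = β (ev (Ctx.tri x y z) R) := by
        rw [show β (ev (Ctx.tri x y z) R) = β.toMonoidHom (ev (Ctx.tri x y z) R) from rfl, map_ev]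
        congr 1
        funext a
        rcases a with _ | _ | _ | a <;> simp [Ctx.tri, hbx, hby]
      show C'.pt (ev (Ctx.tri (x ^ c.exps[j]) y (β z)) R) p0 = p0
      rw [h2, hrels R hRmem, map_one, C'.pt_one]
  -- generation
  have htop : Subgroup.closure ({x, y, z} : Set S.G) = ⊤ := by
    obtain ⟨E', C', V', he', hρ', hcls', hV', h⟩ := withBase_spec T hgen
    simp only [List.all_eq_true, Bool.and_eq_true, List.mem_range, Nat.blt_eq, beq_iff] at h
    rw [eq_top_iff, ← Setup.closure_el T.gens T.letters, Subgroup.closure_le]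
    rintro _ ⟨a, rfl⟩
    obtain ⟨h3', h'⟩ := h a a.2
    have hIs' : ∀ b ∈ c.gens.getD a [], C'.Is (V'.getD b 0) (c.elt S b) :=
      fun b hb => (hV' b (by have := h3' b hb; omega)).2
    have e : ev (c.elt S) (c.gens.getD a []) = S.el a := by
      refine eq_of_inv_mul_eq_one (roots_spec T C' hρ' hchain hinj hcard hroots _ fun b hb => ?_)
      have h1 := h' b hb
      rw [C'.walk_eq hIs' (hlt b hb), C'.lane_is (C'.is_letter a.2) (hlt b hb), he'] at h1
      rw [C'.pt_mul, ← h1, C'.pt_inv]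
    show S.el (a : ℕ) ∈ _
    rw [← e]
    refine Setup.ev_mem _ _ _ fun b hb => Subgroup.subset_closure ?_
    have := h3' b hb
    interval_cases b <;> simp [hxdef, hydef, hzdef]
  -- the endomorphism
  obtain ⟨f, hfx, hfy, hfz⟩ : ∃ f : S.G →* S.G, f x = x ^ c.i0 ∧ f y = y ∧ f z = zf := by
    obtain ⟨E', C', V', he', hρ', hcls', hV', h⟩ := withBase_spec T hhom
    simp only [Bool.and_eq_true, beq_iff] at h
    obtain ⟨hlen, h⟩ := h
    obtain ⟨F, -, hF, h⟩ := withTraces_spec C' h
    rw [hlen] at hF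
    simp only [Bool.and_eq_true, List.all_eq_true, List.mem_range, Nat.blt_eq, beq_iff, List.mem_map,
      forall_exists_index, and_imp, forall_apply_eq_imp_iff₂] at h
    obtain ⟨hinvl, hrel, hfx, hfy, hfz⟩ := h
    let em : ℕ → S.G := fun a => ev S.el (c.fws.getD a [])
    have hFIs : ∀ a < D.k, C'.Is (F.getD a 0) (em a) := fun a ha => by
      have := (hF a ha).2
      rwa [he'] at this
    have hR' := roots_spec T C' hρ' hchain hinj hcard hroots (c := c)
    obtain ⟨hl1, -⟩ := Setup.letters_spec T.gens T.letters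
    have hnil : ∀ a ∈ ([] : List ℕ), C'.Is (F.getD a 0) (em a) := fun a ha => absurd ha List.not_mem_nil
    have hem : ∀ u : Gen, em (D.invl (S.sg u)) = (em (S.sg u))⁻¹ := fun u => by
      obtain ⟨hi, h⟩ := hinvl _ (hl1 u).1
      have := eqW_spec C' hR' hlt (u := [S.sg u, D.invl (S.sg u)]) (gs := em) (fun a ha => by
        simp only [List.mem_cons, List.not_mem_nil, or_false] at ha
        rcases ha with rfl | rfl
        exacts [hFIs _ (hl1 u).1, hFIs _ hi]) hnil h
      exact eq_inv_of_mul_eq_one_left (by simpa [ev] using this)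
    have hlift : ∀ r ∈ S.rels, FreeGroup.lift (fun u => em (S.sg u)) r = 1 := fun r hr' => by
      rw [Setup.lift_eq_ev (S := S) (D := D) _ em (fun _ => rfl) hem]
      obtain ⟨hk', h⟩ := hrel r (S.mem_allRels hr')
      exact eqW_spec C' hR' hlt (fun a ha => hFIs a (hk' a ha)) hnil h
    let f : S.G →* S.G := PresentedGroup.toGroup hlift
    have hfel : ∀ a < D.k, f (S.el a) = em a := by
      intro a ha
      obtain ⟨hx', ha'⟩ := Setup.letters_spec T.gens T.letters
      obtain ⟨u, rfl | rfl⟩ := ha' a ha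
      · rw [(hx' u).2.1]
        exact PresentedGroup.toGroup.of hlift
      · rw [(hx' u).2.2.1, map_inv, hem]
        exact congrArg _ (PresentedGroup.toGroup.of hlift)
    have hfev : ∀ w : List ℕ, (∀ a ∈ w, a < D.k) → f (ev S.el w) = ev em w := fun w hw => by
      rw [map_ev]
      exact Setup.ev_congr w fun a ha => hfel a (hw a ha)
    have conc : ∀ (a : ℕ) (g : S.G), a < 5 →
        (∀ b ∈ c.roots, walk E'.B F (c.ws.getD a []) b = C'.pt g b) → f (c.elt S a) = g := by
      intro a g ha h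
      have hk' := (hV' a ha).1
      show f (ev S.el (c.ws.getD a [])) = g
      rw [hfev _ hk']
      refine eq_of_inv_mul_eq_one (hR' _ fun b hb => ?_)
      rw [C'.pt_mul, ← h b hb, C'.walk_eq (fun i hi => hFIs i (hk' i hi)) (hlt b hb), C'.pt_inv]
    refine ⟨f, conc 0 _ (by norm_num) fun b hb => ?_, conc 1 _ (by norm_num) fun b hb => ?_,
      conc 2 _ (by norm_num) fun b hb => ?_⟩
    · rw [hfx b hb, C'.walk_eq (gs := c.elt S) (fun i hi => by
        rw [List.eq_of_mem_replicate hi]; exact (hV' 0 (by norm_num)).2) (hlt b hb), ev_replicate]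
    · rw [hfy b hb]
      exact C'.lane_is (hV' 1 (by norm_num)).2 (hlt b hb)
    · rw [hfz b hb]
      exact C'.lane_is (hV' 3 (by norm_num)).2 (hlt b hb)
  refine card_out_two_of_data (p := c.p) (r := c.r) (s := c.s) hox hoy hyx hzy hp2
    (fun b hb hb' => (hs b hb).resolve_left (fun h => h hb')) hs1 hr
    (fun g hg => normalizer_eq c.s hox hoy hyx hcop hp2 hC hL hidx hg) c.exps
    (fun i hi hi' => (hI i hi).resolve_left hi') hcases f hfx hfy hfz htop hi0
    (fun b hb hb' => (hib b hb).resolve_left (fun h => h hb')) hne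

end Cert

end Cfsg.Agent.OutColour
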